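import Cfsg.Agent.LocalStructure.Averaging

/-!
# Sylow subgroups and normal subgroups of subgroups; Ω₁(Z(T)); the Frattini subgroup of a p-group
-/

namespace CfsgLib.LocalStructure

open Subgroup Cfsg
open scoped commutatorElement

variable {G : Type*} [Group G] {p : ℕ}

/-- `Ω₁(Z(T))` in the ambient group. -/
abbrev omegaZ (p : ℕ) (T : Subgroup G) : Subgroup G := omegaOne p (T ⊓ centralizer (T : Set G))

theorem mem_omegaZ {T : Subgroup G} {x : G} :
    x ∈ omegaZ p T ↔ x ∈ T ∧ x ∈ centralizer (T : Set G) ∧ x ^ p = 1 := by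
  refine ⟨fun hx => ?_, fun h => subset_closure ⟨⟨h.1, h.2.1⟩, h.2.2⟩⟩
  induction hx using closure_induction with
  | mem x hx => exact ⟨hx.1.1, hx.1.2, hx.2⟩
  | one => exact ⟨T.one_mem, one_mem _, one_pow p⟩
  | mul x y _ _ h1 h2 =>
    refine ⟨T.mul_mem h1.1 h2.1, mul_mem h1.2.1 h2.2.1, ?_⟩
    rw [(show Commute x y from mem_centralizer_iff.1 h2.2.1 x h1.1).mul_pow, h1.2.2, h2.2.2,
      one_mul]
  | inv x _ h1 => exact ⟨T.inv_mem h1.1, inv_mem h1.2.1, by rw [inv_pow, h1.2.2, inv_one]⟩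

theorem omegaZ_le (T : Subgroup G) : omegaZ p T ≤ T := fun _ hx => (mem_omegaZ.1 hx).1

theorem omegaZ_le_centralizer (T : Subgroup G) : omegaZ p T ≤ centralizer (T : Set G) :=
  fun _ hx => (mem_omegaZ.1 hx).2.1

theorem le_centralizer_omegaZ (T : Subgroup G) : T ≤ centralizer (omegaZ p T : Set G) :=
  le_centralizer_iff.1 (omegaZ_le_centralizer T)

theorem omegaZ_elab (T : Subgroup G) : IsElementaryAbelian p (omegaZ p T) :=
  isElementaryAbelian_iff.2
    ⟨fun a ha _ hb => mem_centralizer_iff.1 (mem_omegaZ.1 hb).2.1 a (mem_omegaZ.1 ha).1,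
      fun _ ha => (mem_omegaZ.1 ha).2.2⟩

theorem normalizer_le_normalizer_omegaZ (T : Subgroup G) :
    Subgroup.normalizer (T : Set G) ≤ Subgroup.normalizer (omegaZ p T : Set G) := by
  intro x hx
  rw [mem_normalizer_iff]
  intro z
  rw [mem_omegaZ, mem_omegaZ, ← mem_normalizer_iff.1 hx z,
    ← mem_normalizer_iff.1 (normalizer_le_normalizer_centralizer T hx) z, conj_pow, conj_eq_one_iff]

theorem conj_map_eq_of_mem_normalizer {H : Subgroup G} {x : G}
    (hx : x ∈ Subgroup.normalizer (H : Set G)) : H.map (MulAut.conj x).toMonoidHom = H := by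
  ext z
  refine ⟨?_, fun hz => ⟨x⁻¹ * z * x, ?_, by simp [mul_assoc]⟩⟩
  · rintro ⟨w, hw, rfl⟩
    exact (mem_normalizer_iff.1 hx w).1 hw
  · simpa using (mem_normalizer_iff.1 (inv_mem hx) z).1 hz

theorem mem_normalizer_of_forall [Finite G] {H : Subgroup G} {x : G}
    (h : ∀ y ∈ H, x * y * x⁻¹ ∈ H) : x ∈ Subgroup.normalizer (H : Set G) :=
  mem_normalizer_fintype h

theorem le_normalizer_inf (A B : Subgroup G) :
    Subgroup.normalizer (A : Set G) ⊓ Subgroup.normalizer (B : Set G) ≤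
      Subgroup.normalizer ((A ⊓ B : Subgroup G) : Set G) := by
  intro x hx
  rw [mem_normalizer_iff]
  intro y
  rw [mem_inf, mem_inf, ← mem_normalizer_iff.1 hx.1 y, ← mem_normalizer_iff.1 hx.2 y]

section SylowLemmas

variable [Finite G] [Fact p.Prime]

theorem pCoreOf_le_sylow (T : Sylow p G) {L : Subgroup G} (h : (T : Subgroup G) ≤ L) :
    pCoreOf p L ≤ (T : Subgroup G) := by
  have := pCore_normal (p := p) (G := ↥L)
  have h1 : pCore p ↥L ≤ (T.subtype h : Subgroup ↥L) :=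
    IsPGroup.le_sylow_of_normal pCore_isPGroup _
  rw [T.coe_subtype h] at h1
  exact (map_mono h1).trans (map_subgroupOf_eq_of_le h).le

theorem pCore_le_sylow (T : Sylow p G) : pCore p G ≤ (T : Subgroup G) :=
  have := pCore_normal (p := p) (G := G)
  IsPGroup.le_sylow_of_normal pCore_isPGroup T

/-- A Sylow subgroup of `G` normalizing `X` meets `X` in a Sylow subgroup of `X`. -/
theorem sylow_inf (T : Sylow p G) {X : Subgroup G}
    (hT : (T : Subgroup G) ≤ Subgroup.normalizer (X : Set G)) :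
    ∃ P : Sylow p ↥X, (P : Subgroup ↥X) = ((T : Subgroup G) ⊓ X).subgroupOf X := by
  set N := Subgroup.normalizer (X : Set G)
  obtain ⟨R⟩ : Nonempty (Sylow p ↥X) := inferInstance
  obtain ⟨Q, hQ⟩ := IsPGroup.exists_le_sylow
    ((R.2.map X.subtype).comap_subtype (K := N))
  obtain ⟨y, hy⟩ := MulAction.exists_smul_eq ↥N (T.subtype hT) Q
  have hy' : ∀ z : G, z ∈ (T : Subgroup G) → ∀ hz : z ∈ N, (y * ⟨z, hz⟩ * y⁻¹ : ↥N) ∈ (Q : Subgroup ↥N) := by
    intro z hz hzN
    rw [← hy, Sylow.smul_def, Sylow.pointwise_smul_def]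
    exact ⟨⟨z, hzN⟩, hz, rfl⟩
  have hmap : (((T : Subgroup G) ⊓ X).subgroupOf X).map X.subtype = (T : Subgroup G) ⊓ X :=
    map_subgroupOf_eq_of_le inf_le_right
  have hp : IsPGroup p (((T : Subgroup G) ⊓ X).subgroupOf X) := T.2.to_inf_left.comap_subtype
  obtain ⟨P, hP⟩ := hp.exists_le_sylow
  refine ⟨P, (Subgroup.eq_of_le_of_card_ge hP ?_).symm⟩
  have hle : Nat.card ↥(P : Subgroup ↥X) = Nat.card ↥(R : Subgroup ↥X) := Sylow.card_eq_multiplicity P |>.trans (Sylow.card_eq_multiplicity R).symm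
  rw [hle, Nat.card_congr (subgroupOfEquivOfLe (H := (T : Subgroup G) ⊓ X) inf_le_right).toEquiv]
  let f : ↥(R : Subgroup ↥X) → ↥((T : Subgroup G) ⊓ X) := fun r =>
    ⟨(y : G)⁻¹ * ((r : ↥X) : G) * (y : G), by
      have hXy : (y : G)⁻¹ * ((r : ↥X) : G) * (y : G) ∈ X := by
        simpa using (mem_normalizer_iff.1 (inv_mem y.2) _).1 (r : ↥X).2
      refine ⟨?_, hXy⟩
      have hr : (⟨((r : ↥X) : G), Subgroup.le_normalizer (r : ↥X).2⟩ : ↥N) ∈ (Q : Subgroup ↥N) :=
        hQ ⟨(r : ↥X), r.2, rfl⟩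
      rw [← hy, Sylow.smul_def, Sylow.pointwise_smul_def] at hr
      obtain ⟨t, ht, he⟩ := hr
      have he' : (y : G) * (t : G) * (y : G)⁻¹ = ((r : ↥X) : G) := congrArg Subtype.val he
      rw [← he']
      have hth : (t : G) ∈ (T : Subgroup G) := ht
      simp only [mul_assoc, inv_mul_cancel, mul_one, inv_mul_cancel_left]
      exact hth⟩
  refine Nat.card_le_card_of_injective f fun a b h => ?_
  have := congrArg Subtype.val h
  simp [f] at this
  exact this

theorem not_dvd_relIndex_sylow_inf (T : Sylow p G) {X : Subgroup G}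
    (hT : (T : Subgroup G) ≤ Subgroup.normalizer (X : Set G)) :
    ¬ p ∣ ((T : Subgroup G) ⊓ X).relIndex X := by
  obtain ⟨P, hP⟩ := sylow_inf T hT
  have h := P.not_dvd_index
  rw [hP] at h
  exact h

theorem sylow_not_dvd_relIndex (T : Sylow p G) {X : Subgroup G} (h : (T : Subgroup G) ≤ X) :
    ¬ p ∣ (T : Subgroup G).relIndex X := by
  have := (T.subtype h).not_dvd_index
  rwa [T.coe_subtype h] at this

/-- Frattini argument, elementwise, inside a subgroup: if `L` normalizes `C ≤ L` and `R` is a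
Sylow subgroup of `C` then `L = N_L(R) C`. -/
theorem frattini_argument {C L : Subgroup G} (hCL : C ≤ L)
    (hn : L ≤ Subgroup.normalizer (C : Set G)) (R : Sylow p ↥C) {g : G} (hg : g ∈ L) :
    ∃ a ∈ L ⊓ Subgroup.normalizer (((R : Subgroup ↥C).map C.subtype : Subgroup G) : Set G),
      ∃ c ∈ C, g = a * c := by
  let e : ↥C →* ↥C :=
    { toFun := fun x => ⟨g * x * g⁻¹, (mem_normalizer_iff.1 (hn hg) x).1 x.2⟩
      map_one' := Subtype.ext (show g * (1 : G) * g⁻¹ = 1 by group)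
      map_mul' := fun a b => Subtype.ext (show
        g * ((a : G) * b) * g⁻¹ = (g * a * g⁻¹) * (g * b * g⁻¹) by group) }
  have he : Function.Injective e := fun a b h => Subtype.ext (by
    have : g * (a : G) * g⁻¹ = g * b * g⁻¹ := congrArg Subtype.val h
    simpa using this)
  obtain ⟨Q, hQ⟩ := IsPGroup.exists_le_sylow (R.2.map e)
  have hQeq : (R : Subgroup ↥C).map e = Q := Subgroup.eq_of_le_of_card_ge hQ (by
    rw [card_map_of_injective he, R.card_eq_multiplicity, Q.card_eq_multiplicity])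
  obtain ⟨c, hc⟩ := MulAction.exists_smul_eq ↥C Q R
  have hcg : ∀ r ∈ (R : Subgroup ↥C), c * e r * c⁻¹ ∈ (R : Subgroup ↥C) := by
    intro r hr
    have : e r ∈ (Q : Subgroup ↥C) := hQeq ▸ mem_map_of_mem e hr
    rw [← hc, Sylow.smul_def, Sylow.pointwise_smul_def]
    exact ⟨e r, this, rfl⟩
  refine ⟨(c : G) * g, ⟨L.mul_mem (hCL c.2) hg, mem_normalizer_of_forall ?_⟩, g⁻¹ * (c : G)⁻¹ * g,
    ?_, by group⟩
  · rintro _ ⟨r, hr, rfl⟩
    refine ⟨_, hcg r hr, ?_⟩
    show (c : G) * (g * r * g⁻¹) * (c : G)⁻¹ = (c * g) * r * (c * g)⁻¹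
    group
  · simpa using (mem_normalizer_iff.1 (hn (L.inv_mem hg)) _).1 (C.inv_mem c.2)

theorem pResOf_sup_sylow_inf (T : Sylow p G) {D : Subgroup G}
    (hT : (T : Subgroup G) ≤ Subgroup.normalizer (D : Set G)) :
    pResOf p D ⊔ ((T : Subgroup G) ⊓ D) = D := by
  obtain ⟨P, hP⟩ := sylow_inf T hT
  have h := congrArg (Subgroup.map D.subtype) (sylow_sup_pResidual P)
  rw [Subgroup.map_sup, map_pResidual, hP, map_subgroupOf_eq_of_le inf_le_right,
    ← MonoidHom.range_eq_map, range_subtype] at h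
  rwa [sup_comm]

end SylowLemmas

section FrattiniPGroup

/-- A normal subgroup with quotient of exponent `p` and abelian contains the Frattini subgroup. -/
theorem frattini_le_of_commutator_le_of_pow_mem [Finite G] [Fact p.Prime] {D : Subgroup G}
    (hc : commutator G ≤ D) (hp : ∀ x : G, x ^ p ∈ D) : frattini G ≤ D := by
  intro x hx
  by_contra hxD
  obtain ⟨K, hK, hmax⟩ := Set.Finite.exists_maximal
    (Set.toFinite {K : Subgroup G | D ≤ K ∧ x ∉ K}) ⟨D, le_rfl, hxD⟩
  have hKn : K.Normal := Subgroup.Normal.of_commutator_le (G := G) (hc.trans hK.1)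
  have hmax' : ∀ L, K < L → x ∈ L := fun L hL => by
    by_contra h
    exact hL.not_ge (hmax ⟨hK.1.trans hL.le, h⟩ hL.le)
  have htop : ∀ y, y ∈ K ⊔ zpowers x := by
    intro y
    by_cases hy : y ∈ K
    · exact mem_sup_left hy
    have hlt : K < K ⊔ zpowers y := lt_of_le_of_ne le_sup_left fun h =>
      hy (h ▸ mem_sup_right (mem_zpowers y))
    obtain ⟨k, hk, _, ⟨i, rfl⟩, hki⟩ := mem_sup_of_normal_left.1 (hmax' _ hlt)
    simp only at hki
    have hyp : y ^ (p : ℤ) ∈ K := by rw [zpow_natCast]; exact hK.1 (hp y)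
    have hi : ¬ (p : ℤ) ∣ i := by
      rintro ⟨j, rfl⟩
      exact hK.2 (hki ▸ K.mul_mem hk (zpow_mul y (p : ℤ) j ▸ K.zpow_mem hyp j))
    obtain ⟨a, b, hab⟩ := ((Int.prime_iff_natAbs_prime.2
      (by simpa using (Fact.out : p.Prime))).coprime_iff_not_dvd.2 hi :
      IsCoprime (p : ℤ) i)
    have e : y = (y ^ (p : ℤ)) ^ a * (y ^ i) ^ b := by
      rw [← zpow_mul, ← zpow_mul, ← zpow_add, mul_comm (p : ℤ), mul_comm i, hab, zpow_one]
    have hyi : y ^ i = k⁻¹ * x := by rw [← hki]; group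
    rw [e, hyi]
    exact mul_mem (mem_sup_left (K.zpow_mem hyp a))
      (zpow_mem (mul_mem (mem_sup_left (K.inv_mem hk)) (mem_sup_right (mem_zpowers x))) b)
  have hcoatom : IsCoatom K := by
    refine ⟨fun h => hK.2 (h ▸ mem_top x), fun L hL => ?_⟩
    exact eq_top_iff.2 fun y _ => sup_le hL.le (zpowers_le.2 (hmax' L hL)) (htop y)
  exact hK.2 (frattini_le_coatom hcoatom hx)

end FrattiniPGroup

end CfsgLib.LocalStructure
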