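import Cfsg.Agent.LocalStructure.Elements

/-!
# O_p, O^p and O^{p'} of subgroups; p-closed groups; subnormal subgroups versus O_p and O^p
-/

namespace CfsgLib.LocalStructure

open Subgroup Cfsg
open scoped commutatorElement

variable {G : Type*} [Group G] {p : ℕ}

section PCore

theorem pCore_normal : (pCore p G).Normal := Subgroup.sSup_normal _ fun _ h => h.1

theorem pCore_isPGroup : IsPGroup p (pCore p G) :=
  Sylow.sSup_of_normal _ (fun _ h => h.2) (fun _ h => h.1)

theorem le_pCore {N : Subgroup G} [hN : N.Normal] (hp : IsPGroup p N) : N ≤ pCore p G :=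
  le_sSup ⟨hN, hp⟩

theorem pCoreOf_le (L : Subgroup G) : pCoreOf p L ≤ L := map_subtype_le _

theorem pCoreOf_isPGroup (L : Subgroup G) : IsPGroup p (pCoreOf p L) :=
  (pCore_isPGroup).map _

theorem normal_subgroupOf_pCoreOf (L : Subgroup G) : ((pCoreOf p L).subgroupOf L).Normal := by
  rw [pCoreOf, subgroupOf, comap_map_eq_self_of_injective L.subtype_injective]
  exact pCore_normal

theorem le_normalizer_pCoreOf (L : Subgroup G) :
    L ≤ Subgroup.normalizer (pCoreOf p L : Set G) :=
  (normal_subgroupOf_iff_le_normalizer (pCoreOf_le L)).1 (normal_subgroupOf_pCoreOf L)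

theorem le_pCoreOf {N L : Subgroup G} (h : N ≤ L) (hn : L ≤ Subgroup.normalizer (N : Set G))
    (hp : IsPGroup p N) : N ≤ pCoreOf p L := by
  rw [pCoreOf, ← map_subgroupOf_eq_of_le h]
  have := (normal_subgroupOf_iff_le_normalizer h).2 hn
  exact map_mono (le_pCore hp.comap_subtype)

theorem pCoreOf_top : pCoreOf p (⊤ : Subgroup G) = pCore p G := by
  have := pCore_normal (p := p) (G := G)
  refine le_antisymm ?_ (le_pCoreOf le_top (normalizer_eq_top (H := pCore p G)).ge pCore_isPGroup)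
  have : (pCoreOf p (⊤ : Subgroup G)).Normal :=
    normalizer_eq_top_iff.1 (top_le_iff.1 (le_normalizer_pCoreOf ⊤))
  exact le_pCore (pCoreOf_isPGroup _)

/-- Whoever normalizes `L` normalizes `O_p(L)`. -/
theorem normalizer_le_normalizer_pCoreOf (L : Subgroup G) :
    Subgroup.normalizer (L : Set G) ≤ Subgroup.normalizer (pCoreOf p L : Set G) := by
  intro x hx
  have key : ∀ y ∈ Subgroup.normalizer (L : Set G),
      (pCoreOf p L).map (MulAut.conj y).toMonoidHom ≤ pCoreOf p L := by
    intro y hy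
    have hL : L.map (MulAut.conj y).toMonoidHom = L := by
      ext z
      simp only [mem_map, MulEquiv.toMonoidHom_eq_coe, MonoidHom.coe_coe, MulAut.conj_apply]
      refine ⟨?_, fun hz => ⟨y⁻¹ * z * y, ?_, by group⟩⟩
      · rintro ⟨w, hw, rfl⟩; exact (mem_normalizer_iff.1 hy w).1 hw
      · have := (mem_normalizer_iff.1 (inv_mem hy) z).1 hz
        simpa using this
    refine le_pCoreOf ((map_mono (pCoreOf_le L)).trans hL.le) ?_ ((pCoreOf_isPGroup L).map _)
    refine hL.ge.trans ((map_mono (le_normalizer_pCoreOf (p := p) L)).trans ?_)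
    exact le_normalizer_map _
  rw [mem_normalizer_iff]
  intro z
  refine ⟨fun hz => key x hx ⟨z, hz, rfl⟩, fun hz => ?_⟩
  have := key x⁻¹ (inv_mem hx) ⟨_, hz, rfl⟩
  simpa [mul_assoc] using this

theorem pCoreOf_normal (L : Subgroup G) [L.Normal] : (pCoreOf p L).Normal :=
  normalizer_eq_top_iff.1 (top_le_iff.1 ((normalizer_eq_top (H := L)).ge.trans
    (normalizer_le_normalizer_pCoreOf L)))

theorem pCoreOf_le_of_isSubnormal {L : Subgroup G} (hL : L.IsSubnormal) :
    pCoreOf p L ≤ pCore p G := by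
  induction hL with
  | top => exact pCoreOf_top.le
  | step H K hle _ hN ih =>
    refine le_trans (le_pCoreOf ((pCoreOf_le H).trans hle) ?_ (pCoreOf_isPGroup H)) ih
    exact ((normal_subgroupOf_iff_le_normalizer hle).1 hN).trans
      (normalizer_le_normalizer_pCoreOf H)

theorem le_pCore_of_isSubnormal {A : Subgroup G} (hA : A.IsSubnormal) (hp : IsPGroup p A) :
    A ≤ pCore p G :=
  (le_pCoreOf le_rfl le_normalizer hp).trans (pCoreOf_le_of_isSubnormal hA)

theorem pCoreOf_eq_inf_of_isSubnormal {L : Subgroup G} (hL : L.IsSubnormal) :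
    pCoreOf p L = pCore p G ⊓ L := by
  refine le_antisymm (le_inf (pCoreOf_le_of_isSubnormal hL) (pCoreOf_le L))
    (le_pCoreOf inf_le_right ?_ pCore_isPGroup.to_inf_left)
  have := pCore_normal (p := p) (G := G)
  intro x hx
  rw [mem_normalizer_iff]
  intro y
  constructor
  · rintro ⟨h1, h2⟩
    exact ⟨Normal.conj_mem inferInstance y h1 x, L.mul_mem (L.mul_mem hx h2) (L.inv_mem hx)⟩
  · rintro ⟨h1, h2⟩
    have e : y = x⁻¹ * (x * y * x⁻¹) * x⁻¹⁻¹ := by group
    exact e ▸ ⟨Normal.conj_mem inferInstance _ h1 x⁻¹,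
      L.mul_mem (L.mul_mem (L.inv_mem hx) h2) (L.inv_mem (L.inv_mem hx))⟩

/-- `C_L(O_p(L)) ≤ O_p(L)` read inside the ambient group. -/
theorem charP_iff (L : Subgroup G) :
    centralizer (pCore p ↥L : Set ↥L) ≤ pCore p ↥L ↔
      L ⊓ centralizer (pCoreOf p L : Set G) ≤ pCoreOf p L := by
  constructor
  · rintro h x ⟨hxL, hxc⟩
    refine ⟨⟨x, hxL⟩, h ?_, rfl⟩
    exact mem_centralizer_iff.2 fun y hy => Subtype.ext (mem_centralizer_iff.1 hxc y ⟨y, hy, rfl⟩)
  · intro h x hx
    have hx' : (x : G) ∈ centralizer (pCoreOf p L : Set G) := mem_centralizer_iff.2 fun y hy => by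
      obtain ⟨z, hz, rfl⟩ := hy
      exact congrArg Subtype.val (mem_centralizer_iff.1 hx z hz)
    obtain ⟨z, hz, he⟩ := h ⟨x.2, hx'⟩
    exact (Subtype.ext he : z = x) ▸ hz

end PCore

section PResidual

/-- `O^p(K)` of a subgroup, in the ambient group. -/
def pResOf (p : ℕ) (K : Subgroup G) : Subgroup G :=
  closure {g : G | g ∈ K ∧ (orderOf g).Coprime p}

theorem map_pResidual (K : Subgroup G) :
    (pResidual p ↥K).map K.subtype = pResOf p K := by
  rw [pResidual, MonoidHom.map_closure, pResOf]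
  congr 1
  ext g
  simp only [Set.mem_image, Set.mem_ofPred_eq, coe_subtype]
  constructor
  · rintro ⟨x, hx, rfl⟩; exact ⟨x.2, by rwa [orderOf_coe]⟩
  · rintro ⟨hg, hc⟩; exact ⟨⟨g, hg⟩, by rwa [← orderOf_coe], rfl⟩

theorem mem_pResOf {K : Subgroup G} {g : G} (hg : g ∈ K) (hc : (orderOf g).Coprime p) :
    g ∈ pResOf p K := subset_closure ⟨hg, hc⟩

theorem pResOf_le (K : Subgroup G) : pResOf p K ≤ K := (closure_le _).2 fun _ h => h.1

theorem pResOf_mono {K L : Subgroup G} (h : K ≤ L) : pResOf p K ≤ pResOf p L :=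
  Subgroup.closure_mono fun _ hg => ⟨h hg.1, hg.2⟩

theorem pResOf_le_of_forall {K N : Subgroup G}
    (h : ∀ g ∈ K, (orderOf g).Coprime p → g ∈ N) : pResOf p K ≤ N :=
  (closure_le _).2 fun g hg => h g hg.1 hg.2

theorem pResOf_idem (K : Subgroup G) : pResOf p (pResOf p K) = pResOf p K :=
  le_antisymm (pResOf_le _) (pResOf_le_of_forall fun _ hg hc => mem_pResOf (mem_pResOf hg hc) hc)

theorem pResOf_top : pResOf p (⊤ : Subgroup G) = pResidual p G := by
  simp [pResOf, pResidual]

theorem pResOf_pResidual : pResOf p (pResidual p G) = pResidual p G := by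
  rw [← pResOf_top, pResOf_idem]

theorem pResidual_normal : (pResidual p G).Normal := by
  refine ⟨fun n hn x => ?_⟩
  have : (pResidual p G).map (MulAut.conj x).toMonoidHom ≤ pResidual p G := by
    rw [pResidual, MonoidHom.map_closure]
    apply Subgroup.closure_mono
    rintro _ ⟨g, hg, rfl⟩
    rw [Set.mem_ofPred_eq, MulEquiv.toMonoidHom_eq_coe, MonoidHom.coe_coe,
      MulEquiv.orderOf_eq]
    exact hg
  exact this ⟨n, hn, rfl⟩

theorem normalizer_le_normalizer_pResOf (K : Subgroup G) :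
    Subgroup.normalizer (K : Set G) ≤ Subgroup.normalizer (pResOf p K : Set G) := by
  intro x hx
  have key : ∀ y ∈ Subgroup.normalizer (K : Set G), ∀ z ∈ pResOf p K, y * z * y⁻¹ ∈ pResOf p K := by
    intro y hy z hz
    have hle : (pResOf p K).map (MulAut.conj y).toMonoidHom ≤ pResOf p K := by
      rw [pResOf, MonoidHom.map_closure]
      apply Subgroup.closure_mono
      rintro _ ⟨g, ⟨hg, hc⟩, rfl⟩
      refine ⟨(mem_normalizer_iff.1 hy g).1 hg, ?_⟩
      rw [MulEquiv.toMonoidHom_eq_coe, MonoidHom.coe_coe, MulEquiv.orderOf_eq]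
      exact hc
    exact hle ⟨z, hz, rfl⟩
  rw [mem_normalizer_iff]
  refine fun z => ⟨key x hx z, fun hz => ?_⟩
  have := key x⁻¹ (inv_mem hx) _ hz
  simpa [mul_assoc] using this

theorem pResOf_normal (K : Subgroup G) [K.Normal] : (pResOf p K).Normal :=
  normalizer_eq_top_iff.1 (top_le_iff.1 ((normalizer_eq_top (H := K)).ge.trans
    (normalizer_le_normalizer_pResOf K)))

theorem pResOf_isSubnormal {K : Subgroup G} (hK : K.IsSubnormal) : (pResOf p K).IsSubnormal :=
  IsSubnormal.step _ K (pResOf_le K) hK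
    ((normal_subgroupOf_iff_le_normalizer (pResOf_le K)).2
      (le_normalizer.trans (normalizer_le_normalizer_pResOf K)))

theorem exists_pow_mem_pResOf [Finite G] [Fact p.Prime] {K : Subgroup G} {g : G} (hg : g ∈ K) :
    ∃ k : ℕ, g ^ p ^ k ∈ pResOf p K := by
  obtain ⟨a, b, ha, hb, ⟨k, hk⟩, hbc, hab⟩ := exists_pPart_mul (p := p) g
  have hcomm : Commute a b := by
    obtain ⟨i, rfl⟩ := ha
    obtain ⟨j, rfl⟩ := hb
    exact Commute.zpow_zpow_self g i j
  refine ⟨k, ?_⟩
  rw [← hab, hcomm.mul_pow, ← hk, pow_orderOf_eq_one, one_mul]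
  exact pow_mem (mem_pResOf (zpowers_le.2 hg hb) hbc) _

/-- Lifting: `O^p` commutes with homomorphisms. -/
theorem map_pResOf [Finite G] [Fact p.Prime] {G' : Type*} [Group G'] (f : G →* G')
    (K : Subgroup G) : (pResOf p K).map f = pResOf p (K.map f) := by
  refine le_antisymm ?_ (pResOf_le_of_forall ?_)
  · rw [pResOf, MonoidHom.map_closure, closure_le]
    rintro _ ⟨g, ⟨hg, hc⟩, rfl⟩
    exact mem_pResOf ⟨g, hg, rfl⟩ (hc.of_dvd_left (orderOf_map_dvd f g))
  · rintro _ ⟨g, hg, rfl⟩ hc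
    obtain ⟨k, hk⟩ := exists_pow_mem_pResOf (p := p) hg
    exact mem_of_coprime_of_pow_mem (k := k) hc (map_pow f g _ ▸ mem_map_of_mem f hk)

theorem pResOf_eq_bot [Finite G] [Fact p.Prime] {K : Subgroup G} :
    pResOf p K = ⊥ ↔ IsPGroup p K := by
  constructor
  · intro h
    exact isPGroup_of_coprime_eq_one fun b hb hc => (mem_bot).1 (h ▸ mem_pResOf hb hc)
  · intro h
    rw [eq_bot_iff]
    exact pResOf_le_of_forall fun g hg hc => mem_bot.2 (eq_one_of_coprime_of_mem h hg hc)

theorem isPGroup_quotient_pResidual [Finite G] [Fact p.Prime]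
    [(pResidual p G).Normal] : IsPGroup p (G ⧸ pResidual p G) := by
  intro x
  obtain ⟨g, rfl⟩ := QuotientGroup.mk_surjective x
  obtain ⟨k, hk⟩ := exists_pow_mem_pResOf (p := p) (mem_top g)
  rw [pResOf_top] at hk
  exact ⟨k, by rw [← QuotientGroup.mk_pow, QuotientGroup.eq_one_iff]; exact hk⟩

/-- A normal subgroup with `p`-group quotient contains `O^p`. -/
theorem pResidual_le_of_isPGroup_quotient {N : Subgroup G} [N.Normal]
    (h : IsPGroup p (G ⧸ N)) : pResidual p G ≤ N := by
  rw [← pResOf_top]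
  refine pResOf_le_of_forall fun g _ hc => ?_
  obtain ⟨k, hk⟩ := h (g : G ⧸ N)
  rw [← QuotientGroup.mk_pow, QuotientGroup.eq_one_iff] at hk
  exact mem_of_coprime_of_pow_mem hc hk

theorem sylow_sup_pResidual [Finite G] [Fact p.Prime] (T : Sylow p G) :
    (T : Subgroup G) ⊔ pResidual p G = ⊤ := by
  have := pResidual_normal (p := p) (G := G)
  obtain ⟨n, hn⟩ := IsPGroup.index (isPGroup_quotient_pResidual (p := p) (G := G)) ⊥
  rw [index_bot, ← index_eq_card] at hn
  rw [← index_eq_one]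
  have h1 := index_dvd_of_le (le_sup_right : pResidual p G ≤ (T : Subgroup G) ⊔ pResidual p G)
  rw [hn] at h1
  have h2 := index_dvd_of_le (le_sup_left : (T : Subgroup G) ≤ (T : Subgroup G) ⊔ pResidual p G)
  exact Nat.eq_one_of_dvd_coprimes
    (Nat.Coprime.pow_left n ((Nat.Prime.coprime_iff_not_dvd Fact.out).2 T.not_dvd_index)) h1 h2

end PResidual

section Subnormal

/-- For a normal `p`-subgroup `P` and a subnormal subgroup `B`, `O^p(PB) = O^p(B)`. -/
theorem pResOf_sup_eq_of_isSubnormal {P B : Subgroup G} [P.Normal] (hP : IsPGroup p P)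
    (hB : B.IsSubnormal) : pResOf p (P ⊔ B) = pResOf p B := by
  refine le_antisymm (pResOf_le_of_forall fun g hg hc => ?_) (pResOf_mono le_sup_right)
  suffices h : ∀ K : Subgroup G, K.IsSubnormal → B ≤ K → g ∈ K from mem_pResOf (h B hB le_rfl) hc
  intro K hK
  induction hK with
  | top => exact fun _ => mem_top g
  | step H K hle _ hN ih =>
    intro hBH
    have hgK := ih (hBH.trans hle)
    obtain ⟨a, ha, b, hb, rfl⟩ := mem_sup_of_normal_left.1 hg
    have haK : a ∈ K := by
      have := K.mul_mem hgK (K.inv_mem (hle (hBH hb)))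
      simpa using this
    obtain ⟨k, hk⟩ := hP ⟨a, ha⟩
    have hk' : a ^ p ^ k = 1 := by simpa using congrArg Subtype.val hk
    have := hN
    have hq : ((⟨a * b, hgK⟩ : K) : K ⧸ H.subgroupOf K) = ((⟨a, haK⟩ : K) : K ⧸ H.subgroupOf K) := by
      rw [QuotientGroup.eq, mem_subgroupOf]
      simpa [mul_assoc] using hBH hb
    have : ((⟨a * b, hgK⟩ : K) ^ p ^ k : K) ∈ H.subgroupOf K := by
      rw [← QuotientGroup.eq_one_iff, QuotientGroup.mk_pow, hq, ← QuotientGroup.mk_pow]
      have : (⟨a, haK⟩ : K) ^ p ^ k = 1 := Subtype.ext (by simpa using hk')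
      rw [this, QuotientGroup.mk_one]
    exact mem_of_coprime_of_pow_mem (k := k) hc (by simpa [mem_subgroupOf] using this)

theorem sup_le_normalizer_pResOf {P B : Subgroup G} [P.Normal] (hP : IsPGroup p P)
    (hB : B.IsSubnormal) : P ⊔ B ≤ Subgroup.normalizer (pResOf p B : Set G) :=
  pResOf_sup_eq_of_isSubnormal hP hB ▸ le_normalizer.trans (normalizer_le_normalizer_pResOf _)

theorem pCore_le_normalizer_pResOf {B : Subgroup G} (hB : B.IsSubnormal) :
    pCore p G ≤ Subgroup.normalizer (pResOf p B : Set G) :=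
  have := pCore_normal (p := p) (G := G)
  le_sup_left.trans (sup_le_normalizer_pResOf pCore_isPGroup hB)

end Subnormal

end CfsgLib.LocalStructure
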