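import Mathlib
import Cfsg.Prelude.Def_LocalStructure

/-!
# p-parts of elements and coprime stability: elementary facts used in local structure arguments
-/

namespace CfsgLib.LocalStructure

open Subgroup
open scoped commutatorElement

variable {G : Type*} [Group G] {p : ℕ}

/-- Every element of a finite group is the product of commuting powers of itself, one of `p`-power
order and one of order prime to `p`. -/
theorem exists_pPart_mul [Finite G] [Fact p.Prime] (g : G) :
    ∃ a b : G, a ∈ zpowers g ∧ b ∈ zpowers g ∧ (∃ k, orderOf a = p ^ k) ∧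
      (orderOf b).Coprime p ∧ a * b = g := by
  have hp : p.Prime := Fact.out
  obtain ⟨k, m, hm, hn⟩ := Nat.exists_eq_pow_mul_and_not_dvd (orderOf_pos g).ne' p hp.ne_one
  have hcop : Nat.Coprime (p ^ k) m := ((hp.coprime_iff_not_dvd).2 hm).pow_left k
  have hbez := Nat.gcd_eq_gcd_ab (p ^ k) m
  rw [hcop.gcd_eq_one] at hbez
  set u : ℤ := Nat.gcdA (p ^ k) m
  set v : ℤ := Nat.gcdB (p ^ k) m
  have hg : g ^ ((p ^ k * m : ℕ) : ℤ) = 1 := by rw [zpow_natCast, ← hn, pow_orderOf_eq_one]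
  refine ⟨g ^ ((m : ℤ) * v), g ^ (((p ^ k : ℕ) : ℤ) * u), ⟨_, rfl⟩, ⟨_, rfl⟩, ?_, ?_, ?_⟩
  · have h1 : (g ^ ((m : ℤ) * v)) ^ (p ^ k) = 1 := by
      have e : (m : ℤ) * v * ((p ^ k : ℕ) : ℤ) = ((p ^ k * m : ℕ) : ℤ) * v := by push_cast; ring
      rw [← zpow_natCast, ← zpow_mul, e, zpow_mul, hg, one_zpow]
    obtain ⟨j, _, hj⟩ := (Nat.dvd_prime_pow hp).1 (orderOf_dvd_of_pow_eq_one h1)
    exact ⟨j, hj⟩
  · have h1 : (g ^ (((p ^ k : ℕ) : ℤ) * u)) ^ m = 1 := by
      have e : ((p ^ k : ℕ) : ℤ) * u * (m : ℤ) = ((p ^ k * m : ℕ) : ℤ) * u := by push_cast; ring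
      rw [← zpow_natCast, ← zpow_mul, e, zpow_mul, hg, one_zpow]
    exact Nat.Coprime.of_dvd_left (orderOf_dvd_of_pow_eq_one h1)
      ((hp.coprime_iff_not_dvd).2 hm).symm
  · rw [← zpow_add]
    have : (m : ℤ) * v + ((p ^ k : ℕ) : ℤ) * u = 1 := by push_cast at hbez ⊢; linarith [hbez]
    rw [this, zpow_one]

theorem eq_one_of_coprime_of_pow {b : G} (hb : (orderOf b).Coprime p) {k : ℕ}
    (h : b ^ p ^ k = 1) : b = 1 := by
  have h1 := Nat.Coprime.eq_one_of_dvd (Nat.Coprime.pow_right k hb) (orderOf_dvd_of_pow_eq_one h)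
  exact orderOf_eq_one_iff.1 h1

theorem eq_one_of_coprime_of_mem {P : Subgroup G} (hP : IsPGroup p P) {b : G} (hbP : b ∈ P)
    (hb : (orderOf b).Coprime p) : b = 1 := by
  obtain ⟨k, hk⟩ := hP ⟨b, hbP⟩
  exact eq_one_of_coprime_of_pow hb (by simpa using congrArg Subtype.val hk)

/-- A `p'`-element some `p`-power power of which lies in a subgroup lies in it. -/
theorem mem_of_coprime_of_pow_mem {K : Subgroup G} {b : G} (hb : (orderOf b).Coprime p) {k : ℕ}
    (h : b ^ p ^ k ∈ K) : b ∈ K := by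
  obtain ⟨m, hm⟩ := exists_pow_eq_self_of_coprime (n := p ^ k) (x := b)
    (Nat.Coprime.pow_right k hb).symm
  rw [← hm]
  exact K.pow_mem h m

/-- Coprime stability, one step: if the `p'`-element `x` moves `a` to `c * a` with `c = ⁅x, a⁆` a
`p`-element fixed by `x`, then `x` fixes `a`. -/
theorem commute_of_stab {x a : G} (hx : (orderOf x).Coprime p) {k : ℕ}
    (hc : ⁅x, a⁆ ^ p ^ k = 1) (hxc : Commute x ⁅x, a⁆) : Commute x a := by
  set c := ⁅x, a⁆ with hcdef
  have key : ∀ n : ℕ, x ^ n * a * (x ^ n)⁻¹ = c ^ n * a := by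
    intro n
    induction n with
    | zero => simp
    | succ n ih =>
      have e : x * a * x⁻¹ = c * a := by rw [hcdef, commutatorElement_def]; group
      have e2 : x * c ^ n * x⁻¹ = c ^ n := by rw [(hxc.pow_right n).eq, mul_inv_cancel_right]
      calc x ^ (n + 1) * a * (x ^ (n + 1))⁻¹ = x * (x ^ n * a * (x ^ n)⁻¹) * x⁻¹ := by
            rw [pow_succ']; group
        _ = (x * c ^ n * x⁻¹) * (x * a * x⁻¹) := by rw [ih]; group
        _ = c ^ (n + 1) * a := by rw [e, e2, pow_succ]; group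
  have h1 : c ^ orderOf x = 1 := by
    have := key (orderOf x)
    rw [pow_orderOf_eq_one, one_mul, inv_one, mul_one] at this
    exact mul_right_cancel (this.symm.trans (one_mul a).symm)
  have h2 : c = 1 := by
    apply eq_one_of_coprime_of_pow (p := p) _ hc
    exact Nat.Coprime.of_dvd_left (orderOf_dvd_of_pow_eq_one h1) hx
  exact commutatorElement_eq_one_iff_commute.1 (hcdef ▸ h2)

/-- Coprime stability for a chain `1, A, B`: a `p'`-element centralizing the `p`-subgroup `A` and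
with `[x, B] ⊆ A` centralizes `B`. -/
theorem mem_centralizer_of_stab {A B : Subgroup G} (hA : IsPGroup p A) {x : G}
    (hx : (orderOf x).Coprime p) (hxA : x ∈ centralizer (A : Set G))
    (h : ∀ b ∈ B, ⁅x, b⁆ ∈ A) : x ∈ centralizer (B : Set G) := by
  rw [mem_centralizer_iff]
  intro b hb
  obtain ⟨k, hk⟩ := hA ⟨_, h b hb⟩
  exact (commute_of_stab hx (by simpa using congrArg Subtype.val hk)
    (mem_centralizer_iff.1 hxA _ (h b hb)).symm).eq.symm

/-- Coprime stability along a descending chain of `p`-subgroups: if `[x, C i] ⊆ C (i+1)` and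
`x` centralizes `C n`, then `x` centralizes `C 0`. -/
theorem mem_centralizer_of_chain (C : ℕ → Subgroup G) {x : G} (hx : (orderOf x).Coprime p) :
    ∀ n, (∀ i, i ≤ n → IsPGroup p (C i)) → (∀ i, i < n → ∀ b ∈ C i, ⁅x, b⁆ ∈ C (i + 1)) →
      x ∈ centralizer (C n : Set G) → x ∈ centralizer (C 0 : Set G) := by
  intro n
  induction n with
  | zero => exact fun _ _ h => h
  | succ n ih =>
    intro hp hs hn
    exact ih (fun i hi => hp i (by omega)) (fun i hi => hs i (by omega))
      (mem_centralizer_of_stab (hp (n + 1) le_rfl) hx hn (hs n (by omega)))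

/-- A subgroup without nontrivial elements of order prime to `p` is a `p`-group. -/
theorem isPGroup_of_coprime_eq_one [Finite G] [Fact p.Prime] {K : Subgroup G}
    (h : ∀ b ∈ K, (orderOf b).Coprime p → b = 1) : IsPGroup p K := by
  intro g
  obtain ⟨a, b, ha, hb, ⟨k, hk⟩, hbc, hab⟩ := exists_pPart_mul (p := p) (g : G)
  have hb1 : b = 1 := h b (zpowers_le.2 g.2 hb) hbc
  refine ⟨k, Subtype.ext ?_⟩
  rw [hb1, mul_one] at hab
  simp [← hab, ← hk, pow_orderOf_eq_one]

end CfsgLib.LocalStructure
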