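import Cfsg.Agent.LocalStructure.Asymmetric

/-!
# The family `ℌ(O_p(M))`
-/

namespace CfsgLib.LocalStructure

open Subgroup Cfsg
open scoped commutatorElement

variable {G : Type*} [Group G] [Finite G] {p : ℕ} [Fact p.Prime]

set_option linter.unusedSectionVars false

/-- The normal closure of `A` in `H`, in the ambient group. -/
def nclIn (A H : Subgroup G) : Subgroup G :=
  (Subgroup.normalClosure ((A.subgroupOf H : Subgroup ↥H) : Set ↥H)).map H.subtype

theorem nclIn_le (A H : Subgroup G) : nclIn A H ≤ H := map_subtype_le _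

theorem le_nclIn {A H : Subgroup G} (h : A ≤ H) : A ≤ nclIn A H := fun a ha =>
  ⟨⟨a, h ha⟩, subset_normalClosure ha, rfl⟩

theorem le_normalizer_nclIn (A H : Subgroup G) : H ≤ Subgroup.normalizer (nclIn A H : Set G) := by
  intro x hx
  refine mem_normalizer_of_forall ?_
  rintro _ ⟨y, hy, rfl⟩
  exact ⟨_, (normalClosure_normal).conj_mem y hy ⟨x, hx⟩, rfl⟩

theorem nclIn_le_of {A H K : Subgroup G} (hA : A ≤ K) (hH : H ≤ Subgroup.normalizer (K : Set G)) :
    nclIn A H ≤ K := by
  have : (K.subgroupOf H).Normal := normal_subgroupOf_of_le_normalizer hH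
  exact map_le_iff_le_comap.2 (normalClosure_le_normal (N := K.subgroupOf H) fun a ha => hA ha)

theorem pCoreOf_mono_normal {L H : Subgroup G} (h : L ≤ H)
    (hn : H ≤ Subgroup.normalizer (L : Set G)) : pCoreOf p L ≤ pCoreOf p H :=
  LocalStructure.le_pCoreOf ((pCoreOf_le L).trans h)
    (hn.trans (normalizer_le_normalizer_pCoreOf L)) (pCoreOf_isPGroup L)

theorem pCoreOf_inf_le {L H : Subgroup G} (h : L ≤ H) : pCoreOf p H ⊓ L ≤ pCoreOf p L :=
  LocalStructure.le_pCoreOf inf_le_right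
    (le_normalizer_inf' (h.trans (le_normalizer_pCoreOf H)) Subgroup.le_normalizer)
    (pCoreOf_isPGroup H).to_inf_left

theorem pCoreOf_conjS (c : G) (L : Subgroup G) :
    pCoreOf p (conjS c L) = conjS c (pCoreOf p L) := by
  have key : ∀ (c : G) (L : Subgroup G), conjS c (pCoreOf p L) ≤ pCoreOf p (conjS c L) :=
    fun c L => LocalStructure.le_pCoreOf (conjS_mono (pCoreOf_le L))
      ((conjS_mono (le_normalizer_pCoreOf L)).trans (normalizer_conjS c _).ge)
      ((pCoreOf_isPGroup L).map _)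
  refine le_antisymm ?_ (key c L)
  have h := conjS_mono (g := c) (key c⁻¹ (conjS c L))
  rwa [conjS_conjS, mul_inv_cancel, conjS_one, conjS_conjS, inv_mul_cancel, conjS_one] at h

theorem charP_conjS (c : G) {L : Subgroup G}
    (h : centralizer (pCore p ↥L : Set ↥L) ≤ pCore p ↥L) :
    centralizer (pCore p ↥(conjS c L) : Set ↥(conjS c L)) ≤ pCore p ↥(conjS c L) := by
  refine (CfsgLib.LocalStructure.charP_iff _).2 ?_
  rw [pCoreOf_conjS, centralizer_conjS, ← map_inf _ _ _ (MulAut.conj c).injective]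
  exact map_mono ((CfsgLib.LocalStructure.charP_iff L).1 h)

theorem charP_between {L H : Subgroup G} (h : centralizer (pCore p ↥H : Set ↥H) ≤ pCore p ↥H)
    (hLH : L ≤ H) (hQ : pCoreOf p H ≤ L) :
    centralizer (pCore p ↥L : Set ↥L) ≤ pCore p ↥L := by
  have hle : pCoreOf p H ≤ pCoreOf p L := (le_inf le_rfl hQ).trans (pCoreOf_inf_le hLH)
  exact (CfsgLib.LocalStructure.charP_iff L).2 ((le_inf (inf_le_left.trans hLH)
    (inf_le_right.trans (centralizer_le hle))).trans (((CfsgLib.LocalStructure.charP_iff H).1 h).trans hle))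

/-- In a group with a `p`-group quotient by `R`, a subgroup above `R` generating the group normally
is everything. -/
theorem eq_top_of_normalClosure_of_isPGroup {A : Type*} [Group A] [Finite A] {R B : Subgroup A}
    [R.Normal] (hR : IsPGroup p (A ⧸ R)) (hRB : R ≤ B)
    (h : Subgroup.normalClosure (B : Set A) = ⊤) : B = ⊤ := by
  by_contra hne
  obtain ⟨K, hK, hBK⟩ := (eq_top_or_exists_le_coatom B).resolve_left hne
  have hf := QuotientGroup.mk'_surjective R
  have hc : (K.map (QuotientGroup.mk' R)).comap (QuotientGroup.mk' R) = K := by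
    rw [comap_map_eq, QuotientGroup.ker_mk', sup_eq_left.2 (hRB.trans hBK)]
  have hlt : K.map (QuotientGroup.mk' R) < ⊤ := lt_top_iff_ne_top.2 fun e =>
    hK.1 (by rw [← hc, e, comap_top])
  have hnil : Group.IsNilpotent (A ⧸ R) := hR.isNilpotent
  obtain ⟨x, hx, hxK⟩ := SetLike.exists_of_lt
    (Group.normalizerCondition_of_isNilpotent (G := A ⧸ R) _ hlt)
  obtain ⟨a, rfl⟩ := hf x
  have ha : a ∈ Subgroup.normalizer (K : Set A) := by
    have := le_normalizer_comap (QuotientGroup.mk' R) (mem_comap.2 hx)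
    rwa [hc] at this
  have hKn : K.Normal := normalizer_eq_top_iff.1 (hK.2 _ (lt_of_le_of_ne Subgroup.le_normalizer
    fun e => hxK ⟨a, e ▸ ha, rfl⟩))
  exact hK.1 (eq_top_iff.2 (h.ge.trans (normalClosure_le_normal hBK)))

variable {M : Subgroup G}

/-- Minimality inside `ℌ(O_p(M))`: a subgroup between `O_p(M)` and `H` in which `Y` is not in
`O_p` is `H`. -/
theorem IsInFrakH.eq_of_le {H : Subgroup G} (hH : IsInFrakH p M H) {P : Subgroup G}
    (h1 : pCoreOf p M ≤ P) (h2 : P ≤ H) (h3 : ¬ largestPReducedOf p M ≤ pCoreOf p P) : P = H :=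
  h2.eq_or_lt.resolve_right fun hlt => h3 (hH.2.2.2 P h1 hlt)

theorem exists_frakH (hG : IsOfParabolicCharacteristic p G) (T : Sylow p G)
    (hTM : (T : Subgroup G) ≤ M) (hM : IsInFrakM p M)
    (htall : IsCharPTall p (largestPReducedOf p M))
    (hasym : ¬ IsSymmetricIn (largestPReducedOf p M)) : ∃ H : Subgroup G, IsInFrakH p M H := by
  set Y := largestPReducedOf p M
  set Q0 := pCoreOf p M
  set C := centralizer (Y : Set G)
  have hY : Y ≤ Q0 := (isReducedIn_largest M).le_pCoreOf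
  have hwc := asym_wc hG T hTM hM hasym
  obtain ⟨T0, L, hT0L, hLc, hYL⟩ := htall
  obtain ⟨c, hcC, R, hR, hRC, hQR, hcR⟩ := exists_sylow_conj (pCoreOf_isPGroup (p := p) M)
    frakM_core_le_centralizer (T0.2.map C.subtype) (map_subtype_le _)
  have hRQ : R = Q0 := (inf_eq_left.2 hRC).symm.trans (frakM_core_eq_of_le T hTM hM hR hQR)
  subst hRQ
  have hQL : Q0 ≤ conjS c L := by
    refine le_trans (le_of_eq (Subgroup.eq_of_le_of_card_ge hcR ?_).symm) (conjS_mono hT0L)
    rw [card_map_of_injective (MulAut.conj c).injective, card_map_of_injective C.subtype_injective]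
    obtain ⟨P, hP⟩ := ((pCoreOf_isPGroup (p := p) M).comap_subtype (K := C)).exists_le_sylow
    rw [T0.card_eq_multiplicity, ← P.card_eq_multiplicity]
    calc Nat.card ↥Q0 = Nat.card ↥(Q0.subgroupOf C) :=
          (Nat.card_congr (subgroupOfEquivOfLe frakM_core_le_centralizer).toEquiv).symm
      _ ≤ _ := Nat.card_le_card_of_injective _ (inclusion_injective hP)
  have hYc : conjS c Y = Y :=
    conjS_eq_self_iff.2 (centralizer_le_normalizer (Y : Set G) hcC)
  obtain ⟨H, hHmin⟩ := Set.Finite.exists_minimal (Set.toFinite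
    {H : Subgroup G | centralizer (pCore p ↥H : Set ↥H) ≤ pCore p ↥H ∧ Q0 ≤ H ∧ ¬ Y ≤ pCoreOf p H})
    ⟨conjS c L, charP_conjS c hLc, hQL, fun h => hYL (by
      rw [pCoreOf_conjS, ← hYc] at h
      exact (map_le_map_iff_of_injective (MulAut.conj c).injective).1 h)⟩
  obtain ⟨⟨hHc, hQH, hYH⟩, hmin⟩ := hHmin
  refine ⟨H, hHc, hQH, hYH, fun P₀ hQP₀ hP₀ => ?_⟩
  by_contra hbad
  obtain ⟨P, hPmin⟩ := Set.Finite.exists_minimal (Set.toFinite
    {P : Subgroup G | Q0 ≤ P ∧ P < H ∧ ¬ Y ≤ pCoreOf p P}) ⟨P₀, hQP₀, hP₀, hbad⟩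
  obtain ⟨⟨hQP, hPH, hYP⟩, hPm⟩ := hPmin
  set U := pCoreOf p H
  have hUQ : U ≤ Subgroup.normalizer (Q0 : Set G) := le_sup_right.trans (wc_le_normalizer hwc
    (isPGroup_sup (pCoreOf_isPGroup M) (pCoreOf_isPGroup H) (hQH.trans (le_normalizer_pCoreOf H)))
    le_sup_left)
  have hPn : P ≤ Subgroup.normalizer (U : Set G) := hPH.le.trans (le_normalizer_pCoreOf H)
  set W := U ⊓ P
  have hPW : P ≤ Subgroup.normalizer (W : Set G) := le_normalizer_inf' hPn Subgroup.le_normalizer
  have hWP : W ≤ pCoreOf p P := pCoreOf_inf_le hPH.le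
  -- `P` is the normal closure of `Q0`
  have hncl : nclIn Q0 P = P := le_antisymm (nclIn_le _ _) (hPm
    ⟨le_nclIn hQP, (nclIn_le Q0 P).trans_lt hPH, fun h => hYP
      (h.trans (pCoreOf_mono_normal (nclIn_le Q0 P) (le_normalizer_nclIn Q0 P)))⟩ (nclIn_le Q0 P))
  let K : Subgroup G :=
    { carrier := {g | g ∈ P ∧ ∀ u ∈ U, ⁅g, u⁆ ∈ W}
      one_mem' := ⟨one_mem _, fun u _ => by simp [W.one_mem]⟩
      mul_mem' := fun {a b} ha hb => ⟨mul_mem ha.1 hb.1, fun u hu => by
        rw [commutatorElement_mul_left_eq_conj_mul]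
        exact W.mul_mem ((mem_normalizer_iff.1 (hPW ha.1) _).1 (hb.2 u hu)) (ha.2 u hu)⟩
      inv_mem' := fun {a} ha => ⟨inv_mem ha.1, fun u hu => by
        rw [commutatorElement_inv_left, ← commutatorElement_inv]
        simpa using (mem_normalizer_iff.1 (inv_mem (hPW ha.1)) _).1 (W.inv_mem (ha.2 u hu))⟩ }
  have hPK : P ≤ K := hncl.ge.trans (nclIn_le_of (fun q hq => ⟨hQP hq, fun u hu =>
    ⟨le_normalizer_iff_commutator_le_right.1 (hQP.trans hPn) (commutator_mem_commutator hq hu),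
      hQP (le_normalizer_iff_commutator_le_left.1 hUQ (commutator_mem_commutator hq hu))⟩⟩)
    fun x hx => mem_normalizer_of_forall fun y hy => ⟨mul_mem (mul_mem hx hy.1) (inv_mem hx),
      fun u hu => by
        have hu' : x⁻¹ * u * x ∈ U := by
          simpa using (mem_normalizer_iff.1 (inv_mem (hPn hx)) u).1 hu
        have := (mem_normalizer_iff.1 (hPW hx) _).1 (hy.2 _ hu')
        rw [conjugate_commutatorElement] at this
        simpa [mul_assoc] using this⟩)
  have hCP : IsPGroup p ↥(P ⊓ centralizer (pCoreOf p P : Set G)) :=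
    isPGroup_of_coprime_eq_one fun x hx hc => by
      have hxU := mem_centralizer_of_stab ((pCoreOf_isPGroup (p := p) H).to_le inf_le_left) hc
        (centralizer_le hWP hx.2) (hPK hx.1).2
      exact eq_one_of_coprime_of_mem (pCoreOf_isPGroup H)
        ((CfsgLib.LocalStructure.charP_iff H).1 hHc ⟨hPH.le hx.1, hxU⟩) hc
  have hPc : centralizer (pCore p ↥P : Set ↥P) ≤ pCore p ↥P :=
    (CfsgLib.LocalStructure.charP_iff P).2 (LocalStructure.le_pCoreOf inf_le_left
      (le_normalizer_inf' Subgroup.le_normalizer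
        ((le_normalizer_pCoreOf P).trans (normalizer_le_normalizer_centralizer _))) hCP)
  exact hPH.not_ge (hmin ⟨hPc, hQP, hYP⟩ hPH.le)

variable {H : Subgroup G}

theorem frakH_core_le_normalizer (hwc : IsWeaklyClosedSubgroup p (pCoreOf p M)) {X : Subgroup G}
    (h : pCoreOf p M ≤ X) :
    pCoreOf p X ≤ Subgroup.normalizer (pCoreOf p M : Set G) :=
  le_sup_right.trans (wc_le_normalizer hwc
    (isPGroup_sup (pCoreOf_isPGroup M) (pCoreOf_isPGroup X) (h.trans (le_normalizer_pCoreOf X)))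
    le_sup_left)

theorem frakH_ncl (hH : IsInFrakH p M H) : nclIn (pCoreOf p M) H = H :=
  IsInFrakH.eq_of_le hH (le_nclIn hH.2.1) (nclIn_le _ _) fun h => hH.2.2.1
    (h.trans (pCoreOf_mono_normal (nclIn_le _ _) (le_normalizer_nclIn _ _)))

theorem frakH_pResOf_sup (hH : IsInFrakH p M H) : pResOf p H ⊔ pCoreOf p M = H := by
  set R := pResOf p H
  have hle : R ⊔ pCoreOf p M ≤ H := sup_le (pResOf_le H) hH.2.1
  have hRn : (R.subgroupOf H).Normal :=
    normal_subgroupOf_of_le_normalizer (Subgroup.le_normalizer.trans (normalizer_le_normalizer_pResOf H))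
  have hq : IsPGroup p (↥H ⧸ R.subgroupOf H) := by
    intro x
    obtain ⟨g, rfl⟩ := QuotientGroup.mk_surjective x
    obtain ⟨k, hk⟩ := exists_pow_mem_pResOf (p := p) g.2
    exact ⟨k, by rw [← QuotientGroup.mk_pow, QuotientGroup.eq_one_iff, mem_subgroupOf]; simpa using hk⟩
  have h := eq_top_of_normalClosure_of_isPGroup hq
    (B := (R ⊔ pCoreOf p M).subgroupOf H) (fun x hx => mem_sup_left (T := pCoreOf p M) hx) ?_
  · exact le_antisymm hle (subgroupOf_eq_top.1 h)
  · refine eq_top_iff.2 fun x _ => ?_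
    have hx : (x : G) ∈ nclIn (pCoreOf p M) H := (frakH_ncl hH).ge x.2
    obtain ⟨y, hy, he⟩ := hx
    refine (Subtype.ext he : y = x) ▸ (normalClosure_mono ?_) hy
    exact fun z hz => mem_sup_right (S := R) hz

theorem frakH_Y_le (hH : IsInFrakH p M H) : largestPReducedOf p M ≤ H :=
  (isReducedIn_largest M).le_pCoreOf.trans hH.2.1

theorem frakH_res_le_ncl (hH : IsInFrakH p M H) :
    pResOf p H ≤ nclIn (largestPReducedOf p M) H := by
  set N := nclIn (largestPReducedOf p M) H
  set Q0 := pCoreOf p M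
  have hQN : Q0 ≤ Subgroup.normalizer (N : Set G) := hH.2.1.trans (le_normalizer_nclIn _ _)
  have heq : Q0 ⊔ N = H := IsInFrakH.eq_of_le hH le_sup_left (sup_le hH.2.1 (nclIn_le _ _)) fun h =>
    hH.2.2.1 ((le_inf h (le_nclIn (frakH_Y_le hH))).trans ((pCoreOf_inf_le le_sup_right).trans
      (pCoreOf_mono_normal (nclIn_le _ _) (le_normalizer_nclIn _ _))))
  refine pResOf_le_of_forall fun g hg hc => ?_
  obtain ⟨k, hk⟩ := exists_pow_mem_of_mem_sup (pCoreOf_isPGroup M) hQN (heq.ge hg)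
  exact mem_of_coprime_of_pow_mem hc hk

theorem frakH_commutator (hH : IsInFrakH p M H) :
    ⁅pResOf p H, largestPReducedOf p M⁆ = pResOf p H ∧
      pResOf p H ⊔ largestPReducedOf p M = nclIn (largestPReducedOf p M) H := by
  set R := pResOf p H
  set Y := largestPReducedOf p M
  set Q0 := pCoreOf p M
  set K := ⁅R, Y⁆
  have hRn : H ≤ Subgroup.normalizer (R : Set G) :=
    Subgroup.le_normalizer.trans (normalizer_le_normalizer_pResOf H)
  have hKR : K ≤ R :=
    le_normalizer_iff_commutator_le_left.1 ((frakH_Y_le hH).trans hRn)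
  have hQY : Q0 ≤ Subgroup.normalizer (Y : Set G) :=
    frakM_core_le_centralizer.trans (centralizer_le_normalizer _)
  have hHK : H ≤ Subgroup.normalizer (K : Set G) := by
    refine le_trans (frakH_pResOf_sup hH).ge (sup_le (normalizer_commutator_ge_left R Y) ?_)
    exact (le_inf (hH.2.1.trans hRn) hQY).trans (normalizer_le_normalizer_commutator R Y)
  have hHYK : H ≤ Subgroup.normalizer ((Y ⊔ K : Subgroup G) : Set G) := by
    refine le_trans (frakH_pResOf_sup hH).ge (sup_le (fun r hr => ?_)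
      (le_normalizer_sup hQY (hH.2.1.trans hHK)))
    refine mem_normalizer_of_forall fun z hz => ?_
    obtain ⟨y, hy, k, hk, rfl⟩ := exists_mul_of_mem_sup ((frakH_Y_le hH).trans hHK) hz
    have : r * (y * k) * r⁻¹ = ⁅r, y⁆ * y * (r * k * r⁻¹) := by
      rw [commutatorElement_def]; group
    rw [this]
    exact mul_mem (mul_mem (mem_sup_right (commutator_mem_commutator hr hy)) (mem_sup_left hy))
      (mem_sup_right ((mem_normalizer_iff.1 (hHK (pResOf_le H hr)) k).1 hk))
  have hN : nclIn Y H ≤ Y ⊔ K := nclIn_le_of le_sup_left hHYK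
  have hRK : R ≤ K := pResOf_le_of_forall fun g hg hc => by
    obtain ⟨k, hk⟩ := exists_pow_mem_of_mem_sup
      (isElementaryAbelian_isPGroup (isReducedIn_largest (p := p) M).elab')
      ((frakH_Y_le hH).trans hHK) (hN (frakH_res_le_ncl hH (mem_pResOf hg hc)))
    exact mem_of_coprime_of_pow_mem hc hk
  refine ⟨le_antisymm hKR hRK, le_antisymm (sup_le (frakH_res_le_ncl hH)
    (le_nclIn (frakH_Y_le hH))) (hN.trans (sup_le le_sup_right (hKR.trans le_sup_left)))⟩

/-- The core of the proof that `H Q^g` is `p`-irreducible, after reducing modulo `O_p(R ⊓ N)`. -/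
theorem isPClosed_of_central_inf {A : Type*} [Group A] [Finite A] {R N Y : Subgroup A} [R.Normal]
    [N.Normal] (hRY : ⁅R, Y⁆ = R) (hEY : ⁅R ⊓ N, Y⁆ = ⊥) (hER : ⁅R ⊓ N, R⁆ = ⊥)
    (hE : ∀ e ∈ R ⊓ N, IsPEl p e → e = 1) (hidx : ∀ n ∈ N, ∃ k : ℕ, n ^ p ^ k ∈ R ⊓ N) :
    IsPClosed p ↥N := by
  set E := R ⊓ N
  have hnormal : ∀ K : Subgroup A, K.Normal → ∀ L : Subgroup A, L ≤ Subgroup.normalizer (K : Set A) :=
    fun K hK L => (normalizer_eq_top_iff.2 hK).ge.trans' le_top
  intro S
  set T := (S : Subgroup ↥N).map N.subtype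
  have hTp : IsPGroup p T := S.2.map _
  have hNTE : N ≤ T ⊔ E := fun n hn => by
    have h1 := (sylow_sup_pResidual S).ge (mem_top (⟨n, hn⟩ : ↥N))
    have h2 := mem_map_of_mem N.subtype h1
    rw [Subgroup.map_sup, map_pResidual] at h2
    refine sup_le_sup le_rfl (pResOf_le_of_forall fun g hg hc => ?_) h2
    obtain ⟨k, hk⟩ := hidx g hg
    exact mem_of_coprime_of_pow_mem hc hk
  have hdec : ∀ x : A, ∃ a ∈ Subgroup.normalizer (T : Set A), ∃ e ∈ E, x = a * e := by
    intro x
    obtain ⟨a, ha, c, hc, rfl⟩ :=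
      frattini_argument (C := N) (L := ⊤) le_top (hnormal N inferInstance ⊤) S (mem_top x)
    obtain ⟨t, ht, e, he, rfl⟩ := exists_mul_of_mem_sup (hnormal E inferInstance T) (hNTE hc)
    exact ⟨a * t, mul_mem ha.2 (Subgroup.le_normalizer ht), e, he, by group⟩
  set R0 := R ⊓ centralizer (T : Set A)
  have hcent : ∀ e ∈ E, ∀ r ∈ R, e * r = r * e := fun e he r hr =>
    commutatorElement_eq_one_iff_mul_comm.1 (mem_bot.1 (hER ▸ commutator_mem_commutator he hr))
  have hR0 : ∀ r ∈ R, ∃ a ∈ R0, ∃ e ∈ E, r = a * e := by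
    intro r hr
    obtain ⟨a, ha, e, he, rfl⟩ := hdec r
    have haR : a ∈ R := by simpa using mul_mem hr (inv_mem he.1)
    refine ⟨a, ⟨haR, mem_centralizer_iff.2 fun t ht => ?_⟩, e, he, rfl⟩
    have h1 : ⁅a, t⁆ ∈ T := le_normalizer_iff_commutator_le_right.1
      (zpowers_le.2 ha) (commutator_mem_commutator (mem_zpowers a) ht)
    have h2 : ⁅a, t⁆ ∈ E := ⟨commutator_le_left R T (commutator_mem_commutator haR ht),
      map_subtype_le (S : Subgroup ↥N) h1⟩
    exact (commutatorElement_eq_one_iff_mul_comm.1 (hE _ h2 (isPEl_of_mem hTp h1))).symm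
  have hRR0 : R ≤ Subgroup.normalizer (R0 : Set A) := by
    intro r hr
    obtain ⟨a, ha, e, he, rfl⟩ := hR0 r hr
    refine mul_mem (Subgroup.le_normalizer ha) (mem_normalizer_of_forall fun z hz => ?_)
    rwa [hcent e he z hz.1, mul_inv_cancel_right]
  have hYR0 : Y ≤ Subgroup.normalizer (R0 : Set A) := by
    intro y _
    obtain ⟨a, ha, e, he, rfl⟩ := hdec y
    refine mul_mem ?_ (hRR0 he.1)
    exact le_normalizer_inf' (hnormal R inferInstance _) (normalizer_le_normalizer_centralizer T) ha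
  have hRle : R ≤ R0 := by
    conv_lhs => rw [← hRY]
    refine commutator_le.2 fun r hr y hy => ?_
    obtain ⟨a, ha, e, he, rfl⟩ := hR0 r hr
    rw [commutatorElement_mul_left_eq_conj_mul, (mem_bot.1 (hEY.le (commutator_mem_commutator he hy)) : ⁅e, y⁆ = 1),
      mul_one, mul_inv_cancel, one_mul]
    exact le_normalizer_iff_commutator_le_left.1 hYR0 (commutator_mem_commutator ha hy)
  have hET : N ≤ Subgroup.normalizer (T : Set A) := hNTE.trans (sup_le Subgroup.le_normalizer
    ((inf_le_left.trans (hRle.trans inf_le_right)).trans (centralizer_le_normalizer _)))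
  refine ⟨fun x hx n => ?_⟩
  obtain ⟨y, hy, he⟩ := (mem_normalizer_iff.1 (hET n.2) (x : A)).1 ⟨x, hx, rfl⟩
  exact (Subtype.ext (by simpa using he) : y = n * x * n⁻¹) ▸ hy

theorem isPClosed_of_irreducible_step {A : Type*} [Group A] [Finite A] {R N Y : Subgroup A}
    [R.Normal] [N.Normal] (hRY : ⁅R, Y⁆ = R) (hEY : ⁅R ⊓ N, Y⁆ ≤ pCoreOf p (R ⊓ N))
    (hER : ⁅R ⊓ N, R⁆ ≤ pCoreOf p (R ⊓ N)) (hidx : ∀ n ∈ N, ∃ k : ℕ, n ^ p ^ k ∈ R ⊓ N) :
    IsPClosed p ↥N := by
  set E := R ⊓ N
  set O := pCoreOf p E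
  have hO : O.Normal := normalizer_eq_top_iff.1 (top_unique
    ((normalizer_eq_top_iff.2 (inferInstance : E.Normal)).ge.trans
      (normalizer_le_normalizer_pCoreOf E)))
  have hEcl : IsPClosed p ↥E := by
    rw [← isPClosed_map_iff (pCoreOf_isPGroup E) (pCoreOf_le E)]
    intro P
    have : ∀ a b : ↥(E.map (QuotientGroup.mk' O)), a * b = b * a := by
      rintro ⟨_, a, ha, rfl⟩ ⟨_, b, hb, rfl⟩
      refine Subtype.ext (commutatorElement_eq_one_iff_mul_comm.1 ?_)
      rw [← map_commutatorElement]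
      exact (QuotientGroup.eq_one_iff _).2 (hER (commutator_mem_commutator ha hb.1))
    exact ⟨fun x hx g => by rw [this g x, mul_inv_cancel_right]; exact hx⟩
  set f := QuotientGroup.mk' O
  have hf : Function.Surjective f := QuotientGroup.mk'_surjective O
  have : (R.map f).Normal := Subgroup.Normal.map inferInstance f hf
  have : (N.map f).Normal := Subgroup.Normal.map inferInstance f hf
  have hinf : R.map f ⊓ N.map f = E.map f := by
    refine le_antisymm (fun z ⟨⟨r, hr, h1⟩, ⟨n, hn, h2⟩⟩ => ⟨r, ⟨hr, ?_⟩, h1⟩)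
      (map_inf_le R N f)
    have h3 : n⁻¹ * r ∈ O := QuotientGroup.eq.1 (show f n = f r by rw [h1, h2])
    simpa using mul_mem hn (inf_le_right (a := R) (pCoreOf_le E h3))
  have hcl := isPClosed_of_central_inf (p := p) (R := R.map f) (N := N.map f) (Y := Y.map f)
    (by rw [← map_commutator, hRY]) (by
      rw [hinf, ← map_commutator, Subgroup.map_eq_bot_iff, QuotientGroup.ker_mk']; exact hEY) (by
      rw [hinf, ← map_commutator, Subgroup.map_eq_bot_iff, QuotientGroup.ker_mk']; exact hER) (by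
      intro z hz hp
      rw [hinf] at hz
      obtain ⟨e, he, hep, rfl⟩ := exists_pEl_lift f hz hp
      exact (QuotientGroup.eq_one_iff e).2 ((isPClosed_subgroup_iff E).1 hEcl e he hep)) (by
      rintro _ ⟨n, hn, rfl⟩
      obtain ⟨k, hk⟩ := hidx n hn
      exact ⟨k, by rw [hinf, ← map_pow]; exact ⟨_, hk, rfl⟩⟩)
  exact (isPClosed_map_iff (pCoreOf_isPGroup E) ((pCoreOf_le E).trans inf_le_right)).1 hcl

end CfsgLib.LocalStructure
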