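import Mathlib.GroupTheory.Frattini
import Mathlib.GroupTheory.Sylow
import Mathlib.GroupTheory.GroupAction.Quotient
import Mathlib.GroupTheory.IndexNormal
import Mathlib.Algebra.Module.ZMod
import Mathlib.Algebra.Field.ZMod
import Mathlib.Algebra.Polynomial.AlgebraMap
import Mathlib.Algebra.CharP.Lemmas
import Mathlib.Data.Nat.Choose.Factorization

/-!
The algebra behind Yoshida's theorem: a homomorphism on a maximal subgroup of a `p`-group whose
conjugates do not sum to zero at some element.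
-/

namespace CfsgLib.LocalStructure.Yoshida

open Subgroup Polynomial
open scoped Classical

variable {X : Type*} [Group X] [Finite X] {p : ℕ} [hp : Fact p.Prime] {M : Subgroup X} [M.Normal]
  (ω : M →* Multiplicative (ZMod p))

/-- Conjugates of `v` under coset representatives, evaluated by `ω`. -/
noncomputable def conjVals : M →* Multiplicative (X ⧸ M → ZMod p) where
  toFun v := Multiplicative.ofAdd fun q =>
    (ω ⟨q.out⁻¹ * v * q.out, by simpa using ‹M.Normal›.conj_mem _ v.2 q.out⁻¹⟩).toAdd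
  map_one' := by
    apply Multiplicative.toAdd.injective
    funext q
    exact congrArg Multiplicative.toAdd ((congrArg ω
      (Subtype.ext (by simp : q.out⁻¹ * ((1 : M) : X) * q.out = ((1 : M) : X)))).trans ω.map_one)
  map_mul' a b := by
    apply Multiplicative.toAdd.injective
    funext q
    simp only [toAdd_ofAdd, toAdd_mul, Pi.add_apply]
    rw [← toAdd_mul, ← map_mul]
    congr 2
    exact Subtype.ext (by simp [mul_assoc])

theorem conjVals_apply (v : M) (g : X) (h : g⁻¹ * (v : X) * g ∈ M) :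
    (conjVals ω v).toAdd (g : X ⧸ M) = (ω ⟨_, h⟩).toAdd := by
  obtain ⟨m, hm⟩ := QuotientGroup.mk_out_eq_mul M g
  show (ω _).toAdd = _
  refine congrArg Multiplicative.toAdd ?_
  rw [show ω ⟨g⁻¹ * (v : X) * g, h⟩ = ω (m⁻¹ * ⟨g⁻¹ * (v : X) * g, h⟩ * m) by
    rw [map_mul, map_mul, map_inv, inv_mul_cancel_comm]]
  exact congrArg ω (Subtype.ext (by simp [hm, mul_assoc]))

/-- Translation by `σ` on functions. -/
noncomputable def shift (σ : X ⧸ M) : Module.End (ZMod p) (X ⧸ M → ZMod p) :=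
  LinearMap.funLeft _ _ (fun q => σ * q)

theorem shift_apply (σ : X ⧸ M) (g : X ⧸ M → ZMod p) (q : X ⧸ M) :
    shift (p := p) σ g q = g (σ * q) := rfl

theorem shift_pow (σ : X ⧸ M) (n : ℕ) (g : X ⧸ M → ZMod p) (q : X ⧸ M) :
    (shift (p := p) σ ^ n) g q = g (σ ^ n * q) := by
  induction n generalizing g q with
  | zero => simp
  | succ n ih =>
    rw [pow_succ', Module.End.mul_apply, shift_apply, ih, ← mul_assoc, ← pow_succ]

theorem shift_conjVals (s : X) (v : M) (h : s⁻¹ * (v : X) * s ∈ M) :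
    shift (p := p) (s : X ⧸ M) (conjVals ω v).toAdd = (conjVals ω ⟨_, h⟩).toAdd := by
  funext q
  induction q using QuotientGroup.induction_on with
  | H g =>
    have hn : ∀ g : X, ∀ v : M, g⁻¹ * (v : X) * g ∈ M := fun g v => by
      simpa using ‹M.Normal›.conj_mem _ v.2 g⁻¹
    rw [shift_apply, ← QuotientGroup.mk_mul, conjVals_apply ω v _ (hn _ _),
      conjVals_apply ω _ g (hn g ⟨_, h⟩)]
    exact congrArg (fun x => Multiplicative.toAdd (ω x)) (Subtype.ext (by simp [mul_assoc]))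

theorem sub_one_pow_prime_sub_one :
    (Polynomial.X - 1 : (ZMod p)[X]) ^ (p - 1) = ∑ i ∈ Finset.range p, Polynomial.X ^ i := by
  have h1 : (Polynomial.X - 1 : (ZMod p)[X]) ≠ 0 := by
    simpa using Polynomial.X_sub_C_ne_zero (1 : ZMod p)
  refine mul_right_cancel₀ h1 ?_
  rw [geom_sum_mul, ← pow_succ, Nat.sub_add_cancel hp.out.one_le, sub_pow_char, one_pow]

variable (s : X) (hs : s ∉ M) (hidx : M.index = p)

include hs hidx in
theorem exists_pow_eq (q : X ⧸ M) : ∃ i < p, (s : X ⧸ M) ^ i = q := by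
  have hc : Nat.card (X ⧸ M) = p := by rw [← index_eq_card, hidx]
  have h1 : (s : X ⧸ M) ≠ 1 := fun e => hs ((QuotientGroup.eq_one_iff s).1 e)
  obtain ⟨i, rfl⟩ := Submonoid.mem_powers_iff _ _ |>.1 (mem_powers_of_prime_card hc (g := (s : X ⧸ M)) (g' := q) h1)
  exact ⟨i % p, Nat.mod_lt _ hp.out.pos, by
    have := pow_mod_natCard (s : X ⧸ M) i
    rwa [hc] at this⟩

include hs hidx in
theorem sum_conjVals [Fintype (X ⧸ M)] (g : X ⧸ M → ZMod p) :
    ∑ q, g q = ∑ i ∈ Finset.range p, g ((s : X ⧸ M) ^ i) := by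
  have hc : Fintype.card (X ⧸ M) = p := by rw [Fintype.card_eq_nat_card, ← index_eq_card, hidx]
  have hb : Function.Bijective (fun i : Fin p => (s : X ⧸ M) ^ (i : ℕ)) :=
    (Fintype.bijective_iff_surjective_and_card _).2 ⟨fun q => by
      obtain ⟨i, hi, e⟩ := exists_pow_eq s hs hidx q
      exact ⟨⟨i, hi⟩, e⟩, by rw [hc, Fintype.card_fin]⟩
  rw [← Fintype.sum_bijective _ hb _ g fun _ => rfl,
    Fin.sum_univ_eq_sum_range fun i => g ((s : X ⧸ M) ^ i)]

include hs hidx in
/-- The iterated commutator of `u` with `s` has nonzero value. -/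
theorem iterate_commutator_ne_one [Fintype (X ⧸ M)] (u : M)
    (hu : ∑ q, (conjVals ω u).toAdd q ≠ 0) :
    ∃ h : (fun y : X => y⁻¹ * s⁻¹ * y * s)^[p - 1] (u : X) ∈ M, ω ⟨_, h⟩ ≠ 1 := by
  set φ : X → X := fun y => y⁻¹ * s⁻¹ * y * s
  set T := shift (p := p) (M := M) (s : X ⧸ M)
  have key : ∀ n, ∃ h : φ^[n] (u : X) ∈ M,
      (conjVals ω ⟨_, h⟩).toAdd = ((T - 1) ^ n) (conjVals ω u).toAdd := by
    intro n
    induction n with
    | zero => exact ⟨u.2, by simp⟩
    | succ n ih =>
      obtain ⟨h, e⟩ := ih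
      set c : M := ⟨_, h⟩
      have h' : s⁻¹ * (c : X) * s ∈ M := by simpa using ‹M.Normal›.conj_mem _ c.2 s⁻¹
      have hstep : φ^[n + 1] (u : X) = ((c⁻¹ * ⟨_, h'⟩ : M) : X) := by
        rw [Function.iterate_succ_apply']
        simp [φ, c, mul_assoc]
      refine ⟨hstep ▸ (c⁻¹ * ⟨_, h'⟩ : M).2, ?_⟩
      rw [show (⟨φ^[n + 1] (u : X), hstep ▸ (c⁻¹ * ⟨_, h'⟩ : M).2⟩ : M) = c⁻¹ * ⟨_, h'⟩ from
        Subtype.ext hstep, map_mul, map_inv, toAdd_mul, toAdd_inv, ← shift_conjVals ω s c h',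
        pow_succ', Module.End.mul_apply, ← e]
      simp only [LinearMap.sub_apply, Module.End.one_apply]
      abel
  obtain ⟨h, e⟩ := key (p - 1)
  refine ⟨h, fun h1 => hu ?_⟩
  have h2 := congrFun e ((1 : X) : X ⧸ M)
  rw [conjVals_apply ω _ 1 (by simpa using h)] at h2
  have hpoly := congrArg (fun P => Polynomial.aeval T P) (sub_one_pow_prime_sub_one (p := p))
  simp only [map_pow, map_sub, aeval_X, map_one, map_sum] at hpoly
  rw [hpoly, LinearMap.sum_apply, Finset.sum_apply] at h2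
  rw [sum_conjVals s hs hidx]
  simp only [shift_pow, T, QuotientGroup.mk_one, mul_one] at h2
  rw [← h2]
  refine congrArg Multiplicative.toAdd (Eq.trans (congrArg ω (Subtype.ext ?_)) h1)
  simp

include hs hidx in
/-- The conjugates of `ω` are independent. -/
theorem conjVals_surjective [Fintype (X ⧸ M)] (u : M)
    (hu : ∑ q, (conjVals ω u).toAdd q ≠ 0) : Function.Surjective (conjVals ω) := by
  set T := shift (p := p) (M := M) (s : X ⧸ M)
  let I : Submodule (ZMod p) (X ⧸ M → ZMod p) :=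
    AddSubgroup.toZModSubmodule p (MonoidHom.range (conjVals ω)).toAddSubgroup'
  have hIT : ∀ g ∈ I, (T - 1) g ∈ I := by
    rintro g ⟨v, hv⟩
    have hg : g = (conjVals ω v).toAdd := by rw [hv]; rfl
    have h' : s⁻¹ * (v : X) * s ∈ M := by simpa using ‹M.Normal›.conj_mem _ v.2 s⁻¹
    refine ⟨v⁻¹ * ⟨_, h'⟩, Multiplicative.toAdd.injective ?_⟩
    rw [map_mul, map_inv, toAdd_mul, toAdd_inv, ← shift_conjVals ω s v h', hg]
    show _ = T _ - (conjVals ω v).toAdd
    rw [neg_add_eq_sub]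
  set R := LinearMap.range (T - 1)
  let δ : X ⧸ M → (X ⧸ M → ZMod p) := fun q => Pi.single q 1
  have hδ : ∀ q, δ q - δ 1 ∈ R := by
    intro q
    obtain ⟨i, -, rfl⟩ := exists_pow_eq (p := p) s hs hidx q
    induction i with
    | zero => simp
    | succ i ih =>
      have : (T - 1) (δ ((s : X ⧸ M) ^ (i + 1))) = δ ((s : X ⧸ M) ^ i) - δ ((s : X ⧸ M) ^ (i + 1)) := by
        funext x
        simp only [LinearMap.sub_apply, Module.End.one_apply, Pi.sub_apply, δ, T, shift_apply,
          Pi.single_apply, pow_succ', mul_right_inj]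
      have h2 : δ ((s : X ⧸ M) ^ (i + 1)) - δ 1 =
          (δ ((s : X ⧸ M) ^ i) - δ 1) - (T - 1) (δ ((s : X ⧸ M) ^ (i + 1))) := by
        rw [this]; abel
      rw [h2]
      exact sub_mem ih ⟨_, rfl⟩
  have hdec : ∀ g : X ⧸ M → ZMod p, g - (∑ q, g q) • δ 1 ∈ R := by
    intro g
    have : g - (∑ q, g q) • δ 1 = ∑ q, g q • (δ q - δ 1) := by
      simp only [smul_sub, Finset.sum_sub_distrib, ← Finset.sum_smul]
      congr 1
      exact pi_eq_sum_univ' g
    rw [this]
    exact sum_mem fun q _ => R.smul_mem _ (hδ q)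
  set f := (conjVals ω u).toAdd
  have hfI : f ∈ I := ⟨u, rfl⟩
  have hsup : ∀ g : X ⧸ M → ZMod p, g ∈ I ⊔ R := by
    intro g
    have h1 : δ 1 ∈ I ⊔ R := by
      have h2 : (∑ q, f q) • δ 1 ∈ I ⊔ R := by
        have := sub_mem (Submodule.mem_sup_left (T := R) hfI) (Submodule.mem_sup_right (S := I) (hdec f))
        simpa using this
      have := (I ⊔ R).smul_mem (∑ q, f q)⁻¹ h2
      rwa [smul_smul, inv_mul_cancel₀ hu, one_smul] at this
    have := add_mem (Submodule.mem_sup_right (S := I) (hdec g))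
      ((I ⊔ R).smul_mem (∑ q, g q) h1)
    simpa using this
  have hpowI : ∀ (k : ℕ) (x), x ∈ I → ((T - 1) ^ k) x ∈ I := by
    intro k
    induction k with
    | zero => intro x hx; simpa using hx
    | succ k ihk =>
      intro x hx
      rw [pow_succ, Module.End.mul_apply]
      exact ihk _ (hIT x hx)
  have hk : ∀ (k : ℕ) (g : X ⧸ M → ZMod p), ∃ a ∈ I, ∃ b, g = a + ((T - 1) ^ k) b := by
    intro k
    induction k with
    | zero => exact fun g => ⟨0, I.zero_mem, g, by simp⟩
    | succ k ih =>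
      intro g
      obtain ⟨a, ha, b, rfl⟩ := ih g
      obtain ⟨a', ha', r, ⟨b', rfl⟩, rfl⟩ := Submodule.mem_sup.1 (hsup b)
      refine ⟨a + ((T - 1) ^ k) a', I.add_mem ha (hpowI k a' ha'), b', ?_⟩
      rw [pow_succ, Module.End.mul_apply, map_add, add_assoc]
  intro y
  obtain ⟨a, ha, b, hab⟩ := hk p (Multiplicative.toAdd y)
  have hT0 : (T - 1) ^ p = 0 := by
    have hpoly := congrArg (fun P => Polynomial.aeval T P)
      (sub_pow_char (p := p) (Polynomial.X : (ZMod p)[X]) 1)
    simp only [map_pow, map_sub, aeval_X, map_one, one_pow] at hpoly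
    rw [hpoly, sub_eq_zero]
    refine LinearMap.ext fun g => funext fun q => ?_
    rw [shift_pow]
    have hc : Nat.card (X ⧸ M) = p := by rw [← index_eq_card, hidx]
    have h1 : (s : X ⧸ M) ^ p = 1 := by
      have := pow_card_eq_one' (x := (s : X ⧸ M)); rwa [hc] at this
    rw [h1, one_mul]; rfl
  rw [hT0, LinearMap.zero_apply, add_zero] at hab
  obtain ⟨v, hv⟩ := ha
  exact ⟨v, hv.trans (congrArg Multiplicative.ofAdd hab.symm)⟩

/-- `W₀` and the Frattini subgroup. -/
theorem not_mem_frattini_of_hom {W : Type*} [Group W] [Finite W] (φ : W →* Multiplicative (ZMod p))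
    {c : W} (h : φ c ≠ 1) : c ∉ frattini W := by
  intro hc
  have hker : IsCoatom φ.ker := by
    refine ⟨fun e => h (MonoidHom.mem_ker.1 (e ▸ mem_top c)), fun K hK => ?_⟩
    have hd : φ.ker.index ∣ p := by
      rw [index_ker]
      have := Subgroup.card_subgroup_dvd_card φ.range
      simpa [Nat.card_zmod] using this
    have h1 : φ.ker.index = p := ((Nat.dvd_prime hp.out).1 hd).resolve_left fun e =>
      h (MonoidHom.mem_ker.1 ((index_eq_one.1 e) ▸ mem_top c))
    have h2 := Subgroup.relIndex_mul_index hK.le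
    rw [h1] at h2
    rcases (Nat.dvd_prime hp.out).1 ⟨_, (h2.symm.trans (mul_comm _ _))⟩ with e | e
    · exact index_eq_one.1 e
    · rw [e] at h2
      have h3 : φ.ker.relIndex K = 1 := (mul_eq_right₀ hp.out.ne_zero).1 h2
      exact absurd (relIndex_eq_one.1 h3) hK.not_ge
  exact h (MonoidHom.mem_ker.1 (frattini_le_coatom hker hc))

theorem factorization_factorial_sq : (Nat.factorial (p ^ 2)).factorization p = p + 1 := by
  rw [pow_two, Nat.factorization_factorial_mul hp.out]
  have := Nat.factorization_factorial_mul (n := 1) hp.out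
  rw [mul_one] at this
  rw [this]; simp [add_comm]

omit [M.Normal] in
include hs hidx in
/-- The wreath quotient. -/
theorem exists_wreath_quotient (hX : IsPGroup p X) [M.Normal] [Fintype (X ⧸ M)] (u : M)
    (hu : ∑ q, (conjVals ω u).toAdd q ≠ 0) :
    ∃ (P : Sylow p (Equiv.Perm (Fin (p ^ 2))))
      (f : X →* ↥(P : Subgroup (Equiv.Perm (Fin (p ^ 2))))), Function.Surjective f := by
  have hθ := conjVals_surjective ω s hs hidx u hu
  have hω : Function.Surjective ω := by
    intro y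
    obtain ⟨v, hv⟩ := hθ (Multiplicative.ofAdd fun _ => y.toAdd)
    refine ⟨⟨(1 : X)⁻¹ * v * 1, by simp⟩, Multiplicative.toAdd.injective ?_⟩
    rw [← conjVals_apply ω v 1, hv]; rfl
  set K : Subgroup X := ω.ker.map M.subtype with hK
  have hKidx : K.index = p ^ 2 := by
    rw [hK, index_map_subtype, index_ker, MonoidHom.range_eq_top.2 hω, Subgroup.card_top, hidx,
      pow_two]
    simp [Nat.card_zmod]
  let e : X ⧸ K ≃ Fin (p ^ 2) := Finite.equivFinOfCardEq (by rw [← index_eq_card, hKidx])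
  let f₀ : X →* Equiv.Perm (Fin (p ^ 2)) :=
    (e.permCongrHom : Equiv.Perm (X ⧸ K) ≃* _).toMonoidHom.comp (MulAction.toPermHom X (X ⧸ K))
  have hker : f₀.ker = K.normalCore := by
    rw [normalCore_eq_ker]
    exact MonoidHom.ker_comp_of_injective _ _ e.permCongrHom.injective
  have hle : f₀.ker ≤ (conjVals ω).ker.map M.subtype := by
    intro x hx
    have hxK : ∀ g : X, g * x * g⁻¹ ∈ K := by
      rw [hker] at hx; exact hx
    obtain ⟨v, -, hv⟩ : x ∈ K := by simpa using hxK 1
    refine ⟨v, MonoidHom.mem_ker.2 (Multiplicative.toAdd.injective (funext fun q => ?_)), hv⟩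
    induction q using QuotientGroup.induction_on with
    | H g =>
      obtain ⟨w, hw, e⟩ := hxK g⁻¹
      rw [conjVals_apply ω v g (by simpa using ‹M.Normal›.conj_mem _ v.2 g⁻¹)]
      have : (⟨g⁻¹ * (v : X) * g, by simpa using ‹M.Normal›.conj_mem _ v.2 g⁻¹⟩ : M) = w :=
        Subtype.ext (by
          show g⁻¹ * (v : X) * g = _
          have e' : (w : X) = g⁻¹ * x * g := by simpa using e
          have hv' : (v : X) = x := hv
          rw [e', hv'])
      rw [this, MonoidHom.mem_ker.1 hw]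
      rfl
  have hrange : p ^ (p + 1) ∣ Nat.card f₀.range := by
    rw [← index_ker]
    refine dvd_trans ?_ (index_dvd_of_le hle)
    rw [index_map_subtype, index_ker, MonoidHom.range_eq_top.2 hθ, Subgroup.card_top, hidx,
      pow_succ]
    refine dvd_of_eq ?_
    congr 1
    rw [Nat.card_congr Multiplicative.toAdd, Nat.card_fun, Nat.card_zmod, ← index_eq_card, hidx]
  obtain ⟨P, hP⟩ := (hX.of_surjective f₀.rangeRestrict f₀.rangeRestrict_surjective).exists_le_sylow
  have hPc : Nat.card (P : Subgroup (Equiv.Perm (Fin (p ^ 2)))) = p ^ (p + 1) := by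
    rw [Sylow.card_eq_multiplicity, Nat.card_perm, Nat.card_fin, factorization_factorial_sq]
  have heq : f₀.range = (P : Subgroup (Equiv.Perm (Fin (p ^ 2)))) :=
    Subgroup.eq_of_le_of_card_ge hP (hPc ▸ Nat.le_of_dvd Nat.card_pos hrange)
  refine ⟨P, f₀.codRestrict _ fun x => heq ▸ ⟨x, rfl⟩, fun y => ?_⟩
  obtain ⟨x, hx⟩ : (y : Equiv.Perm (Fin (p ^ 2))) ∈ f₀.range := heq.symm ▸ y.2
  exact ⟨x, Subtype.ext hx⟩

end CfsgLib.LocalStructure.Yoshida
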