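import Mathlib.GroupTheory.Transfer
import Mathlib.GroupTheory.PGroup

/-!
The transfer of an element whose proper powers are killed is the product over its fixed cosets.
-/

namespace CfsgLib.LocalStructure.Yoshida

open Subgroup MulAction Function
open scoped Classical

variable {G : Type*} [Group G] {A : Type*} [CommGroup A]

/-- The contribution of the coset `gD` to the transfer of `v`, when `v` fixes it. -/
noncomputable def fixTerm {D : Subgroup G} (μ : D →* A) (v g : G) : A :=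
  if h : g⁻¹ * v * g ∈ D then μ ⟨_, h⟩ else 1

variable {D : Subgroup G} (μ : D →* A)

theorem fixTerm_of_mem {v g : G} (h : g⁻¹ * v * g ∈ D) : fixTerm μ v g = μ ⟨_, h⟩ := dif_pos h

theorem fixTerm_of_not_mem {v g : G} (h : g⁻¹ * v * g ∉ D) : fixTerm μ v g = 1 := dif_neg h

theorem fixTerm_mul (v g : G) {d : G} (hd : d ∈ D) : fixTerm μ v (g * d) = fixTerm μ v g := by
  have e : (g * d)⁻¹ * v * (g * d) = d⁻¹ * (g⁻¹ * v * g) * d := by group
  by_cases h : g⁻¹ * v * g ∈ D
  · have h' : (g * d)⁻¹ * v * (g * d) ∈ D := e ▸ D.mul_mem (D.mul_mem (D.inv_mem hd) h) hd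
    rw [fixTerm_of_mem μ h, fixTerm_of_mem μ h',
      show (⟨_, h'⟩ : D) = ⟨d, hd⟩⁻¹ * ⟨_, h⟩ * ⟨d, hd⟩ from Subtype.ext e, map_mul, map_mul,
      map_inv, inv_mul_cancel_comm]
  · have h' : (g * d)⁻¹ * v * (g * d) ∉ D := fun h' => h (by
      have := D.mul_mem (D.mul_mem hd (e ▸ h')) (D.inv_mem hd)
      simpa [mul_assoc] using this)
    rw [fixTerm_of_not_mem μ h, fixTerm_of_not_mem μ h']

theorem fixTerm_conj (v a g : G) : fixTerm μ v (a * g) = fixTerm μ (a⁻¹ * v * a) g := by
  have e : (a * g)⁻¹ * v * (a * g) = g⁻¹ * (a⁻¹ * v * a) * g := by group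
  unfold fixTerm
  by_cases h : (a * g)⁻¹ * v * (a * g) ∈ D
  · rw [dif_pos h, dif_pos (e ▸ h)]
    exact congrArg μ (Subtype.ext e)
  · rw [dif_neg h, dif_neg (fun hh => h (e ▸ hh))]

/-- `fixTerm` on cosets. -/
theorem fixTerm_out (v g : G) : fixTerm μ v (g : G ⧸ D).out = fixTerm μ v g := by
  obtain ⟨d, hd⟩ := QuotientGroup.mk_out_eq_mul D g
  rw [hd, fixTerm_mul μ v g d.2]

variable [Finite G] [Fintype (G ⧸ D)]

/-- If the long orbits of `v` contribute nothing, the transfer of `v` is the product of the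
contributions of the cosets fixed by `v`. -/
theorem transfer_eq_prod_fixTerm (v : G)
    (hkill : ∀ (g : G) (k : ℕ), 1 < k → k ∣ orderOf v → ∀ h : g⁻¹ * v ^ k * g ∈ D, μ ⟨_, h⟩ = 1) :
    MonoidHom.transfer μ v = ∏ x : G ⧸ D, fixTerm μ v x.out := by
  rw [MonoidHom.transfer_eq_prod_quotient_orbitRel_zpowers_quot]
  rw [← Fintype.prod_fiberwise (fun x : G ⧸ D =>
    (Quotient.mk (orbitRel (zpowers v) (G ⧸ D)) x)) (fun x : G ⧸ D => fixTerm μ v x.out)]
  refine Fintype.prod_congr _ _ fun q => ?_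
  set k := minimalPeriod (v • ·) q.out with hk
  have hfix : ∀ x : G ⧸ D, v • x = x ↔ x.out⁻¹ * v * x.out ∈ D := by
    intro x
    conv_lhs => rw [← QuotientGroup.out_eq' x, MulAction.Quotient.smul_coe, smul_eq_mul,
      QuotientGroup.eq]
    rw [← D.inv_mem_iff, mul_inv_rev, inv_inv, mul_assoc]
  have hdvd : k ∣ orderOf v := IsPeriodicPt.minimalPeriod_dvd (by
    show (v • ·)^[orderOf v] q.out = q.out
    rw [smul_iterate, pow_orderOf_eq_one]; exact one_smul G q.out)
  have hkpos : 0 < k := Nat.pos_of_dvd_of_pos hdvd (orderOf_pos v)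
  have horb : ∀ x : G ⧸ D, Quotient.mk (orbitRel (zpowers v) (G ⧸ D)) x = q →
      ∃ z : zpowers v, z • q.out = x := fun x hx => by
    have h1 : (orbitRel (zpowers v) (G ⧸ D)) x q.out :=
      Quotient.exact (hx.trans (Quotient.out_eq q).symm)
    exact mem_orbit_iff.1 (orbitRel_apply.1 h1)
  rcases Nat.lt_or_ge 1 k with h1 | h1
  · rw [hkill _ _ h1 hdvd]
    refine (Finset.prod_eq_one fun x _ => fixTerm_of_not_mem μ fun hx => ?_).symm
    obtain ⟨z, hz⟩ := horb x.1 x.2
    have hxfix := (hfix x.1).2 hx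
    rw [← hz] at hxfix
    change v • (z : G) • q.out = (z : G) • q.out at hxfix
    rw [← mul_smul] at hxfix
    obtain ⟨m, hm⟩ := mem_zpowers_iff.1 z.2
    have : v • q.out = q.out := by
      refine MulAction.injective (z : G) ?_
      show (z : G) • v • q.out = (z : G) • q.out
      rw [← mul_smul, ← hm, (Commute.zpow_self v m).eq, hm]
      exact hxfix
    have : k = 1 := minimalPeriod_eq_one_iff_isFixedPt.2 this
    omega
  · have hk1 : k = 1 := by omega
    have hqfix : v • q.out = q.out := minimalPeriod_eq_one_iff_isFixedPt.1 hk1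
    have hq : (Quotient.mk (orbitRel (zpowers v) (G ⧸ D)) q.out) = q := Quotient.out_eq q
    have key : ∀ x : G ⧸ D, Quotient.mk (orbitRel (zpowers v) (G ⧸ D)) x = q → x = q.out := by
      intro x hx
      obtain ⟨z, hz⟩ := horb x hx
      obtain ⟨m, hm⟩ := mem_zpowers_iff.1 z.2
      have hfixz : (z : G) ∈ stabilizer G q.out :=
        hm ▸ zpow_mem (mem_stabilizer_iff.2 hqfix) m
      rw [← hz]
      exact mem_stabilizer_iff.1 hfixz
    refine Eq.trans ?_ (Fintype.prod_eq_single (f := fun x : {x : G ⧸ D //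
      (Quotient.mk (orbitRel (zpowers v) (G ⧸ D)) x) = q} => fixTerm μ v x.1.out)
      ⟨q.out, hq⟩ fun x hx => absurd (Subtype.ext (key x.1 x.2)) hx).symm
    rw [fixTerm_of_mem μ ((hfix q.out).1 hqfix)]
    refine congrArg μ (Subtype.ext ?_)
    show q.out.out⁻¹ * v ^ k * q.out.out = _
    rw [hk1, pow_one]

end CfsgLib.LocalStructure.Yoshida
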