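import Cfsg.Agent.Transfer.Tate
import Cfsg.Agent.Solvable.Frattini
import Cfsg.Agent.LocalStructure.YoshidaTransfer
import Cfsg.Agent.LocalStructure.YoshidaModule

/-!
Yoshida's transfer theorem: if the normalizer of a weakly closed subgroup `W` of a Sylow
`p`-subgroup `S` does not control transfer, there are `x ∈ S`, `z ∈ W` with long commutator chains.
-/

namespace CfsgLib.LocalStructure.Yoshida

open Subgroup MulAction
open CfsgLib.Transfer
open scoped Classical commutatorElement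

variable {G : Type*} [Group G] {A : Type*} [CommGroup A]

/-- Splitting the product of the fixed cosets along an intermediate subgroup. -/
theorem prod_fixTerm_le [Finite G] {D K : Subgroup G} [Fintype (G ⧸ D)] [Fintype (G ⧸ K)]
    [Fintype (↥K ⧸ D.subgroupOf K)] (hDK : D ≤ K) (μ : D →* A) (v : G) :
    ∏ x : G ⧸ D, fixTerm μ v x.out =
      ∏ y : G ⧸ K, ∏ z : ↥K ⧸ D.subgroupOf K, fixTerm μ v (y.out * (z.out : G)) := by
  rw [← Fintype.prod_prod_type']
  refine (Fintype.prod_bijective (Subgroup.quotientEquivProdOfLE hDK).symm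
    (Equiv.bijective _) _ _ fun q => ?_).symm
  obtain ⟨y, z⟩ := q
  have : (Subgroup.quotientEquivProdOfLE hDK).symm (y, z) = ((y.out * (z.out : G) : G) : G ⧸ D) := by
    conv_lhs => rw [← QuotientGroup.out_eq' z]
    rfl
  rw [this, fixTerm_out]

/-- The restriction of `μ` to `K`. -/
def restrictTo {D : Subgroup G} (μ : D →* A) (K : Subgroup G) : D.subgroupOf K →* A where
  toFun d := μ ⟨((d : K) : G), d.2⟩
  map_one' := map_one μ
  map_mul' a b := map_mul μ ⟨((a : K) : G), a.2⟩ ⟨((b : K) : G), b.2⟩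

theorem fixTerm_restrictTo {D K : Subgroup G} (μ : D →* A) (a z : K) :
    fixTerm (restrictTo μ K) a z = fixTerm μ (a : G) (z : G) := by
  unfold fixTerm
  by_cases h : (z : G)⁻¹ * (a : G) * (z : G) ∈ D
  · have h' : z⁻¹ * a * z ∈ D.subgroupOf K := by simpa [mem_subgroupOf] using h
    rw [dif_pos h, dif_pos h']
    rfl
  · have h' : z⁻¹ * a * z ∉ D.subgroupOf K := by simpa [mem_subgroupOf] using h
    rw [dif_neg h, dif_neg h']

/-- An element outside `K ≥ D` contributes nothing. -/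
theorem prod_fixTerm_eq_one {D K : Subgroup G} [Fintype (↥K ⧸ D.subgroupOf K)] (hDK : D ≤ K)
    (μ : D →* A) {a : G} (ha : a ∉ K) :
    ∏ z : ↥K ⧸ D.subgroupOf K, fixTerm μ a (z.out : G) = 1 :=
  Finset.prod_eq_one fun z _ => fixTerm_of_not_mem μ fun h => ha (by
    have := K.mul_mem (K.mul_mem z.out.2 (hDK h)) (K.inv_mem z.out.2)
    simpa [mul_assoc] using this)

/-- Powers of `v` of smaller order are killed. -/
def Kills {D : Subgroup G} (μ : D →* A) (v : G) : Prop :=
  ∀ (g : G) (k : ℕ), 1 < k → k ∣ orderOf v → ∀ h : g⁻¹ * v ^ k * g ∈ D, μ ⟨_, h⟩ = 1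

theorem Kills.restrict {D K : Subgroup G} {μ : D →* A} {v : G} (h : Kills μ v) (y : G)
    (ha : y⁻¹ * v * y ∈ K) : Kills (restrictTo μ K) ⟨_, ha⟩ := by
  intro g k hk hdvd hmem
  have e : ((g⁻¹ * (⟨_, ha⟩ : K) ^ k * g : K) : G) = (y * g)⁻¹ * v ^ k * (y * g) := by
    have hpow : ∀ n : ℕ, (y⁻¹ * v * y) ^ n = y⁻¹ * v ^ n * y := by
      intro n
      induction n with
      | zero => simp
      | succ n ih => rw [pow_succ, pow_succ, ih]; group
    rw [Subgroup.coe_mul, Subgroup.coe_mul, Subgroup.coe_inv, SubmonoidClass.coe_pow]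
    show (g : G)⁻¹ * (y⁻¹ * v * y) ^ k * (g : G) = _
    rw [hpow k]; group
  have ho : orderOf (⟨_, ha⟩ : K) = orderOf v := by
    rw [Subgroup.orderOf_mk]
    simpa using ((SemiconjBy.conj_mk y⁻¹ v).orderOf_eq _).symm
  have h' : (y * g)⁻¹ * v ^ k * (y * g) ∈ D := e ▸ (mem_subgroupOf.1 hmem)
  exact (congrArg μ (Subtype.ext e)).trans (h (y * g) k hk (ho ▸ hdvd) h')

variable [Finite G] {p : ℕ} [hp : Fact p.Prime]

/-- An element of a group not in the elementary residual is detected by a homomorphism to `Z/p`. -/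
theorem exists_hom_ne_one {H : Type*} [Group H] [Finite H] {x : H} (hx : x ∉ elemResidual p H) :
    ∃ f : H →* Multiplicative (ZMod p), f x ≠ 1 := by
  obtain ⟨K, -, hK⟩ := Finite.exists_le_maximal (p := fun K : Subgroup H =>
    elemResidual p H ≤ K ∧ x ∉ K) (a := elemResidual p H) ⟨le_rfl, hx⟩
  obtain ⟨hEK, hxK⟩ := hK.prop
  have hKn : K.Normal := by
    refine ⟨fun k hk g => ?_⟩
    have h1 : g * k * g⁻¹ * k⁻¹ ∈ K := hEK (mem_sup_left (commutator_mem_commutator
      (G := H) (H₁ := ⊤) (H₂ := ⊤) (mem_top g) (mem_top k)))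
    simpa using mul_mem h1 hk
  have hpow : ∀ y : H ⧸ K, y ^ p = 1 := by
    intro y
    obtain ⟨y, rfl⟩ := QuotientGroup.mk'_surjective K y
    rw [← map_pow]
    exact (QuotientGroup.eq_one_iff _).2 (hEK (le_sup_right (a := _root_.commutator H)
      (subset_closure ⟨y, rfl⟩)))
  set a : H ⧸ K := QuotientGroup.mk' K x
  have ha : a ≠ 1 := fun h => hxK ((QuotientGroup.eq_one_iff x).1 h)
  have hoa : orderOf a = p := orderOf_eq_prime (hpow a) ha
  have htop : zpowers a = ⊤ := by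
    refine eq_top_iff.2 fun y _ => ?_
    by_cases hy : y = 1
    · rw [hy]; exact one_mem _
    have hay : a ∈ zpowers y := by
      obtain ⟨y', hy'⟩ := QuotientGroup.mk'_surjective K y
      by_contra hcon
      have hle : K ≤ (zpowers y).comap (QuotientGroup.mk' K) :=
        le_trans (QuotientGroup.ker_mk' K).ge (ker_le_comap _ _)
      have := hK.le_of_ge (y := (zpowers y).comap (QuotientGroup.mk' K))
        ⟨hEK.trans hle, hcon⟩ hle
      have hy'K : y' ∈ K := this (show QuotientGroup.mk' K y' ∈ zpowers y by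
        rw [hy']; exact mem_zpowers y)
      exact hy (hy' ▸ (QuotientGroup.eq_one_iff y').2 hy'K)
    have hoy : orderOf y = p := orderOf_eq_prime (hpow y) hy
    have : zpowers a = zpowers y := Subgroup.eq_of_le_of_card_ge (zpowers_le.2 hay)
      (by rw [Nat.card_zpowers, Nat.card_zpowers, hoy, hoa])
    rw [this]; exact mem_zpowers y
  have hcard : Nat.card (H ⧸ K) = p := by
    rw [← Subgroup.card_top (G := H ⧸ K), ← htop, Nat.card_zpowers, hoa]
  let e : H ⧸ K ≃* Multiplicative (ZMod p) := mulEquivOfPrimeCardEq hcard (by simp [Nat.card_zmod])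
  exact ⟨e.toMonoidHom.comp (QuotientGroup.mk' K), fun h => ha (e.injective (h.trans (map_one e).symm))⟩

/-- In an abelian group the image of `O^p` has no `p`-elements. -/
theorem map_eq_one_of_mem_pResidual {H : Type*} [Group H] [Finite H] {B : Type*} [CommGroup B]
    (f : H →* B) {x : H} (hx : x ∈ Cfsg.pResidual p H) (hp' : ∃ k, orderOf x = p ^ k) :
    f x = 1 := by
  have key : ∀ y ∈ Cfsg.pResidual p H, (orderOf (f y)).Coprime p := by
    intro y hy
    refine closure_induction (fun z hz => ?_) ?_ (fun a b _ _ ha hb => ?_) (fun a _ ha => ?_) hy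
    · exact Nat.Coprime.coprime_dvd_left (orderOf_map_dvd f z) hz
    · simp
    · rw [map_mul]
      exact Nat.Coprime.coprime_dvd_left (Commute.all _ _).orderOf_mul_dvd_mul_orderOf (ha.mul_left hb)
    · rwa [map_inv, orderOf_inv]
  obtain ⟨k, hk⟩ := hp'
  have h1 : (orderOf (f x)).Coprime (p ^ k) := (key x hx).pow_right k
  have h2 : orderOf (f x) ∣ p ^ k := hk ▸ orderOf_map_dvd f x
  exact orderOf_eq_one_iff.1 (h1.eq_one_of_dvd h2)

/-- Failure of transfer control gives a homomorphism to `Z/p` not killing the elementary focal part. -/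
theorem exists_hom_of_transfer_failure (S : Sylow p G) {H : Subgroup G}
    (hSH : (S : Subgroup G) ≤ H)
    (h : (S : Subgroup G) ⊓ _root_.commutator G ≠ (S : Subgroup G) ⊓ ⁅H, H⁆) :
    ∃ lam : H →* Multiplicative (ZMod p), ∃ x : G, ∃ hx : x ∈ (S : Subgroup G),
      x ∈ elemResidual p G ∧ lam ⟨x, hSH hx⟩ ≠ 1 := by
  by_contra hcon
  push Not at hcon
  have hE : (S : Subgroup G) ⊓ elemResidual p G ≤ (elemResidual p H).map H.subtype := by
    rintro x ⟨hxS, hxE⟩
    by_contra hn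
    obtain ⟨f, hf⟩ := exists_hom_ne_one (p := p) (x := (⟨x, hSH hxS⟩ : H))
      (fun h' => hn ⟨_, h', rfl⟩)
    exact hf (hcon f x hxS hxE)
  have htate := tate_of_elemResidual S hSH hE
  refine h (le_antisymm (le_inf inf_le_left ?_)
    (inf_le_inf_left _ (commutator_mono le_top le_top)))
  rintro x ⟨hxS, hxG⟩
  set K := Cfsg.pResidual p G
  haveI : K.Normal := inferInstance
  have hG' : _root_.commutator G ≤ ⁅(S : Subgroup G), (S : Subgroup G)⁆ ⊔ K := by
    set f := QuotientGroup.mk' K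
    have hS : (S : Subgroup G).map f = ⊤ := by
      rw [← map_top_of_surjective f (QuotientGroup.mk'_surjective K),
        ← sylow_sup_pResidual (p := p) S, Subgroup.map_sup, QuotientGroup.map_mk'_self, sup_bot_eq]
    rw [sup_comm]
    have : (_root_.commutator G).map f ≤ (⁅(S : Subgroup G), (S : Subgroup G)⁆).map f := by
      rw [map_commutator, hS, _root_.commutator_def, map_commutator]
      exact commutator_mono le_top le_top
    rw [map_le_iff_le_comap, comap_map_eq, QuotientGroup.ker_mk'] at this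
    rwa [sup_comm] at this
  obtain ⟨c, hc, k, hk, rfl⟩ := mem_sup_of_normal_right.1 (hG' hxG)
  refine mul_mem (commutator_mono hSH hSH hc) ?_
  have hcS : c ∈ (S : Subgroup G) := commutator_le_self _ hc
  have hkS : k ∈ (S : Subgroup G) := by
    simpa using mul_mem (inv_mem hcS) hxS
  obtain ⟨k', hk', rfl⟩ : k ∈ (Cfsg.pResidual p H).map H.subtype := htate ▸ ⟨hSH hkS, hk⟩
  have hord : ∃ n, orderOf k' = p ^ n := by
    obtain ⟨n, hn⟩ := (IsPGroup.iff_orderOf.1 S.2) ⟨_, hkS⟩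
    exact ⟨n, (Subgroup.orderOf_coe k').symm.trans ((Subgroup.orderOf_mk _ _).symm.trans hn)⟩
  have := map_eq_one_of_mem_pResidual (Abelianization.of (G := H)) hk' hord
  rw [← map_subtype_commutator]
  exact ⟨k', (QuotientGroup.eq_one_iff k').1 this, rfl⟩

/-- The group-level content of Yoshida's theorem. -/
theorem exists_transfer_config (S : Sylow p G) {W : Subgroup G} (hWS : W ≤ (S : Subgroup G))
    (hwc : ∀ g : G, W.map (MulAut.conj g).toMonoidHom ≤ (S : Subgroup G) →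
      g ∈ Subgroup.normalizer (W : Set G))
    (h : (S : Subgroup G) ⊓ _root_.commutator G ≠
      (S : Subgroup G) ⊓ ⁅Subgroup.normalizer (W : Set G), Subgroup.normalizer (W : Set G)⁆) :
    ∃ (X : Subgroup ↥(S : Subgroup G)) (M : Subgroup X) (_ : M.Normal) (_ : Fintype (X ⧸ M))
      (ω : M →* Multiplicative (ZMod p)) (u : M) (s : X),
      W.subgroupOf (S : Subgroup G) ≤ X ∧ ((s : ↥(S : Subgroup G)) : G) ∈ W ∧ s ∉ M ∧
      M.index = p ∧ ∑ q, (conjVals ω u).toAdd q ≠ 0 := by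
  set H := Subgroup.normalizer (W : Set G) with hH
  have hSH : (S : Subgroup G) ≤ H := fun s hs => hwc s (by
    rintro _ ⟨w, hw, rfl⟩
    simpa using mul_mem (mul_mem hs (hWS hw)) (inv_mem hs))
  obtain ⟨lam, x₀, hx₀S, hx₀E, hx₀⟩ := exists_hom_of_transfer_failure S hSH h
  -- choose `u` of least order
  obtain ⟨u, ⟨huS, huE, hu⟩, humin⟩ := Set.exists_min_image
    {x : G | ∃ hx : x ∈ (S : Subgroup G), x ∈ elemResidual p G ∧ lam ⟨x, hSH hx⟩ ≠ 1} orderOf
    (Set.toFinite _) ⟨x₀, hx₀S, hx₀E, hx₀⟩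
  haveI hEn : (elemResidual p G).Normal := ⟨fun k hk g => by
    have h1 : g * k * g⁻¹ * k⁻¹ ∈ elemResidual p G := mem_sup_left (commutator_mem_commutator
      (G := G) (H₁ := ⊤) (H₂ := ⊤) (mem_top g) (mem_top k))
    simpa using mul_mem h1 hk⟩
  have hSconj : ∀ w : G, (∃ n, orderOf w = p ^ n) → w ∈ H → ∃ e ∈ H, e * w * e⁻¹ ∈ (S : Subgroup G) := by
    rintro w ⟨n, hn⟩ hw
    have hz : IsPGroup p (zpowers (⟨w, hw⟩ : H)) :=
      IsPGroup.of_card (n := n) (by rw [Nat.card_zpowers, Subgroup.orderOf_mk, hn])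
    obtain ⟨P, hP⟩ := hz.exists_le_sylow
    obtain ⟨e, he⟩ := MulAction.exists_smul_eq H P (S.subtype hSH)
    refine ⟨e, e.2, ?_⟩
    have : MulAut.conj e (⟨w, hw⟩ : H) ∈ ((e • P : Sylow p H) : Subgroup H) :=
      ⟨_, hP (mem_zpowers _), rfl⟩
    rw [he] at this
    exact this
  have hkillG : Kills lam u := by
    intro g k hk hdvd hmem
    set w := g⁻¹ * u ^ k * g
    have hword : orderOf w = orderOf u / k := by
      rw [show orderOf w = orderOf (u ^ k) by
        simpa [w] using ((SemiconjBy.conj_mk g⁻¹ (u ^ k)).orderOf_eq _).symm,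
        orderOf_pow_of_dvd (by omega) hdvd]
    obtain ⟨n, hn⟩ : ∃ n, orderOf w = p ^ n := by
      obtain ⟨n, hn⟩ := (IsPGroup.iff_orderOf.1 S.2) ⟨u, huS⟩
      rw [Subgroup.orderOf_mk] at hn
      obtain ⟨i, -, hi⟩ := (Nat.dvd_prime_pow hp.out).1
        (hn ▸ hword ▸ Nat.div_dvd_of_dvd hdvd : orderOf w ∣ p ^ n)
      exact ⟨i, hi⟩
    obtain ⟨e, he, heS⟩ := hSconj w ⟨n, hn⟩ hmem
    by_contra hne
    have hlt : orderOf (e * w * e⁻¹) < orderOf u := by
      rw [← (SemiconjBy.conj_mk e w).orderOf_eq _, hword]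
      exact Nat.div_lt_self (orderOf_pos u) hk
    refine absurd (humin _ ⟨heS, hEn.conj_mem _ ?_ e, ?_⟩) (not_le.2 hlt)
    · simpa [w] using hEn.conj_mem _ (pow_mem huE k) g⁻¹
    · rw [show (⟨e * w * e⁻¹, hSH heS⟩ : H) = ⟨e, he⟩ * ⟨w, hmem⟩ * ⟨e, he⟩⁻¹ from Subtype.ext rfl,
        map_mul, map_mul, map_inv, mul_inv_cancel_comm]
      exact hne
  haveI : Fintype (G ⧸ H) := Fintype.ofFinite _
  have htot : ∏ x : G ⧸ H, fixTerm lam u x.out = 1 := by
    rw [← transfer_eq_prod_fixTerm lam u hkillG]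
    exact MonoidHom.mem_ker.1 (elemResidual_le_ker (MonoidHom.transfer lam) (fun a b => mul_comm a b)
      (fun a => by
        apply Multiplicative.toAdd.injective
        simp) huE)
  -- some nontrivial `S`-orbit contributes
  set S' := (S : Subgroup G)
  let π : G ⧸ H → orbitRel.Quotient ↥S' (G ⧸ H) := Quotient.mk _
  haveI : Fintype (orbitRel.Quotient ↥S' (G ⧸ H)) := Fintype.ofFinite _
  set o₁ := π ((1 : G) : G ⧸ H) with ho₁
  have hfix1 : ∀ s : S', s • ((1 : G) : G ⧸ H) = ((1 : G) : G ⧸ H) := fun s => by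
    show ((s : G) * 1 : G) = ((1 : G) : G ⧸ H)
    rw [mul_one, QuotientGroup.eq, mul_one]
    exact inv_mem (hSH s.2)
  have horb1 : ∀ x, π x = o₁ → x = ((1 : G) : G ⧸ H) := fun x hx => by
    obtain ⟨s, hs⟩ := mem_orbit_iff.1 (orbitRel_apply.1 (Quotient.exact hx))
    rw [← hs]; exact hfix1 s
  obtain ⟨o, ho, hprod⟩ : ∃ o, o ≠ o₁ ∧ ∏ x : {x // π x = o}, fixTerm lam u x.1.out ≠ 1 := by
    by_contra hcon
    push Not at hcon
    rw [← Fintype.prod_fiberwise π, Fintype.prod_eq_single o₁ hcon] at htot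
    refine hu (Eq.trans ?_ htot)
    refine Eq.symm ((Fintype.prod_eq_single (⟨_, rfl⟩ : {x // π x = o₁})
      fun x hx => absurd (Subtype.ext (horb1 x.1 x.2)) hx).trans ?_)
    rw [fixTerm_out, fixTerm_of_mem lam (by simpa using hSH huS)]
    exact congrArg lam (Subtype.ext (by simp))
  set q₀ := o.out with hq₀
  set g := q₀.out with hg
  set D : Subgroup ↥S' := stabilizer ↥S' q₀ with hD
  have hDmem : ∀ d : S', d ∈ D ↔ g⁻¹ * (d : G) * g ∈ H := fun d => by
    rw [hD, mem_stabilizer_iff]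
    conv_lhs => rw [← QuotientGroup.out_eq' q₀]
    show (((d : G) * g : G) : G ⧸ H) = (g : G ⧸ H) ↔ _
    rw [QuotientGroup.eq, ← H.inv_mem_iff, mul_inv_rev, inv_inv, mul_assoc]
  let μ : D →* Multiplicative (ZMod p) := lam.comp
    { toFun := fun d => ⟨g⁻¹ * ((d : S') : G) * g, (hDmem _).1 d.2⟩
      map_one' := Subtype.ext (by simp)
      map_mul' := fun a b => Subtype.ext (by simp [mul_assoc]) }
  have hfixμ : ∀ v y : S', fixTerm μ v y = fixTerm lam (v : G) ((y : G) * g) := fun v y => by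
    rw [fixTerm_conj]
    unfold fixTerm
    by_cases hh : g⁻¹ * ((y : G)⁻¹ * v * y) * g ∈ H
    · have hh' : y⁻¹ * v * y ∈ D := (hDmem _).2 (by simpa using hh)
      rw [dif_pos hh, dif_pos hh']
      exact congrArg lam (Subtype.ext (by simp))
    · have hh' : y⁻¹ * v * y ∉ D := fun hh' => hh (by simpa using (hDmem _).1 hh')
      rw [dif_neg hh, dif_neg hh']
  have hkillS : Kills μ (⟨u, huS⟩ : S') := by
    intro a k hk hdvd hmem
    rw [Subgroup.orderOf_mk] at hdvd
    have e : g⁻¹ * ((a⁻¹ * (⟨u, huS⟩ : S') ^ k * a : S') : G) * g =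
        ((a : G) * g)⁻¹ * u ^ k * ((a : G) * g) := by simp [mul_assoc]
    exact (congrArg lam (Subtype.ext e)).trans
      (hkillG ((a : G) * g) k hk hdvd (e ▸ (hDmem _).1 hmem))
  haveI : Fintype (↥S' ⧸ D) := Fintype.ofFinite _
  have hprodS : ∏ y : ↥S' ⧸ D, fixTerm μ ⟨u, huS⟩ y.out ≠ 1 := by
    have hmemo : ∀ y : ↥S' ⧸ D, π (ofQuotientStabilizer ↥S' q₀ y) = o := fun y => by
      conv_rhs => rw [← Quotient.out_eq o]
      exact Quotient.sound (ofQuotientStabilizer_mem_orbit ↥S' q₀ y)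
    have hb : Function.Bijective fun y : ↥S' ⧸ D =>
        (⟨ofQuotientStabilizer ↥S' q₀ y, hmemo y⟩ : {x // π x = o}) := by
      refine ⟨fun a b e => injective_ofQuotientStabilizer ↥S' q₀ (congrArg Subtype.val e),
        fun x => ?_⟩
      obtain ⟨s, hs⟩ := mem_orbit_iff.1 (orbitRel_apply.1
        (Quotient.exact (x.2.trans (Quotient.out_eq o).symm)))
      exact ⟨(s : ↥S' ⧸ D), Subtype.ext hs⟩
    refine fun e => hprod ?_
    rw [← e]
    refine (Fintype.prod_bijective _ hb _ _ fun y => ?_).symm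
    rw [hfixμ]
    have : ofQuotientStabilizer ↥S' q₀ y = (((y.out : S') : G) * g : G) := by
      conv_lhs => rw [← QuotientGroup.out_eq' y]
      show (y.out : S') • q₀ = _
      conv_lhs => rw [← QuotientGroup.out_eq' q₀]
      rfl
    show _ = fixTerm lam u (ofQuotientStabilizer ↥S' q₀ y).out
    rw [this, fixTerm_out]
  have hWD : ¬ W.subgroupOf S' ≤ D := by
    intro hle
    have hWg : W.map (MulAut.conj g⁻¹).toMonoidHom ≤ H := by
      rintro _ ⟨w, hw, rfl⟩
      simpa using (hDmem ⟨w, hWS hw⟩).1 (hle hw)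
    have hWgp : IsPGroup p ↥(W.map (MulAut.conj g⁻¹).toMonoidHom) := (S.2.to_le hWS).map _
    obtain ⟨P, hP⟩ := (hWgp.comap_subtype (K := H)).exists_le_sylow
    obtain ⟨e, he⟩ := MulAction.exists_smul_eq H P (S.subtype hSH)
    have hmem : (e : G) * g⁻¹ ∈ Subgroup.normalizer (W : Set G) := hwc _ (by
      rintro _ ⟨w, hw, rfl⟩
      have : MulAut.conj e (⟨g⁻¹ * w * g, by simpa using hWg ⟨w, hw, rfl⟩⟩ : H) ∈
          ((e • P : Sylow p H) : Subgroup H) :=
        ⟨_, hP ⟨w, hw, by simp⟩, rfl⟩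
      rw [he] at this
      simpa [mul_assoc, S', mem_subgroupOf] using this)
    have hgH : g ∈ H := by
      have := H.mul_mem (H.inv_mem e.2) hmem
      simpa using this
    refine ho ?_
    rw [← Quotient.out_eq o, ← hq₀, ← QuotientGroup.out_eq' q₀, ← hg, ho₁]
    exact congrArg π (QuotientGroup.eq.2 (by simpa using hgH))
  -- cut down to `D ⊔ W`
  have hWn : (W.subgroupOf S').Normal := (normal_subgroupOf_iff_le_normalizer hWS).2 hSH
  set X : Subgroup ↥S' := D ⊔ W.subgroupOf S' with hX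
  haveI : Fintype (↥S' ⧸ X) := Fintype.ofFinite _
  haveI : Fintype (↥X ⧸ D.subgroupOf X) := Fintype.ofFinite _
  rw [prod_fixTerm_le (le_sup_left : D ≤ X)] at hprodS
  obtain ⟨y, -, hy⟩ := Finset.exists_ne_one_of_prod_ne_one hprodS
  simp only [fixTerm_conj μ _ y.out] at hy
  have haX : y.out⁻¹ * (⟨u, huS⟩ : S') * y.out ∈ X := by
    by_contra hn
    exact hy (prod_fixTerm_eq_one le_sup_left μ hn)
  set a : X := ⟨_, haX⟩ with ha
  have hkillX : Kills (restrictTo μ X) a := hkillS.restrict y.out haX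
  set D' := D.subgroupOf X with hD'
  set μ' := restrictTo μ X with hμ'
  have hy' : ∏ z : ↥X ⧸ D', fixTerm μ' a z.out ≠ 1 := by
    intro e'
    apply hy
    rw [← e']
    exact Finset.prod_congr (congrArg (fun i => @Finset.univ _ i) (Subsingleton.elim _ _))
      fun z _ => (fixTerm_restrictTo μ a z.out).symm
  have hXp : IsPGroup p X := S.2.to_subgroup X
  have hD'top : D' ≠ ⊤ := fun e => hWD ((le_sup_right : _ ≤ X).trans (subgroupOf_eq_top.1 e))
  obtain ⟨M, hM, hDM⟩ := (eq_top_or_exists_le_coatom D').resolve_left hD'top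
  haveI hMn : M.Normal := CfsgLib.Solvable.normal_of_coatom hXp hM
  have hidx : M.index = p := CfsgLib.Solvable.index_coatom hXp hM
  obtain ⟨s, hsW, hsM⟩ : ∃ s : X, ((s : S') : G) ∈ W ∧ s ∉ M := by
    by_contra hcon
    push Not at hcon
    refine hM.1 (eq_top_iff.2 fun t _ => ?_)
    obtain ⟨d, hd, w, hw, e⟩ := mem_sup_of_normal_right.1 (t.2 : (t : S') ∈ D ⊔ W.subgroupOf S')
    have hdX : d ∈ X := mem_sup_left hd
    have hwX : w ∈ X := mem_sup_right hw
    rw [show t = ⟨d, hdX⟩ * ⟨w, hwX⟩ from Subtype.ext e.symm]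
    exact mul_mem (hDM hd) (hcon ⟨w, hwX⟩ hw)
  haveI : Fintype (↥X ⧸ M) := Fintype.ofFinite _
  haveI : Fintype (↥M ⧸ D'.subgroupOf M) := Fintype.ofFinite _
  rw [prod_fixTerm_le hDM] at hy'
  simp only [fixTerm_conj μ'] at hy'
  have haM : a ∈ M := by
    by_contra hn
    refine hy' (Finset.prod_eq_one fun q _ => prod_fixTerm_eq_one hDM μ' fun hh => hn ?_)
    have := hMn.conj_mem _ hh q.out
    simpa [mul_assoc] using this
  let ω := MonoidHom.transfer (restrictTo μ' M)
  refine ⟨X, M, hMn, inferInstance, ω, ⟨a, haM⟩, s, le_sup_right, hsW, hsM, hidx, fun h0 => hy' ?_⟩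
  apply Multiplicative.toAdd.injective
  rw [toAdd_prod, toAdd_one, ← h0]
  refine Finset.sum_congr rfl fun q _ => ?_
  have hq : q.out⁻¹ * a * q.out ∈ M := by simpa using hMn.conj_mem _ haM q.out⁻¹
  conv_rhs => rw [← QuotientGroup.out_eq' q, conjVals_apply ω ⟨a, haM⟩ q.out hq]
  congr 1
  rw [transfer_eq_prod_fixTerm _ _ (hkillX.restrict q.out hq)]
  simp only [fixTerm_restrictTo]
  exact Finset.prod_congr (congrArg (fun i => @Finset.univ _ i) (Subsingleton.elim _ _)) fun _ _ => rfl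

theorem wreath_quotient (S : Sylow p G)
    (h : (S : Subgroup G) ⊓ _root_.commutator G ≠ (S : Subgroup G) ⊓
      ⁅Subgroup.normalizer ((S : Subgroup G) : Set G), Subgroup.normalizer ((S : Subgroup G) : Set G)⁆) :
    ∃ (P : Sylow p (Equiv.Perm (Fin (p ^ 2))))
      (f : ↥(S : Subgroup G) →* ↥(P : Subgroup (Equiv.Perm (Fin (p ^ 2))))), Function.Surjective f := by
  obtain ⟨X, M, hM, hF, ω, u, s, hWX, -, hs, hidx, hu⟩ := exists_transfer_config S le_rfl
    (fun g hg => mem_normalizer_iff_map_conj_eq.2 (eq_of_le_of_card_ge hg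
      (card_map_of_injective (MulAut.conj g).injective).ge)) h
  obtain ⟨P, f, hf⟩ := exists_wreath_quotient ω s hs hidx (S.2.to_subgroup X) u hu
  have hX : X = ⊤ := top_le_iff.1 ((subgroupOf_self (S : Subgroup G)).ge.trans hWX)
  let e : ↥(S : Subgroup G) ≃* X := Subgroup.topEquiv.symm.trans (MulEquiv.subgroupCongr hX.symm)
  exact ⟨P, f.comp e.toMonoidHom, hf.comp e.surjective⟩

theorem commutator_chain (S : Sylow p G) {W : Subgroup G} (hW : Cfsg.IsWeaklyClosed W (S : Subgroup G))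
    (h : (S : Subgroup G) ⊓ _root_.commutator G ≠
      (S : Subgroup G) ⊓ ⁅Subgroup.normalizer (W : Set G), Subgroup.normalizer (W : Set G)⁆) :
    ∃ x ∈ (S : Subgroup G), ∃ z ∈ W, ∃ W₀ : Subgroup ↥W, IsCoatom W₀ ∧
      (fun y : G => y⁻¹ * z⁻¹ * y * z)^[p - 1] x ∈ W₀.map W.subtype ∧
      (fun y : G => y⁻¹ * z⁻¹ * y * z)^[p - 1] x ∉ ((frattini ↥W₀).map W₀.subtype).map W.subtype := by
  obtain ⟨X, M, hM, hF, ω, u, s, hWX, hsW, hs, hidx, hu⟩ := exists_transfer_config S hW.1
    (fun g hg => mem_normalizer_iff_map_conj_eq.2 (hW.2 g hg)) h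
  obtain ⟨hc, hc1⟩ := iterate_commutator_ne_one ω s hs hidx u hu
  set z : G := ((s : ↥(S : Subgroup G)) : G)
  set φ : G → G := fun y => y⁻¹ * z⁻¹ * y * z
  set φX : X → X := fun y => y⁻¹ * s⁻¹ * y * s
  have hiter : ∀ n, φ^[n] (((u : X) : ↥(S : Subgroup G)) : G) =
      (((φX^[n] (u : X)) : ↥(S : Subgroup G)) : G) := by
    intro n
    induction n with
    | zero => rfl
    | succ n ih =>
      rw [Function.iterate_succ_apply', Function.iterate_succ_apply', ih]
      simp [φ, φX, z]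
  let ι : ↥W →* X :=
    { toFun := fun w => ⟨⟨w, hW.1 w.2⟩, hWX w.2⟩
      map_one' := rfl
      map_mul' := fun _ _ => rfl }
  set W₀ := M.comap ι with hW₀
  have hW₀c : IsCoatom W₀ := by
    have hzW₀ : (⟨z, hsW⟩ : W) ∉ W₀ := fun hh => hs hh
    let π : ↥W →* X ⧸ M := (QuotientGroup.mk' M).comp ι
    have hker : π.ker = W₀ := by rw [hW₀, ← MonoidHom.comap_ker, QuotientGroup.ker_mk']
    have hi : W₀.index = p := by
      have hd : W₀.index ∣ p := by
        rw [← hker, index_ker]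
        exact (card_subgroup_dvd_card _).trans (dvd_of_eq ((index_eq_card M).symm.trans hidx))
      exact ((Nat.dvd_prime hp.out).1 hd).resolve_left fun e => hzW₀ (by rw [index_eq_one.1 e]; trivial)
    refine ⟨fun e => hzW₀ (by rw [e]; trivial), fun K hK => ?_⟩
    have h2 := relIndex_mul_index hK.le
    rw [hi] at h2
    rcases (Nat.dvd_prime hp.out).1 ⟨_, (h2.symm.trans (mul_comm _ _))⟩ with e | e
    · exact index_eq_one.1 e
    · rw [e] at h2
      have h3 : W₀.relIndex K = 1 := (mul_eq_right₀ hp.out.ne_zero).1 h2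
      exact absurd (relIndex_eq_one.1 h3) hK.not_ge
  have hSN : (S : Subgroup G) ≤ Subgroup.normalizer (W : Set G) := fun t ht =>
    mem_normalizer_iff_map_conj_eq.2 (hW.2 t (by
      rintro _ ⟨w, hw, rfl⟩
      simpa using mul_mem (mul_mem ht (hW.1 hw)) (inv_mem ht)))
  have hcW : φ^[p - 1] (((u : X) : ↥(S : Subgroup G)) : G) ∈ W := by
    obtain ⟨m, hm⟩ := Nat.exists_eq_add_of_le (Nat.le_sub_one_of_lt hp.out.one_lt)
    rw [hm, add_comm, Function.iterate_succ_apply', hiter m]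
    show _ * z⁻¹ * _ * z ∈ W
    refine W.mul_mem ?_ hsW
    have hy := hSN (inv_mem (((φX^[m] (u : X)) : ↥(S : Subgroup G)).2))
    simpa using (mem_normalizer_iff.1 hy z⁻¹).1 (inv_mem hsW)
  set c : W := ⟨_, hcW⟩
  have hcι : ι c = φX^[p - 1] (u : X) := Subtype.ext (Subtype.ext (hiter (p - 1)))
  have hcW₀ : c ∈ W₀ := by
    show ι c ∈ M
    rw [hcι]; exact hc
  refine ⟨_, ((u : X) : ↥(S : Subgroup G)).2, z, hsW, W₀, hW₀c, ⟨c, hcW₀, rfl⟩, ?_⟩
  rintro ⟨c', ⟨c₀, hc₀, hc'⟩, hcc⟩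
  have hc₀c : c₀ = ⟨c, hcW₀⟩ := Subtype.ext (hc'.trans (Subtype.ext hcc))
  let φ₀ : ↥W₀ →* Multiplicative (ZMod p) := ω.comp
    { toFun := fun w => ⟨ι (w : W), w.2⟩
      map_one' := rfl
      map_mul' := fun _ _ => rfl }
  refine not_mem_frattini_of_hom φ₀ (c := ⟨c, hcW₀⟩) ?_ (hc₀c ▸ hc₀)
  intro h1
  exact hc1 ((congrArg ω (Subtype.ext hcι.symm)).trans h1)

end CfsgLib.LocalStructure.Yoshida
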