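import Cfsg.Agent.LocalStructure.Largest

/-!
# p-closed, p-irreducible and Y-minimal groups
-/

namespace CfsgLib.LocalStructure

open Subgroup Cfsg
open scoped commutatorElement

variable {G : Type*} [Group G] [Finite G] {p : ℕ} [Fact p.Prime]

set_option linter.unusedSectionVars false

omit [Finite G] [Fact p.Prime] in
/-- `g` has `p`-power order. -/
def IsPEl (p : ℕ) (g : G) : Prop := ∃ k : ℕ, g ^ p ^ k = 1

omit [Finite G] [Fact p.Prime] in
theorem isPEl_of_mem {P : Subgroup G} (hP : IsPGroup p P) {g : G} (hg : g ∈ P) : IsPEl p g := by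
  obtain ⟨k, hk⟩ := hP ⟨g, hg⟩
  exact ⟨k, by simpa using congrArg Subtype.val hk⟩

theorem isPEl_zpowers {g : G} (hg : IsPEl p g) : IsPGroup p (zpowers g) := by
  obtain ⟨k, hk⟩ := hg
  rintro ⟨_, i, rfl⟩
  exact ⟨k, Subtype.ext (by
    show (g ^ i) ^ p ^ k = 1
    rw [← zpow_natCast, ← zpow_mul, mul_comm, zpow_mul, zpow_natCast, hk, one_zpow])⟩

theorem isPClosed_iff_forall : IsPClosed p G ↔ ∀ g : G, IsPEl p g → g ∈ pCore p G := by
  constructor
  · intro h g hg
    obtain ⟨P, hP⟩ := (isPEl_zpowers hg).exists_le_sylow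
    have := h P
    exact le_pCore P.2 (hP (mem_zpowers g))
  · intro h P
    have e : (P : Subgroup G) = pCore p G :=
      le_antisymm (fun x hx => h x (isPEl_of_mem P.2 hx)) (pCore_le_sylow P)
    exact e ▸ pCore_normal

theorem isPClosed_subgroup_iff (K : Subgroup G) :
    IsPClosed p ↥K ↔ ∀ g ∈ K, IsPEl p g → g ∈ pCoreOf p K := by
  rw [isPClosed_iff_forall]
  constructor
  · intro h g hg ⟨k, hk⟩
    exact ⟨⟨g, hg⟩, h _ ⟨k, Subtype.ext (by simpa using hk)⟩, rfl⟩
  · intro h g ⟨k, hk⟩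
    obtain ⟨y, hy, he⟩ := h g g.2 ⟨k, by simpa using congrArg Subtype.val hk⟩
    exact (Subtype.ext he : y = g) ▸ hy

theorem IsPClosed.mono {K L : Subgroup G} (h : IsPClosed p ↥L) (hle : K ≤ L) : IsPClosed p ↥K := by
  rw [isPClosed_subgroup_iff] at h ⊢
  intro g hg hp
  refine LocalStructure.le_pCoreOf (inf_le_right : pCoreOf p L ⊓ K ≤ K) ?_
    (pCoreOf_isPGroup L).to_inf_left ⟨h g (hle hg) hp, hg⟩
  exact le_normalizer_inf' (hle.trans (le_normalizer_pCoreOf L)) Subgroup.le_normalizer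

theorem isPClosed_top_iff : IsPClosed p ↥(⊤ : Subgroup G) ↔ IsPClosed p G := by
  rw [isPClosed_subgroup_iff, isPClosed_iff_forall]
  simp [pCoreOf_top]

/-- In a `p`-closed normal subgroup all `p`-elements lie in `O_p(G)`. -/
theorem mem_pCore_of_isPClosed_normal {N : Subgroup G} [N.Normal] (h : IsPClosed p ↥N) {g : G}
    (hg : g ∈ N) (hp : IsPEl p g) : g ∈ pCore p G :=
  pCoreOf_le_of_isSubnormal (Subgroup.Normal.isSubnormal inferInstance)
    ((isPClosed_subgroup_iff N).1 h g hg hp)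

omit [Fact p.Prime] in
theorem exists_pEl_lift [Fact p.Prime] {G' : Type*} [Group G'] (f : G →* G') {K : Subgroup G}
    {x : G'} (hx : x ∈ K.map f) (hp : IsPEl p x) : ∃ g ∈ K, IsPEl p g ∧ f g = x := by
  obtain ⟨g, hg, rfl⟩ := hx
  obtain ⟨a, b, ha, hb, ⟨k, hk⟩, hbc, hab⟩ := exists_pPart_mul (p := p) g
  refine ⟨a, zpowers_le.2 hg ha, ⟨k, hk ▸ pow_orderOf_eq_one a⟩, ?_⟩
  obtain ⟨j, hj⟩ := hp
  have hcomm : Commute a b := by
    obtain ⟨i, rfl⟩ := ha
    obtain ⟨j, rfl⟩ := hb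
    exact Commute.zpow_zpow_self g i j
  have h1 : f b ^ p ^ (k + j) = 1 := by
    have hg' : f g ^ p ^ (k + j) = 1 := by rw [pow_add, mul_comm, pow_mul, hj, one_pow]
    have ha' : f a ^ p ^ (k + j) = 1 := by
      rw [← map_pow, pow_add, pow_mul, ← hk, pow_orderOf_eq_one, one_pow, map_one]
    rw [← hab, map_mul, (hcomm.map f).mul_pow, ha', one_mul] at hg'
    exact hg'
  rw [← hab, map_mul, eq_one_of_coprime_of_pow (hbc.of_dvd_left (orderOf_map_dvd f b)) h1, mul_one]

theorem pCore_quotient {D : Subgroup G} [D.Normal] (hD : IsPGroup p D) :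
    pCore p (G ⧸ D) = (pCore p G).map (QuotientGroup.mk' D) := by
  have hn := pCore_normal (p := p) (G := G)
  have hn' := pCore_normal (p := p) (G := G ⧸ D)
  refine le_antisymm ?_ ?_
  · have h : (pCore p (G ⧸ D)).comap (QuotientGroup.mk' D) ≤ pCore p G :=
      le_pCore (pCore_isPGroup.comap_of_ker_isPGroup _ (by rwa [QuotientGroup.ker_mk']))
    calc pCore p (G ⧸ D) = ((pCore p (G ⧸ D)).comap (QuotientGroup.mk' D)).map (QuotientGroup.mk' D) :=
          (map_comap_eq_self_of_surjective (QuotientGroup.mk'_surjective D) _).symm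
      _ ≤ _ := map_mono h
  · have := hn.map (QuotientGroup.mk' D) (QuotientGroup.mk'_surjective D)
    exact le_pCore (pCore_isPGroup.map _)

/-- Quotients by normal `p`-subgroups do not change `p`-closedness of subgroups containing them. -/
theorem isPClosed_map_iff {D : Subgroup G} [D.Normal] (hD : IsPGroup p D) {K : Subgroup G}
    (hDK : D ≤ K) : IsPClosed p ↥(K.map (QuotientGroup.mk' D)) ↔ IsPClosed p ↥K := by
  have hDQ : D ≤ pCoreOf p K :=
    LocalStructure.le_pCoreOf hDK ((normalizer_eq_top (H := D)).ge.trans' le_top) hD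
  constructor
  · intro h
    rw [isPClosed_subgroup_iff] at h ⊢
    intro g hg ⟨k, hk⟩
    have h1 := h _ (mem_map_of_mem (QuotientGroup.mk' D) hg)
      ⟨k, by rw [← map_pow, hk, map_one]⟩
    set Q := pCoreOf p (K.map (QuotientGroup.mk' D))
    refine LocalStructure.le_pCoreOf (inf_le_right : Q.comap (QuotientGroup.mk' D) ⊓ K ≤ K) ?_
      ((pCoreOf_isPGroup (K.map (QuotientGroup.mk' D))).comap_of_ker_isPGroup _
        (by rwa [QuotientGroup.ker_mk'])).to_inf_left ⟨h1, hg⟩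
    refine le_normalizer_inf' (le_trans ?_ (le_normalizer_comap _)) Subgroup.le_normalizer
    exact map_le_iff_le_comap.1 (le_normalizer_pCoreOf _)
  · intro h
    rw [isPClosed_subgroup_iff] at h ⊢
    intro x hx hp
    obtain ⟨g, hg, hgp, rfl⟩ := exists_pEl_lift (QuotientGroup.mk' D) hx hp
    refine LocalStructure.le_pCoreOf (map_mono (pCoreOf_le K)) ?_ ((pCoreOf_isPGroup K).map _)
      ⟨g, h g hg hgp, rfl⟩
    exact (map_mono (le_normalizer_pCoreOf (p := p) K)).trans (le_normalizer_map _)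

theorem pResidual_le_of_sup_eq_top {N : Subgroup G} [N.Normal] {T : Subgroup G} (hT : IsPGroup p T)
    (h : T ⊔ N = ⊤) : pResidual p G ≤ N := by
  rw [← pResOf_top]
  refine pResOf_le_of_forall fun g _ hc => ?_
  obtain ⟨k, hk⟩ := exists_pow_mem_of_mem_sup hT ((normalizer_eq_top (H := N)).ge.trans' le_top)
    (h.ge (mem_top g))
  exact mem_of_coprime_of_pow_mem hc hk

theorem sylow_inf_normal_of_isPClosed (T : Sylow p G) {N : Subgroup G} [N.Normal]
    (h : IsPClosed p ↥N) : pCoreOf p N = (T : Subgroup G) ⊓ N := by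
  refine le_antisymm (le_inf ?_ (pCoreOf_le N)) fun x hx =>
    (isPClosed_subgroup_iff N).1 h x hx.2 (isPEl_of_mem T.2 hx.1)
  exact (pCoreOf_le_of_isSubnormal (Subgroup.Normal.isSubnormal inferInstance)).trans
    (pCore_le_sylow T)

theorem not_isPClosed_of_isMinimalOver (T : Sylow p G) (hmin : IsMinimalOver (T : Subgroup G)) :
    ¬ IsPClosed p G := by
  intro h
  obtain ⟨M, ⟨hM, hTM⟩, -⟩ := hmin.2
  have := h T
  have hT : (T : Subgroup G) = ⊤ := by
    rw [← hmin.1, normalClosure_eq_self]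
  exact hM.1 (eq_top_iff.2 (hT ▸ hTM))

theorem pResidual_le_of_isMinimalOver (T : Sylow p G) (hmin : IsMinimalOver (T : Subgroup G))
    {N : Subgroup G} [N.Normal] (h : ¬ IsPClosed p ↥N) : pResidual p G ≤ N := by
  refine pResidual_le_of_sup_eq_top T.2 ?_
  by_contra hne
  obtain ⟨M, ⟨hM, hTM⟩, huniq⟩ := hmin.2
  set N₀ := Subgroup.normalizer (((T : Subgroup G) ⊓ N : Subgroup G) : Set G) with hN₀
  have hTN₀ : (T : Subgroup G) ≤ N₀ :=
    le_normalizer_inf' Subgroup.le_normalizer ((normalizer_eq_top (H := N)).ge.trans' le_top)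
  have key : ∀ K : Subgroup G, (T : Subgroup G) ≤ K → K ≠ ⊤ → K ≤ M := by
    intro K hTK hK
    obtain h | ⟨M', hM', hKM'⟩ := eq_top_or_exists_le_coatom K
    · exact absurd h hK
    · exact huniq M' ⟨hM', hTK.trans hKM'⟩ ▸ hKM'
  have h2 : N₀ ≠ ⊤ := by
    intro htop
    refine h ((isPClosed_subgroup_iff N).2 fun g hg hp => ?_)
    obtain ⟨P, hP⟩ := sylow_inf T (X := N) ((normalizer_eq_top (H := N)).ge.trans' le_top)
    have hn : ((P : Subgroup ↥N)).Normal := by
      rw [hP]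
      exact (normal_subgroupOf_iff_le_normalizer inf_le_right).2 (le_top.trans htop.ge)
    obtain ⟨R, hR⟩ := ((isPEl_zpowers hp).comap_subtype (K := N)).exists_le_sylow
    have : Subsingleton (Sylow p ↥N) := by
      refine ⟨fun a b => ?_⟩
      obtain ⟨x, rfl⟩ := MulAction.exists_smul_eq ↥N P a
      obtain ⟨y, rfl⟩ := MulAction.exists_smul_eq ↥N P b
      rw [Sylow.smul_eq_of_normal, Sylow.smul_eq_of_normal]
    have hgR : (⟨g, hg⟩ : ↥N) ∈ (R : Subgroup ↥N) := hR (mem_zpowers g)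
    rw [Subsingleton.elim R P] at hgR
    exact ⟨⟨g, hg⟩, le_pCore P.2 hgR, rfl⟩
  refine hM.1 (eq_top_iff.2 fun g _ => ?_)
  obtain ⟨P, hP⟩ := sylow_inf T (X := N) ((normalizer_eq_top (H := N)).ge.trans' le_top)
  obtain ⟨a, ha, c, hc, rfl⟩ := frattini_argument (C := N) (L := ⊤) le_top
    (normalizer_eq_top (H := N)).ge P (mem_top g)
  rw [hP, map_subgroupOf_eq_of_le inf_le_right] at ha
  exact M.mul_mem (key N₀ hTN₀ h2 ha.2) (key _ le_sup_left hne (mem_sup_right hc))

theorem isPIrreducible_of_isMinimalOver (T : Sylow p G) (hmin : IsMinimalOver (T : Subgroup G)) :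
    IsPIrreducible p G :=
  ⟨not_isPClosed_of_isMinimalOver T hmin, fun N hN h => by
    have := hN
    exact pResidual_le_of_isMinimalOver T hmin h⟩

end CfsgLib.LocalStructure
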