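import Cfsg.Agent.LocalStructure.Reduced

/-!
# Averaging over cosets of a subgroup of index prime to p, acting on an abelian p-subgroup
-/

namespace CfsgLib.LocalStructure

open Subgroup Cfsg
open scoped commutatorElement IsMulCommutative

set_option linter.style.haveILetI false

variable {G : Type*} [Group G] {p : ℕ}

/-- A `p`-group acting by conjugation on a nontrivial `p`-subgroup fixes a nontrivial element. -/
theorem exists_fixed_of_isPGroup [Finite G] [Fact p.Prime] {P K : Subgroup G} (hP : IsPGroup p P)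
    (hK : IsPGroup p K) (hne : K ≠ ⊥) (hn : P ≤ Subgroup.normalizer (K : Set G)) :
    ∃ w ∈ K, w ≠ 1 ∧ w ∈ centralizer (P : Set G) := by
  letI : MulAction ↥P ↥K :=
    { smul := fun x k => ⟨(x : G) * k * (x : G)⁻¹, (mem_normalizer_iff.1 (hn x.2) k).1 k.2⟩
      one_smul := fun k => Subtype.ext (show (1 : G) * k * (1 : G)⁻¹ = k by group)
      mul_smul := fun x y k => Subtype.ext (show
        ((x : G) * y) * k * ((x : G) * y)⁻¹ = x * (y * k * (y : G)⁻¹) * (x : G)⁻¹ by group) }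
  have : Nontrivial ↥K := (nontrivial_iff_ne_bot K).2 hne
  obtain ⟨n, hn0, hn1⟩ := (IsPGroup.nontrivial_iff_card hK).1 this
  obtain ⟨b, hb, hb1⟩ := hP.exists_fixed_point_of_prime_dvd_card_of_fixed_point ↥K
    (hn1 ▸ dvd_pow_self p hn0.ne') (a := 1)
    (fun x => Subtype.ext (show (x : G) * (1 : G) * (x : G)⁻¹ = 1 by group))
  refine ⟨b, b.2, fun h => hb1 (Subtype.ext h.symm), mem_centralizer_iff.2 fun x hx => ?_⟩
  have : x * (b : G) * x⁻¹ = b := congrArg Subtype.val (hb ⟨x, hx⟩)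
  exact mul_inv_eq_iff_eq_mul.1 this

section Trace

variable [Finite G] (V X S : Subgroup G) [IsMulCommutative ↥V]
  (hX : X ≤ Subgroup.normalizer (V : Set G))

/-- The product of the conjugates of `z` over coset representatives of `S` in `X`. -/
noncomputable def cosetTrace : ↥V →* ↥V :=
  letI := Fintype.ofFinite (↥X ⧸ S.subgroupOf X)
  { toFun := fun z => ∏ q : ↥X ⧸ S.subgroupOf X,
      (⟨(q.out : G) * z * (q.out : G)⁻¹, (mem_normalizer_iff.1 (hX q.out.2) z).1 z.2⟩ : ↥V)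
    map_one' := Finset.prod_eq_one fun q _ => Subtype.ext
      (show (q.out : G) * (1 : G) * (q.out : G)⁻¹ = 1 by group)
    map_mul' := fun a b => by
      rw [← Finset.prod_mul_distrib]
      exact Finset.prod_congr rfl fun q _ => Subtype.ext (show
        (q.out : G) * ((a : G) * b) * (q.out : G)⁻¹ =
          ((q.out : G) * a * (q.out : G)⁻¹) * ((q.out : G) * b * (q.out : G)⁻¹) by group) }

/-- If `y` normalizes `V`, `X` and `S` then conjugation by `y` commutes with the trace on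
`S`-fixed points. -/
theorem cosetTrace_conj {y : G} (hyV : y ∈ Subgroup.normalizer (V : Set G))
    (hyX : y ∈ Subgroup.normalizer (X : Set G)) (hyS : y ∈ Subgroup.normalizer (S : Set G))
    (z : ↥V) (hz : (z : G) ∈ centralizer (S : Set G)) :
    (cosetTrace V X S hX ⟨y * z * y⁻¹, (mem_normalizer_iff.1 hyV z).1 z.2⟩ : G)
      = y * (cosetTrace V X S hX z : G) * y⁻¹ := by
  letI := Fintype.ofFinite (↥X ⧸ S.subgroupOf X)
  let c : ↥V →* ↥V :=
    { toFun := fun v => ⟨y * v * y⁻¹, (mem_normalizer_iff.1 hyV v).1 v.2⟩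
      map_one' := Subtype.ext (show y * (1 : G) * y⁻¹ = 1 by group)
      map_mul' := fun a b => Subtype.ext (show
        y * ((a : G) * b) * y⁻¹ = (y * a * y⁻¹) * (y * b * y⁻¹) by group) }
  show ((cosetTrace V X S hX (c z) : ↥V) : G) = ((c (cosetTrace V X S hX z) : ↥V) : G)
  congr 1
  show ∏ q, _ = c (∏ q, _)
  rw [map_prod]
  have hmem : ∀ x : ↥X, y * (x : G) * y⁻¹ ∈ X := fun x => (mem_normalizer_iff.1 hyX x).1 x.2
  have hmem' : ∀ x : ↥X, y⁻¹ * (x : G) * y ∈ X := fun x => by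
    have := (mem_normalizer_iff.1 (inv_mem hyX) x).1 x.2
    simpa using this
  have key : ∀ (a b : ↥X), (a : ↥X ⧸ S.subgroupOf X) = b →
      (a : G) * z * (a : G)⁻¹ = (b : G) * z * (b : G)⁻¹ := by
    intro a b hab
    rw [QuotientGroup.eq, mem_subgroupOf] at hab
    have h := mem_centralizer_iff.1 hz _ hab
    push_cast at h
    calc (a : G) * z * (a : G)⁻¹ = a * (z * ((a : G)⁻¹ * b)) * (b : G)⁻¹ := by group
      _ = a * (((a : G)⁻¹ * b) * z) * (b : G)⁻¹ := by rw [h]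
      _ = _ := by group
  refine Finset.prod_bij' (fun q _ => ((⟨_, hmem' q.out⟩ : ↥X) : ↥X ⧸ S.subgroupOf X))
    (fun q _ => ((⟨_, hmem q.out⟩ : ↥X) : ↥X ⧸ S.subgroupOf X))
    (fun _ _ => Finset.mem_univ _) (fun _ _ => Finset.mem_univ _) ?_ ?_ ?_
  · intro q _
    conv_rhs => rw [← QuotientGroup.out_eq' q]
    obtain ⟨s, hs⟩ := QuotientGroup.mk_out_eq_mul (S.subgroupOf X) ⟨_, hmem' q.out⟩
    rw [QuotientGroup.eq, mem_subgroupOf]
    have : y * (s : ↥X).1⁻¹ * y⁻¹ ∈ S := (mem_normalizer_iff.1 hyS _).1 (S.inv_mem s.2)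
    simp only [coe_mul, coe_inv, hs, mul_inv_rev]
    convert this using 1
    group
  · intro q _
    conv_rhs => rw [← QuotientGroup.out_eq' q]
    obtain ⟨s, hs⟩ := QuotientGroup.mk_out_eq_mul (S.subgroupOf X) ⟨_, hmem q.out⟩
    rw [QuotientGroup.eq, mem_subgroupOf]
    have : y⁻¹ * (s : ↥X).1⁻¹ * y⁻¹⁻¹ ∈ S :=
      (mem_normalizer_iff.1 (inv_mem hyS) _).1 (S.inv_mem s.2)
    simp only [coe_mul, coe_inv, hs, mul_inv_rev]
    convert this using 1
    group
  · intro q _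
    apply Subtype.ext
    show (q.out : G) * (y * z * y⁻¹) * (q.out : G)⁻¹ = y * (_ * (z : G) * _) * y⁻¹
    rw [key _ _ (QuotientGroup.out_eq' ((⟨_, hmem' q.out⟩ : ↥X) : ↥X ⧸ S.subgroupOf X))]
    group

theorem cosetTrace_mem_centralizer (z : ↥V) (hz : (z : G) ∈ centralizer (S : Set G)) :
    (cosetTrace V X S hX z : G) ∈ centralizer (X : Set G) := by
  letI := Fintype.ofFinite (↥X ⧸ S.subgroupOf X)
  rw [mem_centralizer_iff]
  intro y hy
  let c : ↥V →* ↥V :=
    { toFun := fun v => ⟨y * v * y⁻¹, (mem_normalizer_iff.1 (hX hy) v).1 v.2⟩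
      map_one' := Subtype.ext (show y * (1 : G) * y⁻¹ = 1 by group)
      map_mul' := fun a b => Subtype.ext (show
        y * ((a : G) * b) * y⁻¹ = (y * a * y⁻¹) * (y * b * y⁻¹) by group) }
  suffices h : c (cosetTrace V X S hX z) = cosetTrace V X S hX z from
    mul_inv_eq_iff_eq_mul.1 (congrArg Subtype.val h)
  show c (∏ q, _) = ∏ q, _
  rw [map_prod]
  refine Finset.prod_bij' (fun q _ => (⟨y, hy⟩ : ↥X) • q) (fun q _ => (⟨y, hy⟩ : ↥X)⁻¹ • q)
    (fun _ _ => Finset.mem_univ _) (fun _ _ => Finset.mem_univ _)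
    (fun q _ => inv_smul_smul _ q) (fun q _ => smul_inv_smul _ q) ?_
  intro q _
  obtain ⟨s, hs⟩ := QuotientGroup.mk_out_eq_mul (S.subgroupOf X) ((⟨y, hy⟩ : ↥X) * q.out)
  have e : ((⟨y, hy⟩ : ↥X) • q).out = (⟨y, hy⟩ : ↥X) * q.out * s := by
    rw [← hs]
    congr 1
    conv_lhs => rw [← QuotientGroup.out_eq' q]
    rfl
  apply Subtype.ext
  show y * ((q.out : G) * z * (q.out : G)⁻¹) * y⁻¹ =
    ((((⟨y, hy⟩ : ↥X) • q).out : ↥X) : G) * z * ((((⟨y, hy⟩ : ↥X) • q).out : ↥X) : G)⁻¹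
  rw [e]
  have h2 := mem_centralizer_iff.1 hz _ s.2
  change ((s : ↥X) : G) * z = z * ((s : ↥X) : G) at h2
  simp only [coe_mul]
  calc y * ((q.out : G) * z * (q.out : G)⁻¹) * y⁻¹
      = y * q.out * (z * (((s : ↥X) : G) * ((s : ↥X) : G)⁻¹)) * (q.out : G)⁻¹ * y⁻¹ := by group
    _ = y * q.out * ((z * ((s : ↥X) : G)) * ((s : ↥X) : G)⁻¹) * (q.out : G)⁻¹ * y⁻¹ := by group
    _ = _ := by rw [← h2]; group

theorem cosetTrace_div_mem_commutator (z : ↥V) :
    (cosetTrace V X S hX z : G) * ((z : G) ^ S.relIndex X)⁻¹ ∈ ⁅V, X⁆ := by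
  letI := Fintype.ofFinite (↥X ⧸ S.subgroupOf X)
  have h : cosetTrace V X S hX z * (z ^ S.relIndex X)⁻¹ ∈ (⁅V, X⁆).subgroupOf V := by
    have e : (z ^ S.relIndex X)⁻¹ = ∏ _q : ↥X ⧸ S.subgroupOf X, z⁻¹ := by
      rw [Finset.prod_const, Finset.card_univ, ← Nat.card_eq_fintype_card, inv_pow]; rfl
    show (∏ q, _) * _ ∈ _
    rw [e, ← Finset.prod_mul_distrib]
    refine Subgroup.prod_mem _ fun q _ => mem_subgroupOf.2 ?_
    rw [commutator_comm]
    exact commutator_mem_commutator q.out.2 z.2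
  exact mem_subgroupOf.1 h

theorem cosetTrace_eq_pow (z : ↥V) (hz : (z : G) ∈ centralizer (X : Set G)) :
    cosetTrace V X S hX z = z ^ S.relIndex X := by
  letI := Fintype.ofFinite (↥X ⧸ S.subgroupOf X)
  show ∏ q, _ = _
  rw [Finset.prod_congr rfl (g := fun _ => z), Finset.prod_const, Finset.card_univ,
    ← Nat.card_eq_fintype_card]
  · rfl
  · intro q _
    exact Subtype.ext (mul_inv_eq_iff_eq_mul.2 (mem_centralizer_iff.1 hz _ q.out.2))

end Trace

/-- Gaschütz: when `S ≤ X` has index prime to `p`, the `S`-fixed points of an abelian `p`-group `V`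
are products of an `X`-fixed point and an element of `[V, X]`. -/
theorem exists_fixed_mul_commutator [Finite G] [Fact p.Prime] {V X S : Subgroup G}
    (hV : IsPGroup p V) (hVc : IsMulCommutative ↥V) (hX : X ≤ Subgroup.normalizer (V : Set G))
    (hindex : ¬ p ∣ S.relIndex X) {z : G} (hzV : z ∈ V) (hz : z ∈ centralizer (S : Set G)) :
    ∃ z₀ ∈ V ⊓ centralizer (X : Set G), ∃ w ∈ ⁅V, X⁆, z = z₀ * w := by
  have h1 := cosetTrace_div_mem_commutator V X S hX ⟨z, hzV⟩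
  have h2 := cosetTrace_mem_centralizer V X S hX ⟨z, hzV⟩ hz
  obtain ⟨k, hk⟩ := hV ⟨z, hzV⟩
  obtain ⟨m, hm⟩ := exists_pow_eq_self_of_coprime (n := S.relIndex X) (x := z)
    (Nat.Coprime.of_dvd_right (orderOf_dvd_of_pow_eq_one (by simpa using congrArg Subtype.val hk))
      (((Nat.Prime.coprime_iff_not_dvd Fact.out).2 hindex).pow_left k).symm)
  set t : G := (cosetTrace V X S hX ⟨z, hzV⟩ : G) with htdef
  have htV : t ∈ V := SetLike.coe_mem _
  set d := t * (z ^ S.relIndex X)⁻¹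
  refine ⟨t ^ m, ⟨V.pow_mem htV m, pow_mem h2 m⟩, (d ^ m)⁻¹, inv_mem (pow_mem h1 m), ?_⟩
  have hc : Commute t (z ^ S.relIndex X)⁻¹ :=
    congrArg Subtype.val (_root_.mul_comm' (⟨t, htV⟩ : ↥V)
      ⟨_, V.inv_mem (V.pow_mem hzV (S.relIndex X))⟩)
  rw [hc.mul_pow, mul_inv_rev, inv_pow, inv_inv, hm]
  have hc' : Commute z (t ^ m)⁻¹ :=
    congrArg Subtype.val (_root_.mul_comm' (⟨z, hzV⟩ : ↥V) ⟨_, V.inv_mem (V.pow_mem htV m)⟩)
  rw [hc'.eq, mul_inv_cancel_left]

/-- If some `S`-fixed point of the abelian `p`-group `V` is moved by `X`, then so is one that is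
fixed by a given `p`-group normalizing `V`, `X` and `S`. -/
theorem exists_moved_fixed [Finite G] [Fact p.Prime] {V X S P : Subgroup G} (hSX : S ≤ X)
    (hV : IsPGroup p V) (hVc : IsMulCommutative ↥V) (hX : X ≤ Subgroup.normalizer (V : Set G))
    (hindex : ¬ p ∣ S.relIndex X) (hP : IsPGroup p P)
    (hPV : P ≤ Subgroup.normalizer (V : Set G)) (hPX : P ≤ Subgroup.normalizer (X : Set G))
    (hPS : P ≤ Subgroup.normalizer (S : Set G))
    (h : ¬ V ⊓ centralizer (S : Set G) ≤ centralizer (X : Set G)) :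
    ∃ w ∈ V ⊓ centralizer (S : Set G), w ∈ centralizer (P : Set G) ∧
      w ∉ centralizer (X : Set G) := by
  set K : Subgroup G := ((cosetTrace V X S hX).ker.map V.subtype) ⊓ centralizer (S : Set G) with hK
  have hKle : K ≤ V := inf_le_left.trans (map_subtype_le _)
  have key : ∀ w ∈ K, w ∈ centralizer (X : Set G) → w = 1 := by
    rintro w ⟨⟨v, hv, rfl⟩, _⟩ hc
    have := cosetTrace_eq_pow V X S hX v hc
    rw [MonoidHom.mem_ker.1 hv] at this
    obtain ⟨k, hk⟩ := hV v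
    have hcop : (orderOf v).Coprime (S.relIndex X) := Nat.Coprime.of_dvd_left
      (orderOf_dvd_of_pow_eq_one hk) (((Nat.Prime.coprime_iff_not_dvd Fact.out).2 hindex).pow_left k)
    obtain ⟨m, hm⟩ := exists_pow_eq_self_of_coprime (x := v) hcop.symm
    rw [← this, one_pow] at hm
    simp [← hm]
  have hne : K ≠ ⊥ := by
    intro hb
    refine h fun z hz => ?_
    obtain ⟨hzV, hzS⟩ := hz
    have ht : cosetTrace V X S hX ⟨z, hzV⟩ ∈ V.subgroupOf V := mem_subgroupOf.2 (SetLike.coe_mem _)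
    set t := cosetTrace V X S hX ⟨z, hzV⟩ with htdef
    have htX : (t : G) ∈ centralizer (X : Set G) :=
      cosetTrace_mem_centralizer V X S hX ⟨z, hzV⟩ hzS
    obtain ⟨k, hk⟩ := hV (⟨z, hzV⟩ : ↥V)
    obtain ⟨m, hm⟩ := exists_pow_eq_self_of_coprime (n := S.relIndex X) (x := (⟨z, hzV⟩ : ↥V))
      (Nat.Coprime.of_dvd_right (orderOf_dvd_of_pow_eq_one hk)
        (((Nat.Prime.coprime_iff_not_dvd Fact.out).2 hindex).pow_left k).symm)
    have htS : (t : G) ∈ centralizer (S : Set G) := by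
      rw [mem_centralizer_iff]
      intro s hs
      exact mem_centralizer_iff.1 htX s (hSX hs)
    have hmem : z * ((t : G) ^ m)⁻¹ ∈ K := by
      refine ⟨⟨⟨z, hzV⟩ * (t ^ m)⁻¹, ?_, by simp⟩,
        (centralizer (S : Set G)).mul_mem hzS ((centralizer (S : Set G)).inv_mem (pow_mem htS m))⟩
      have h1 := congrArg (cosetTrace V X S hX) hm
      rw [map_pow, map_pow, ← htdef] at h1
      rw [SetLike.mem_coe, MonoidHom.mem_ker, map_mul, map_inv, map_pow,
        cosetTrace_eq_pow V X S hX t htX, ← htdef, h1, mul_inv_cancel]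
    rw [hb, mem_bot, mul_inv_eq_one] at hmem
    exact hmem ▸ pow_mem htX m
  have hPK : P ≤ Subgroup.normalizer (K : Set G) := by
    have hle : ∀ y ∈ P, ∀ w ∈ K, y * w * y⁻¹ ∈ K := by
      rintro y hy w ⟨⟨v, hv, rfl⟩, hw⟩
      refine ⟨⟨⟨y * v * y⁻¹, (mem_normalizer_iff.1 (hPV hy) v).1 v.2⟩, ?_, rfl⟩, ?_⟩
      · rw [SetLike.mem_coe, MonoidHom.mem_ker]
        apply Subtype.ext
        rw [cosetTrace_conj V X S hX (hPV hy) (hPX hy) (hPS hy) v hw, MonoidHom.mem_ker.1 hv]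
        simp
      · exact (mem_normalizer_iff.1 (normalizer_le_normalizer_centralizer S (hPS hy)) _).1 hw
    intro y hy
    rw [mem_normalizer_iff]
    refine fun w => ⟨hle y hy w, fun hw => ?_⟩
    have := hle y⁻¹ (P.inv_mem hy) _ hw
    simpa [mul_assoc] using this
  obtain ⟨w, hwK, hw1, hwP⟩ := exists_fixed_of_isPGroup hP (hV.to_le hKle) hne hPK
  exact ⟨w, ⟨hKle hwK, hwK.2⟩, hwP, fun hc => hw1 (key w hwK hc)⟩

end CfsgLib.LocalStructure

namespace CfsgLib.LocalStructure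

open Subgroup Cfsg
open scoped commutatorElement IsMulCommutative

/-- Gaschütz with control: the `X`-fixed factor is also fixed by a subgroup normalizing `V`, `X`,
`S` and fixing `z`. -/
theorem exists_fixed_mul_commutator' {G : Type*} [Group G] [Finite G] {p : ℕ} [Fact p.Prime]
    {V X S P : Subgroup G} (hV : IsPGroup p V) (hVc : IsMulCommutative ↥V)
    (hX : X ≤ Subgroup.normalizer (V : Set G)) (hindex : ¬ p ∣ S.relIndex X)
    (hPV : P ≤ Subgroup.normalizer (V : Set G)) (hPX : P ≤ Subgroup.normalizer (X : Set G))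
    (hPS : P ≤ Subgroup.normalizer (S : Set G))
    {z : G} (hzV : z ∈ V) (hz : z ∈ centralizer (S : Set G)) (hzP : z ∈ centralizer (P : Set G)) :
    ∃ z₀ ∈ V ⊓ centralizer (X : Set G), z₀ ∈ centralizer (P : Set G) ∧
      ∃ w ∈ ⁅V, X⁆, z = z₀ * w := by
  have h1 := cosetTrace_div_mem_commutator V X S hX ⟨z, hzV⟩
  have h2 := cosetTrace_mem_centralizer V X S hX ⟨z, hzV⟩ hz
  have h3 : (cosetTrace V X S hX ⟨z, hzV⟩ : G) ∈ centralizer (P : Set G) := by
    rw [mem_centralizer_iff]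
    intro y hy
    have e : (⟨y * z * y⁻¹, (mem_normalizer_iff.1 (hPV hy) z).1 hzV⟩ : ↥V) = ⟨z, hzV⟩ :=
      Subtype.ext (mul_inv_eq_iff_eq_mul.2 (mem_centralizer_iff.1 hzP y hy))
    have := cosetTrace_conj V X S hX (hPV hy) (hPX hy) (hPS hy) ⟨z, hzV⟩ hz
    rw [e] at this
    exact mul_inv_eq_iff_eq_mul.1 this.symm
  obtain ⟨k, hk⟩ := hV ⟨z, hzV⟩
  obtain ⟨m, hm⟩ := exists_pow_eq_self_of_coprime (n := S.relIndex X) (x := z)
    (Nat.Coprime.of_dvd_right (orderOf_dvd_of_pow_eq_one (by simpa using congrArg Subtype.val hk))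
      (((Nat.Prime.coprime_iff_not_dvd Fact.out).2 hindex).pow_left k).symm)
  set t : G := (cosetTrace V X S hX ⟨z, hzV⟩ : G) with htdef
  have htV : t ∈ V := SetLike.coe_mem _
  set d := t * (z ^ S.relIndex X)⁻¹
  refine ⟨t ^ m, ⟨V.pow_mem htV m, pow_mem h2 m⟩, pow_mem h3 m, (d ^ m)⁻¹,
    inv_mem (pow_mem h1 m), ?_⟩
  have hc : Commute t (z ^ S.relIndex X)⁻¹ :=
    congrArg Subtype.val (_root_.mul_comm' (⟨t, htV⟩ : ↥V)
      ⟨_, V.inv_mem (V.pow_mem hzV (S.relIndex X))⟩)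
  rw [hc.mul_pow, mul_inv_rev, inv_pow, inv_inv, hm]
  have hc' : Commute z (t ^ m)⁻¹ :=
    congrArg Subtype.val (_root_.mul_comm' (⟨z, hzV⟩ : ↥V) ⟨_, V.inv_mem (V.pow_mem htV m)⟩)
  rw [hc'.eq, mul_inv_cancel_left]

end CfsgLib.LocalStructure
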