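import Cfsg.Agent.LocalStructure.Cores

/-!
# p-reduced normal subgroups and the largest one, Y_L
-/

namespace CfsgLib.LocalStructure

open Subgroup Cfsg
open scoped commutatorElement

variable {G : Type*} [Group G] {p : ℕ}

theorem normalizer_le_normalizer_centralizer (V : Subgroup G) :
    Subgroup.normalizer (V : Set G) ≤ Subgroup.normalizer (centralizer (V : Set G) : Set G) := by
  intro x hx
  have key : ∀ y ∈ Subgroup.normalizer (V : Set G), ∀ c ∈ centralizer (V : Set G),
      y * c * y⁻¹ ∈ centralizer (V : Set G) := by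
    intro y hy c hc
    rw [mem_centralizer_iff] at hc ⊢
    intro v hv
    have h1 := hc _ ((mem_normalizer_iff.1 (inv_mem hy) v).1 hv)
    simp only [inv_inv] at h1
    calc v * (y * c * y⁻¹) = y * ((y⁻¹ * v * y) * c) * y⁻¹ := by group
      _ = y * (c * (y⁻¹ * v * y)) * y⁻¹ := by rw [h1]
      _ = (y * c * y⁻¹) * v := by group
  rw [mem_normalizer_iff]
  refine fun z => ⟨key x hx z, fun hz => ?_⟩
  have := key x⁻¹ (inv_mem hx) _ hz
  simpa [mul_assoc] using this

theorem centralizer_normal_of_normal (V : Subgroup G) [V.Normal] :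
    (centralizer (V : Set G)).Normal :=
  normalizer_eq_top_iff.1 (top_le_iff.1 ((normalizer_eq_top (H := V)).ge.trans
    (normalizer_le_normalizer_centralizer V)))

theorem isElementaryAbelian_isPGroup {V : Subgroup G} (h : IsElementaryAbelian p V) :
    IsPGroup p V := fun v => ⟨1, Subtype.ext (by simpa using h.2 v v.2)⟩

theorem elab_comm {V : Subgroup G} (h : IsElementaryAbelian p V) {a b : G}
    (ha : a ∈ V) (hb : b ∈ V) : a * b = b * a := by
  have := h.1
  exact congrArg Subtype.val (_root_.mul_comm' (⟨a, ha⟩ : V) ⟨b, hb⟩)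

theorem isElementaryAbelian_iff {V : Subgroup G} :
    IsElementaryAbelian p V ↔ (∀ a ∈ V, ∀ b ∈ V, a * b = b * a) ∧ ∀ a ∈ V, a ^ p = 1 :=
  ⟨fun h => ⟨fun _ ha _ hb => elab_comm h ha hb, h.2⟩,
    fun h => ⟨⟨⟨fun a b => Subtype.ext (h.1 a a.2 b b.2)⟩⟩, h.2⟩⟩

theorem isElementaryAbelian_of_le {V W : Subgroup G} (h : IsElementaryAbelian p V) (hle : W ≤ V) :
    IsElementaryAbelian p W :=
  isElementaryAbelian_iff.2 ⟨fun _ ha _ hb => (isElementaryAbelian_iff.1 h).1 _ (hle ha) _ (hle hb),
    fun a ha => h.2 a (hle ha)⟩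

theorem isElementaryAbelian_bot : IsElementaryAbelian p (⊥ : Subgroup G) :=
  isElementaryAbelian_iff.2 ⟨fun a ha b hb => by simp [mem_bot.1 ha, mem_bot.1 hb],
    fun a ha => by simp [mem_bot.1 ha]⟩

theorem le_centralizer_of_isElementaryAbelian {V : Subgroup G} (h : IsElementaryAbelian p V) :
    V ≤ centralizer (V : Set G) :=
  fun _ ha => mem_centralizer_iff.2 fun _ hb => elab_comm h hb ha

/-- A closure of pairwise commuting elements of order dividing `p` is elementary abelian. -/
theorem isElementaryAbelian_closure {S : Set G} (hc : ∀ a ∈ S, ∀ b ∈ S, a * b = b * a)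
    (hp : ∀ a ∈ S, a ^ p = 1) : IsElementaryAbelian p (closure S) := by
  have hcomm : ∀ a ∈ closure S, ∀ b ∈ closure S, a * b = b * a := by
    have h1 : closure S ≤ centralizer S :=
      (closure_le _).2 fun b hb => mem_centralizer_iff.2 fun a ha => hc a ha b hb
    have h2 : closure S ≤ centralizer (closure S : Set G) :=
      (closure_le _).2 fun a ha => mem_centralizer_iff.2 fun b hb =>
        ((mem_centralizer_iff.1 (h1 hb)) a ha).symm
    exact fun a ha b hb => mem_centralizer_iff.1 (h2 hb) a ha
  refine isElementaryAbelian_iff.2 ⟨hcomm, fun a ha => ?_⟩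
  induction ha using closure_induction with
  | mem x hx => exact hp x hx
  | one => exact one_pow p
  | mul x y hx hy h1 h2 => rw [(show Commute x y from hcomm x hx y hy).mul_pow, h1, h2, one_mul]
  | inv x _ h1 => rw [inv_pow, h1, inv_one]

theorem isElementaryAbelian_sup {V W : Subgroup G} (hV : IsElementaryAbelian p V)
    (hW : IsElementaryAbelian p W) (h : V ≤ centralizer (W : Set G)) :
    IsElementaryAbelian p (V ⊔ W) := by
  have e : V ⊔ W = closure ((V : Set G) ∪ W) := by rw [Subgroup.closure_union, closure_eq, closure_eq]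
  rw [e]
  refine isElementaryAbelian_closure ?_ fun a ha => ha.elim (hV.2 a) (hW.2 a)
  rintro a (ha | ha) b (hb | hb)
  · exact elab_comm hV ha hb
  · exact (mem_centralizer_iff.1 (h ha) b hb).symm
  · exact mem_centralizer_iff.1 (h hb) a ha
  · exact elab_comm hW ha hb

/-- `V` is a `p`-reduced normal subgroup of the subgroup `L`, read in the ambient group: a normal
elementary abelian `p`-subgroup such that every normal subgroup of `L` inducing a `p`-group on `V`
centralizes it. -/
structure IsReducedIn (p : ℕ) (V L : Subgroup G) : Prop where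
  le : V ≤ L
  le_normalizer : L ≤ Subgroup.normalizer (V : Set G)
  elab' : IsElementaryAbelian p V
  reduced : ∀ D : Subgroup G, D ≤ L → L ≤ Subgroup.normalizer (D : Set G) →
    (∀ d ∈ D, ∃ k : ℕ, d ^ p ^ k ∈ centralizer (V : Set G)) → D ≤ centralizer (V : Set G)

theorem isPReducedNormal_iff (V : Subgroup G) :
    IsPReducedNormal p V ↔ V.Normal ∧ IsElementaryAbelian p V ∧
      ∀ D : Subgroup G, D.Normal → (∀ d ∈ D, ∃ k : ℕ, d ^ p ^ k ∈ centralizer (V : Set G)) →
        D ≤ centralizer (V : Set G) := by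
  constructor
  · rintro ⟨hn, he, hC, hcore⟩
    refine ⟨hn, he, fun D hD h => ?_⟩
    have := hD.map (QuotientGroup.mk' (centralizer (V : Set G))) (QuotientGroup.mk'_surjective _)
    have hp : IsPGroup p (D.map (QuotientGroup.mk' (centralizer (V : Set G)))) := by
      rintro ⟨_, d, hd, rfl⟩
      obtain ⟨k, hk⟩ := h d hd
      exact ⟨k, Subtype.ext (by simpa [← QuotientGroup.mk_pow, QuotientGroup.eq_one_iff] using hk)⟩
    have hle := (le_pCore hp).trans hcore.le
    intro d hd
    exact (QuotientGroup.eq_one_iff d).1 (mem_bot.1 (hle ⟨d, hd, rfl⟩))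
  · rintro ⟨hn, he, h⟩
    have hC := centralizer_normal_of_normal V
    refine ⟨hn, he, hC, eq_bot_iff.2 fun x hx => ?_⟩
    obtain ⟨d, rfl⟩ := QuotientGroup.mk_surjective x
    have hcn := pCore_normal (p := p) (G := G ⧸ centralizer (V : Set G))
    rw [mem_bot, QuotientGroup.eq_one_iff]
    refine h ((pCore p (G ⧸ centralizer (V : Set G))).comap (QuotientGroup.mk' _)) (hcn.comap _)
      (fun e he => ?_) hx
    obtain ⟨k, hk⟩ := pCore_isPGroup ⟨_, he⟩
    exact ⟨k, (QuotientGroup.eq_one_iff _).1 (by simpa using congrArg Subtype.val hk)⟩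

theorem isPReducedNormal_iff_isReducedIn_top (V : Subgroup G) :
    IsPReducedNormal p V ↔ IsReducedIn p V ⊤ := by
  rw [isPReducedNormal_iff]
  exact ⟨fun ⟨hn, he, h⟩ => ⟨le_top, (normalizer_eq_top (H := V)).ge, he,
      fun D _ hD => h D (normalizer_eq_top_iff.1 (top_le_iff.1 hD))⟩,
    fun h => ⟨normalizer_eq_top_iff.1 (top_le_iff.1 h.le_normalizer), h.elab',
      fun D hD => h.reduced D le_top (normalizer_eq_top (H := D)).ge⟩⟩

theorem coe_mem_centralizer_iff {L : Subgroup G} (V : Subgroup ↥L) (x : ↥L) :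
    (x : G) ∈ centralizer (V.map L.subtype : Set G) ↔ x ∈ centralizer (V : Set ↥L) := by
  simp only [mem_centralizer_iff, coe_map, Set.forall_mem_image, coe_subtype, SetLike.mem_coe]
  exact forall₂_congr fun y _ => by rw [← coe_mul, ← coe_mul, Subtype.coe_inj]

theorem map_subtype_elab_iff {L : Subgroup G} (V : Subgroup ↥L) :
    IsElementaryAbelian p (V.map L.subtype) ↔ IsElementaryAbelian p V := by
  simp only [isElementaryAbelian_iff, mem_map, coe_subtype, forall_exists_index, and_imp,
    forall_apply_eq_imp_iff₂, ← coe_mul, ← coe_pow, Subtype.coe_inj, OneMemClass.coe_eq_one]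

theorem isPReducedNormal_iff_isReducedIn {L : Subgroup G} (V : Subgroup ↥L) :
    IsPReducedNormal p V ↔ IsReducedIn p (V.map L.subtype) L := by
  rw [isPReducedNormal_iff, ← map_subtype_elab_iff]
  constructor
  · rintro ⟨hn, he, h⟩
    refine ⟨map_subtype_le V, ?_, he, fun D hDL hD hp d hd => ?_⟩
    · refine (normal_subgroupOf_iff_le_normalizer (map_subtype_le V)).1 ?_
      rwa [subgroupOf, comap_map_eq_self_of_injective L.subtype_injective]
    · refine (coe_mem_centralizer_iff V ⟨d, hDL hd⟩).2 (h (D.subgroupOf L)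
        ((normal_subgroupOf_iff_le_normalizer hDL).2 hD) (fun e he => ?_) hd)
      obtain ⟨k, hk⟩ := hp _ he
      exact ⟨k, (coe_mem_centralizer_iff V _).1 (by simpa using hk)⟩
  · intro hV
    have hn : V.Normal := by
      have := (normal_subgroupOf_iff_le_normalizer (map_subtype_le V)).2 hV.le_normalizer
      rwa [subgroupOf, comap_map_eq_self_of_injective L.subtype_injective] at this
    refine ⟨hn, hV.elab', fun D hD hp d hd => (coe_mem_centralizer_iff V d).1 ?_⟩
    refine hV.reduced (D.map L.subtype) (map_subtype_le D) ?_ ?_ ⟨d, hd, rfl⟩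
    · refine (normal_subgroupOf_iff_le_normalizer (map_subtype_le D)).1 ?_
      rwa [subgroupOf, comap_map_eq_self_of_injective L.subtype_injective]
    · rintro _ ⟨e, he, rfl⟩
      obtain ⟨k, hk⟩ := hp e he
      exact ⟨k, by simpa using (coe_mem_centralizer_iff V _).2 hk⟩

theorem isPReducedNormal_subgroupOf_iff {V L : Subgroup G} (h : V ≤ L) :
    IsPReducedNormal p (V.subgroupOf L) ↔ IsReducedIn p V L := by
  rw [isPReducedNormal_iff_isReducedIn, map_subgroupOf_eq_of_le h]

theorem isPReducedNormal_bot : IsPReducedNormal p (⊥ : Subgroup G) :=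
  (isPReducedNormal_iff _).2 ⟨normal_bot, isElementaryAbelian_bot,
    fun _ _ _ d _ => mem_centralizer_iff.2 fun h hh => by simp [mem_bot.1 hh]⟩

theorem pCore_le_centralizer_of_reduced {V : Subgroup G} (h : IsPReducedNormal p V) :
    pCore p G ≤ centralizer (V : Set G) :=
  ((isPReducedNormal_iff V).1 h).2.2 _ pCore_normal fun d hd => by
    obtain ⟨k, hk⟩ := pCore_isPGroup ⟨d, hd⟩
    exact ⟨k, by have := congrArg Subtype.val hk; simp at this; simp [this]⟩

theorem le_pCore_of_reduced {V : Subgroup G} (h : IsPReducedNormal p V) : V ≤ pCore p G :=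
  have := h.1
  le_pCore (isElementaryAbelian_isPGroup h.2.1)

theorem isPReducedNormal_sup {V W : Subgroup G} (hV : IsPReducedNormal p V)
    (hW : IsPReducedNormal p W) : IsPReducedNormal p (V ⊔ W) := by
  obtain ⟨hnV, heV, hV'⟩ := (isPReducedNormal_iff V).1 hV
  obtain ⟨hnW, heW, hW'⟩ := (isPReducedNormal_iff W).1 hW
  refine (isPReducedNormal_iff _).2 ⟨sup_normal _ _, isElementaryAbelian_sup heV heW
    ((le_pCore_of_reduced hV).trans (pCore_le_centralizer_of_reduced hW)), fun D hD h => ?_⟩
  have hx : ∀ x : G, x ∈ centralizer ((V ⊔ W : Subgroup G) : Set G) ↔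
      x ∈ centralizer (V : Set G) ∧ x ∈ centralizer (W : Set G) := by
    intro x
    refine ⟨fun hx => ⟨centralizer_le (show (V : Set G) ⊆ _ from le_sup_left (b := W)) hx,
      centralizer_le (show (W : Set G) ⊆ _ from le_sup_right (a := V)) hx⟩, fun hx => ?_⟩
    have : V ⊔ W ≤ centralizer ({x} : Set G) := sup_le
      (fun v hv => mem_centralizer_iff.2 fun y hy => hy ▸ (mem_centralizer_iff.1 hx.1 v hv).symm)
      (fun v hv => mem_centralizer_iff.2 fun y hy => hy ▸ (mem_centralizer_iff.1 hx.2 v hv).symm)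
    exact mem_centralizer_iff.2 fun v hv => (mem_centralizer_iff.1 (this hv) x rfl).symm
  intro d hd
  exact (hx d).2
    ⟨hV' D hD (fun e he => (h e he).imp fun k hk => ((hx _).1 hk).1) hd,
     hW' D hD (fun e he => (h e he).imp fun k hk => ((hx _).1 hk).2) hd⟩

theorem le_largestPReduced {V : Subgroup G} (h : IsPReducedNormal p V) :
    V ≤ largestPReduced p G := le_sSup h

theorem isPReducedNormal_largest [Finite G] : IsPReducedNormal p (largestPReduced p G) := by
  obtain ⟨Y, hY, hmax⟩ := Set.Finite.exists_maximal (Set.toFinite {V : Subgroup G | IsPReducedNormal p V})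
    ⟨⊥, isPReducedNormal_bot⟩
  have h : largestPReduced p G = Y := by
    refine le_antisymm (sSup_le fun V hV => ?_) (le_sSup hY)
    exact le_sup_right.trans (hmax (isPReducedNormal_sup hY hV) le_sup_left)
  exact h ▸ hY

theorem isReducedIn_largest [Finite G] (L : Subgroup G) :
    IsReducedIn p (largestPReducedOf p L) L :=
  (isPReducedNormal_iff_isReducedIn _).1 isPReducedNormal_largest

theorem IsReducedIn.le_largest {V L : Subgroup G} (h : IsReducedIn p V L) :
    V ≤ largestPReducedOf p L := by
  rw [largestPReducedOf, ← map_subgroupOf_eq_of_le h.le]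
  exact map_mono (le_largestPReduced ((isPReducedNormal_subgroupOf_iff h.le).2 h))

theorem largestPReducedOf_top [Finite G] :
    largestPReducedOf p (⊤ : Subgroup G) = largestPReduced p G := by
  refine le_antisymm (le_largestPReduced ?_) (IsReducedIn.le_largest ?_)
  · exact (isPReducedNormal_iff_isReducedIn_top _).2 (isReducedIn_largest ⊤)
  · exact (isPReducedNormal_iff_isReducedIn_top _).1 isPReducedNormal_largest

theorem IsReducedIn.le_pCoreOf {V L : Subgroup G} (h : IsReducedIn p V L) :
    V ≤ pCoreOf p L :=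
  CfsgLib.LocalStructure.le_pCoreOf h.le h.le_normalizer (isElementaryAbelian_isPGroup h.elab')

theorem IsReducedIn.pCoreOf_le_centralizer {V L : Subgroup G} (h : IsReducedIn p V L) :
    Cfsg.pCoreOf p L ≤ centralizer (V : Set G) :=
  h.reduced _ (CfsgLib.LocalStructure.pCoreOf_le L) (le_normalizer_pCoreOf L) fun d hd => by
    obtain ⟨k, hk⟩ := pCoreOf_isPGroup L ⟨d, hd⟩
    exact ⟨k, by have := congrArg Subtype.val hk; simp at this; simp [this]⟩

theorem IsReducedIn.le_normalizer_centralizer {V L : Subgroup G} (h : IsReducedIn p V L) :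
    L ≤ Subgroup.normalizer (L ⊓ centralizer (V : Set G) : Subgroup G) := by
  refine le_trans (le_inf Subgroup.le_normalizer
    (h.le_normalizer.trans (normalizer_le_normalizer_centralizer V))) ?_
  intro x hx
  rw [mem_normalizer_iff]
  intro y
  rw [mem_inf, mem_inf, ← (mem_normalizer_iff.1 hx.1 y), ← (mem_normalizer_iff.1 hx.2 y)]

end CfsgLib.LocalStructure
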