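import Cfsg.Agent.LocalStructure.Tools

/-!
# Groups of characteristic p: normal closures of p-reduced subgroups, Kieler's Lemma
-/

namespace CfsgLib.LocalStructure

open Subgroup Cfsg
open scoped commutatorElement

variable {G : Type*} [Group G] {p : ℕ}

theorem normalizer_le_normalizer_commutator [Finite G] (A B : Subgroup G) :
    Subgroup.normalizer (A : Set G) ⊓ Subgroup.normalizer (B : Set G) ≤
      Subgroup.normalizer ((⁅A, B⁆ : Subgroup G) : Set G) := by
  intro x hx
  refine mem_normalizer_of_forall fun y hy => ?_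
  have := mem_map_of_mem (MulAut.conj x).toMonoidHom hy
  rw [map_commutator, conj_map_eq_of_mem_normalizer hx.1, conj_map_eq_of_mem_normalizer hx.2] at this
  exact this

theorem le_centralizer_of_forall_pow_mem [Finite G] [Fact p.Prime] {D V : Subgroup G}
    (h : ∀ d ∈ D, ∃ k : ℕ, d ^ p ^ k ∈ centralizer (V : Set G)) :
    pResOf p D ≤ centralizer (V : Set G) :=
  pResOf_le_of_forall fun d hd hc => by
    obtain ⟨k, hk⟩ := h d hd
    exact mem_of_coprime_of_pow_mem hc hk

/-- A subgroup containing a Sylow `p`-subgroup of a group of characteristic `p`: the normal closure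
of a `p`-reduced normal subgroup of it is `p`-reduced normal in the whole group. -/
theorem isPReducedNormal_normalClosure [Finite G] [Fact p.Prime]
    (hchar : centralizer (pCore p G : Set G) ≤ pCore p G) (T : Sylow p G) {R X : Subgroup G}
    (hTR : (T : Subgroup G) ≤ R) (hX : IsReducedIn p X R) :
    IsPReducedNormal p (Subgroup.normalClosure (X : Set G)) := by
  have hN := pCore_normal (p := p) (G := G)
  have hXQ : X ≤ centralizer (pCore p G : Set G) := by
    refine le_centralizer_iff.1 (le_trans ?_ hX.pCoreOf_le_centralizer)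
    exact LocalStructure.le_pCoreOf ((pCore_le_sylow T).trans hTR)
      ((normalizer_eq_top (H := pCore p G)).ge.trans' le_top) pCore_isPGroup
  have hconj : ∀ a ∈ Group.conjugatesOfSet (X : Set G),
      a ∈ pCore p G ∧ a ∈ centralizer (pCore p G : Set G) ∧ a ^ p = 1 := by
    intro a ha
    obtain ⟨x, hx, hxa⟩ := Group.mem_conjugatesOfSet_iff.1 ha
    obtain ⟨c, rfl⟩ := isConj_iff.1 hxa
    exact ⟨hN.conj_mem _ (hchar (hXQ hx)) c,
      (centralizer_normal_of_normal _).conj_mem _ (hXQ hx) c, by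
      rw [conj_pow, hX.elab'.2 x hx, mul_one, mul_inv_cancel]⟩
  refine (isPReducedNormal_iff _).2 ⟨Subgroup.normalClosure_normal, ?_, fun D hD hp => ?_⟩
  · exact isElementaryAbelian_closure
      (fun a ha b hb => mem_centralizer_iff.1 (hconj b hb).2.1 a (hconj a ha).1)
      fun a ha => (hconj a ha).2.2
  have hle : centralizer ((Subgroup.normalClosure (X : Set G) : Subgroup G) : Set G) ≤
      centralizer (X : Set G) := centralizer_le Subgroup.subset_normalClosure
  have hDX : D ≤ centralizer (X : Set G) := by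
    rw [← pResOf_sup_sylow_inf T ((normalizer_eq_top (H := D)).ge.trans' le_top)]
    refine sup_le ((le_centralizer_of_forall_pow_mem hp).trans hle) (le_trans ?_ (hX.reduced (D ⊓ R)
      inf_le_right ?_ fun d hd => (hp d hd.1).imp fun k hk => hle hk))
    · exact le_inf inf_le_right (inf_le_left.trans hTR)
    · exact (le_inf ((normalizer_eq_top (H := D)).ge.trans' le_top) Subgroup.le_normalizer).trans
        (le_normalizer_inf D R)
  intro d hd
  rw [mem_centralizer_iff]
  intro v hv
  have : Subgroup.normalClosure (X : Set G) ≤ centralizer (D : Set G) :=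
    have := centralizer_normal_of_normal D
    Subgroup.normalClosure_le_normal (le_centralizer_iff.1 hDX)
  exact (mem_centralizer_iff.1 (this hv) d hd).symm

/-- A normal subgroup of a group of characteristic `p` has characteristic `p` (ambient form). -/
theorem charP_of_normal [Finite G] [Fact p.Prime] {H K : Subgroup G} (hHK : H ≤ K)
    (hn : K ≤ Subgroup.normalizer (H : Set G))
    (hK : K ⊓ centralizer (pCoreOf p K : Set G) ≤ pCoreOf p K) :
    H ⊓ centralizer (pCoreOf p H : Set G) ≤ pCoreOf p H := by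
  refine LocalStructure.le_pCoreOf inf_le_left ?_ (isPGroup_of_coprime_eq_one fun x hx hc => ?_)
  · exact (le_inf le_normalizer ((le_normalizer_pCoreOf H).trans
      (normalizer_le_normalizer_centralizer _))).trans (le_normalizer_inf _ _)
  · refine eq_one_of_coprime_of_mem (pCoreOf_isPGroup K) (hK ⟨hHK hx.1, ?_⟩) hc
    refine mem_centralizer_of_stab (pCoreOf_isPGroup H) hc hx.2 fun q hq => ?_
    have h1 : ⁅x, q⁆ ∈ pCoreOf p K := by
      rw [commutatorElement_def]
      exact mul_mem ((mem_normalizer_iff.1 (le_normalizer_pCoreOf K (hHK hx.1)) q).1 hq) (inv_mem hq)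
    have h2 : ⁅x, q⁆ ∈ H := by
      rw [commutatorElement_def, mul_assoc x q, mul_assoc x]
      exact mul_mem hx.1 ((mem_normalizer_iff.1 (hn (pCoreOf_le K hq)) _).1 (inv_mem hx.1))
    refine LocalStructure.le_pCoreOf (inf_le_right : pCoreOf p K ⊓ H ≤ H) ?_
      (pCoreOf_isPGroup K).to_inf_left ⟨h1, h2⟩
    exact (le_inf (hHK.trans (le_normalizer_pCoreOf K)) le_normalizer).trans (le_normalizer_inf _ _)

theorem charP_of_isSubnormal [Finite G] [Fact p.Prime] {L : Subgroup G} (hL : L.IsSubnormal)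
    (hchar : centralizer (pCore p G : Set G) ≤ pCore p G) :
    L ⊓ centralizer (pCoreOf p L : Set G) ≤ pCoreOf p L := by
  induction hL with
  | top => rw [top_inf_eq, pCoreOf_top]; exact hchar
  | step H K hle _ hN ih =>
    exact charP_of_normal hle ((normal_subgroupOf_iff_le_normalizer hle).1 hN) ih

/-- Kieler's Lemma, one step: `L ⊴ K` of characteristic `p`, `T` a `p`-subgroup of `K` meeting
`L` in a Sylow subgroup. -/
theorem kieler_step [Finite G] [Fact p.Prime] {K L T : Subgroup G}
    (hn : K ≤ Subgroup.normalizer (L : Set G)) (hT : IsPGroup p T) (hTK : T ≤ K)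
    (hidx : ¬ p ∣ (T ⊓ L).relIndex L) (hQK : pCoreOf p K ≤ T) (hQL : pCoreOf p L ≤ T) (hLK : L ≤ K)
    (hcK : K ⊓ centralizer (pCoreOf p K : Set G) ≤ pCoreOf p K) :
    L ⊓ centralizer (omegaZ p T : Set G) = L ⊓ centralizer (omegaZ p (T ⊓ L) : Set G) := by
  have hcL := charP_of_normal hLK hn hcK
  have hV : IsPGroup p (omegaZ p (pCoreOf p K)) := isElementaryAbelian_isPGroup (omegaZ_elab _)
  have hW : IsPGroup p (omegaZ p (pCoreOf p L)) := isElementaryAbelian_isPGroup (omegaZ_elab _)
  have hKV : K ≤ Subgroup.normalizer (omegaZ p (pCoreOf p K) : Set G) :=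
    (le_normalizer_pCoreOf K).trans (normalizer_le_normalizer_omegaZ _)
  have hKW : K ≤ Subgroup.normalizer (omegaZ p (pCoreOf p L) : Set G) :=
    hn.trans ((normalizer_le_normalizer_pCoreOf L).trans (normalizer_le_normalizer_omegaZ _))
  have hidx' : ∀ X : Subgroup G, T ⊓ L ≤ X → X ≤ L → ¬ p ∣ (T ⊓ L).relIndex X := fun X h1 h2 h =>
    hidx (relIndex_mul_relIndex (T ⊓ L) X L h1 h2 ▸ dvd_mul_of_dvd_left h _)
  have hTn : T ≤ Subgroup.normalizer ((T ⊓ L : Subgroup G) : Set G) :=
    (le_inf le_normalizer (hTK.trans hn)).trans (le_normalizer_inf _ _)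
  apply le_antisymm
  · refine le_inf inf_le_left ?_
    set X := L ⊓ centralizer (omegaZ p T : Set G)
    have hSX : T ⊓ L ≤ X := le_inf inf_le_right (inf_le_left.trans (le_centralizer_omegaZ T))
    refine le_centralizer_iff.1 fun z hz => ?_
    obtain ⟨hz1, hz2, hz3⟩ := mem_omegaZ.1 hz
    have hzQ : z ∈ pCoreOf p L := hcL ⟨hz1.2, centralizer_le
      (le_inf hQL (pCoreOf_le L) : pCoreOf p L ≤ T ⊓ L) hz2⟩
    have hzW : z ∈ omegaZ p (pCoreOf p L) := mem_omegaZ.2 ⟨hzQ, centralizer_le
      (le_inf hQL (pCoreOf_le L) : pCoreOf p L ≤ T ⊓ L) hz2, hz3⟩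
    by_contra hzX
    obtain ⟨w, hw, hwT, hwX⟩ := exists_moved_fixed hSX hW (omegaZ_elab _).1
      (inf_le_left.trans (hLK.trans hKW)) (hidx' X hSX inf_le_left) hT (hTK.trans hKW)
      ((le_inf (hTK.trans hn) ((le_centralizer_omegaZ T).trans le_normalizer)).trans
        (le_normalizer_inf _ _)) hTn (fun h => hzX (h ⟨hzW, hz2⟩))
    refine hwX (le_centralizer_iff.1 (inf_le_right : X ≤ _) (mem_omegaZ.2 ⟨?_, hwT, ?_⟩))
    · exact hQL (omegaZ_le _ hw.1)
    · exact (mem_omegaZ.1 hw.1).2.2
  · refine le_inf inf_le_left ?_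
    set X := L ⊓ centralizer (omegaZ p (T ⊓ L) : Set G)
    have hSX : T ⊓ L ≤ X := le_inf inf_le_right (le_centralizer_omegaZ _)
    refine le_centralizer_iff.1 fun z hz => ?_
    obtain ⟨hz1, hz2, hz3⟩ := mem_omegaZ.1 hz
    have hzc := centralizer_le (show (pCoreOf p K : Set G) ⊆ T from hQK) hz2
    have hzV : z ∈ omegaZ p (pCoreOf p K) :=
      mem_omegaZ.2 ⟨hcK ⟨hTK hz1, hzc⟩, hzc, hz3⟩
    obtain ⟨z₀, hz₀, w, hw, rfl⟩ := exists_fixed_mul_commutator hV (omegaZ_elab _).1
      (inf_le_left.trans (hLK.trans hKV)) (hidx' X hSX inf_le_left) hzV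
      (centralizer_le (show ((T ⊓ L : Subgroup G) : Set G) ⊆ T from inf_le_left) hz2)
    have hwV : w ∈ omegaZ p (pCoreOf p K) :=
      le_normalizer_iff_commutator_le_left.1 (inf_le_left.trans (hLK.trans hKV)) hw
    have hwL : w ∈ L :=
      (le_normalizer_iff_commutator_le_right.1 (((omegaZ_le _).trans (pCoreOf_le K)).trans hn))
        (commutator_mono le_rfl inf_le_left hw)
    refine mul_mem hz₀.2 (le_centralizer_iff.1 (inf_le_right : X ≤ _) (mem_omegaZ.2
      ⟨⟨hQK (omegaZ_le _ hwV), hwL⟩, ?_, (mem_omegaZ.1 hwV).2.2⟩))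
    have := mul_mem (inv_mem (centralizer_le (show ((T ⊓ L : Subgroup G) : Set G) ⊆ X from hSX) hz₀.2))
      (centralizer_le (show ((T ⊓ L : Subgroup G) : Set G) ⊆ T from inf_le_left) hz2)
    simpa using this

theorem exists_sylow_eq [Finite G] [Fact p.Prime] {Q X : Subgroup G} (hQ : IsPGroup p Q) (hle : Q ≤ X)
    (h : ¬ p ∣ Q.relIndex X) : ∃ P : Sylow p ↥X, (P : Subgroup ↥X) = Q.subgroupOf X := by
  obtain ⟨P, hP⟩ := (hQ.comap_subtype : IsPGroup p (Q.subgroupOf X)).exists_le_sylow
  refine ⟨P, le_antisymm ?_ hP⟩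
  obtain ⟨n, hn⟩ := IsPGroup.index P.2 ((Q.subgroupOf X).subgroupOf P)
  rw [← relIndex] at hn
  refine relIndex_eq_one.1 ?_
  rcases n with _ | n
  · simpa using hn
  · exact (h ((dvd_pow_self p n.succ_ne_zero).trans (hn ▸ relIndex_dvd_index_of_le hP :))).elim

theorem kieler [Finite G] [Fact p.Prime] (hchar : centralizer (pCore p G : Set G) ≤ pCore p G)
    (T : Sylow p G) {L : Subgroup G} (hL : L.IsSubnormal) :
    L ⊓ centralizer (omegaZ p (T : Subgroup G) : Set G) =
      L ⊓ centralizer (omegaZ p ((T : Subgroup G) ⊓ L) : Set G) ∧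
    ¬ p ∣ ((T : Subgroup G) ⊓ L).relIndex L ∧ pCoreOf p L ≤ (T : Subgroup G) := by
  induction hL with
  | top =>
    refine ⟨by rw [inf_top_eq], ?_, ?_⟩
    · rw [inf_top_eq, relIndex_top_right]; exact T.not_dvd_index
    · rw [pCoreOf_top]; exact pCore_le_sylow T
  | step H K hle hK hN ih =>
    obtain ⟨ih1, ih2, ih3⟩ := ih
    have hn := (normal_subgroupOf_iff_le_normalizer hle).1 hN
    have hidx : ¬ p ∣ ((T : Subgroup G) ⊓ H).relIndex H := by
      intro hd
      obtain ⟨P, hP⟩ := exists_sylow_eq T.2.to_inf_left inf_le_right ih2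
      obtain ⟨Q, hQ⟩ := sylow_inf P (X := H.subgroupOf K)
        ((normalizer_eq_top (H := H.subgroupOf K)).ge.trans' le_top)
      apply Q.not_dvd_index
      rw [hQ, hP, ← relIndex, subgroupOf, subgroupOf, ← comap_inf, relIndex_comap, ← subgroupOf,
        map_subgroupOf_eq_of_le hle, inf_assoc, inf_eq_right.2 hle]
      exact hd
    have hQL : pCoreOf p H ≤ (T : Subgroup G) :=
      (pCoreOf_le_of_isSubnormal (IsSubnormal.step H K hle hK hN)).trans (pCore_le_sylow T)
    refine ⟨?_, hidx, hQL⟩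
    have hs := kieler_step (T := (T : Subgroup G) ⊓ K) hn T.2.to_inf_left inf_le_right
      (by rwa [inf_assoc, inf_eq_right.2 hle]) (le_inf ih3 (pCoreOf_le K))
      (le_inf hQL ((pCoreOf_le H).trans hle)) hle (charP_of_isSubnormal hK hchar)
    rw [inf_assoc, inf_eq_right.2 hle] at hs
    rw [← hs, ← inf_eq_left.2 hle, inf_assoc, ih1, ← inf_assoc]

end CfsgLib.LocalStructure
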