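import Cfsg.Agent.LocalStructure.ReducedTools

/-!
# Y = Ω₁(Z(C_T(Y))) for the largest p-reduced normal subgroup Y
-/

namespace CfsgLib.LocalStructure

open Subgroup Cfsg
open scoped commutatorElement

variable {G : Type*} [Group G] {p : ℕ}

theorem le_normalizer_sup {X A B : Subgroup G} [Finite G]
    (hA : X ≤ Subgroup.normalizer (A : Set G)) (hB : X ≤ Subgroup.normalizer (B : Set G)) :
    X ≤ Subgroup.normalizer ((A ⊔ B : Subgroup G) : Set G) := fun x hx =>
  mem_normalizer_of_forall fun y hy => by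
    have := mem_map_of_mem (MulAut.conj x).toMonoidHom hy
    rw [Subgroup.map_sup, conj_map_eq_of_mem_normalizer (hA hx),
      conj_map_eq_of_mem_normalizer (hB hx)] at this
    exact this

theorem le_normalizer_inf' {X A B : Subgroup G} (hA : X ≤ Subgroup.normalizer (A : Set G))
    (hB : X ≤ Subgroup.normalizer (B : Set G)) :
    X ≤ Subgroup.normalizer ((A ⊓ B : Subgroup G) : Set G) :=
  (le_inf hA hB).trans (le_normalizer_inf A B)

theorem exists_pow_mem_of_mem_sup {P C : Subgroup G} (hP : IsPGroup p P)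
    (hn : P ≤ Subgroup.normalizer (C : Set G)) {d : G} (hd : d ∈ P ⊔ C) :
    ∃ k : ℕ, d ^ p ^ k ∈ C := by
  obtain ⟨a, ha, b, hb, rfl⟩ := exists_mul_of_mem_sup hn hd
  obtain ⟨k, hk⟩ := hP ⟨a, ha⟩
  obtain ⟨c', hc', he⟩ := exists_mul_pow (hn ha) hb (p ^ k)
  refine ⟨k, ?_⟩
  rw [he, show a ^ p ^ k = 1 by simpa using congrArg Subtype.val hk, one_mul]
  exact hc'

/-- With `Y` the largest `p`-reduced normal subgroup and `T_L = C_T(Y)`: the Frattini argument, `T_L = O_p(N(T_L))` and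
`Y = Ω₁(Z(T_L))`. -/
theorem largest_structure [Finite G] [Fact p.Prime]
    (hchar : centralizer (pCore p G : Set G) ≤ pCore p G) (T : Sylow p G) {Y TL : Subgroup G}
    (hY : IsPReducedNormal p Y ∧ ∀ V : Subgroup G, IsPReducedNormal p V → V ≤ Y)
    (hTL : TL = (T : Subgroup G) ⊓ centralizer (Y : Set G)) :
    (∀ g : G, ∃ a ∈ Subgroup.normalizer (TL : Set G), ∃ c ∈ centralizer (Y : Set G), g = a * c) ∧
      pCoreOf p (Subgroup.normalizer (TL : Set G)) = TL ∧ Y = omegaZ p TL := by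
  subst hTL
  obtain ⟨hYr, hmax⟩ := hY
  obtain ⟨hYn, hYe, hYred⟩ := (isPReducedNormal_iff Y).1 hYr
  set C := centralizer (Y : Set G) with hC
  have hCn : C.Normal := centralizer_normal_of_normal Y
  set TL := (T : Subgroup G) ⊓ C with hTLdef
  set N := Subgroup.normalizer (TL : Set G)
  have hTN : (T : Subgroup G) ≤ N :=
    le_normalizer_inf' Subgroup.le_normalizer ((normalizer_eq_top (H := C)).ge.trans' le_top)
  obtain ⟨P, hP⟩ := sylow_inf T (X := C) ((normalizer_eq_top (H := C)).ge.trans' le_top)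
  have hdec : ∀ g : G, ∃ a ∈ N, ∃ c ∈ C, g = a * c := by
    intro g
    obtain ⟨a, ha, c, hc, he⟩ := frattini_argument (C := C) (L := ⊤) le_top
      ((normalizer_eq_top (H := C)).ge) P (mem_top g)
    rw [hP, map_subgroupOf_eq_of_le inf_le_right] at ha
    exact ⟨a, ha.2, c, hc, he⟩
  have hNsup : ∀ D : Subgroup G, N ≤ Subgroup.normalizer (D : Set G) →
      (∀ d ∈ D, ∃ k : ℕ, d ^ p ^ k ∈ C) → D ≤ C := by
    intro D hND hp
    have hn : (D ⊔ C).Normal := by
      refine normalizer_eq_top_iff.1 (eq_top_iff.2 fun g _ => ?_)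
      obtain ⟨a, ha, c, hc, rfl⟩ := hdec g
      exact mul_mem (le_normalizer_sup hND ((normalizer_eq_top (H := C)).ge.trans' le_top) ha)
        (Subgroup.le_normalizer (mem_sup_right hc))
    refine le_sup_left.trans (hYred _ hn fun d hd => ?_)
    obtain ⟨a, ha, b, hb, rfl⟩ := exists_mul_of_mem_sup
      ((normalizer_eq_top (H := C)).ge.trans' le_top) hd
    obtain ⟨k, hk⟩ := hp a ha
    obtain ⟨c', hc', he⟩ := exists_mul_pow (C := C)
      ((normalizer_eq_top (H := C)).ge (mem_top a)) hb (p ^ k)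
    exact ⟨k, he ▸ mul_mem hk hc'⟩
  have hQ : pCoreOf p N = TL := by
    refine le_antisymm (le_inf (pCoreOf_le_sylow T hTN) (hNsup _ (le_normalizer_pCoreOf N) ?_))
      (LocalStructure.le_pCoreOf (inf_le_left.trans hTN) le_rfl T.2.to_inf_left)
    intro d hd
    obtain ⟨k, hk⟩ := pCoreOf_isPGroup N ⟨d, hd⟩
    exact ⟨k, by have := congrArg Subtype.val hk; simp at this; simp [this, C.one_mem]⟩
  refine ⟨hdec, hQ, le_antisymm (fun y hy => mem_omegaZ.2 ⟨?_, ?_, hYe.2 y hy⟩) ?_⟩
  · exact ⟨(le_pCore_of_reduced hYr).trans (pCore_le_sylow T) hy,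
      le_centralizer_of_isElementaryAbelian hYe hy⟩
  · exact le_centralizer_iff.1 inf_le_right hy
  · have hYW : Y ≤ omegaZ p TL := fun y hy => mem_omegaZ.2
      ⟨⟨(le_pCore_of_reduced hYr).trans (pCore_le_sylow T) hy,
        le_centralizer_of_isElementaryAbelian hYe hy⟩,
       le_centralizer_iff.1 inf_le_right hy, hYe.2 y hy⟩
    have hCW : centralizer (omegaZ p TL : Set G) ≤ C := centralizer_le hYW
    refine le_trans (fun x hx => subset_normalClosure hx)
      (hmax _ (isPReducedNormal_normalClosure hchar T hTN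
        ⟨(omegaZ_le TL).trans (inf_le_left.trans hTN), normalizer_le_normalizer_omegaZ TL,
          omegaZ_elab TL, fun D hDN hND hp => ?_⟩))
    have hDC : D ≤ C := hNsup D hND fun d hd => (hp d hd).imp fun k hk => hCW hk
    rw [← pResOf_sup_sylow_inf T (hTN.trans hND)]
    exact sup_le (le_centralizer_of_forall_pow_mem hp)
      ((inf_le_inf_left _ hDC).trans (le_centralizer_omegaZ TL))

/-- Ambient form of `Y_L = Ω₁(Z(C_T(Y_L)))`. -/
theorem largestPReducedOf_eq_omegaZ [Finite G] [Fact p.Prime] (T : Sylow p G) {L : Subgroup G}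
    (hTL : (T : Subgroup G) ≤ L) (hL : centralizer (pCore p ↥L : Set ↥L) ≤ pCore p ↥L) :
    largestPReducedOf p L =
      omegaZ p ((T : Subgroup G) ⊓ centralizer (largestPReducedOf p L : Set G)) := by
  obtain ⟨-, -, h⟩ := largest_structure hL (T.subtype hTL)
    ⟨isPReducedNormal_largest, fun V hV => le_largestPReduced hV⟩ rfl
  conv_lhs => rw [largestPReducedOf, h, map_omegaZ L.subtype_injective]
  congr 2
  ext x
  simp only [mem_map, mem_inf]
  constructor
  · rintro ⟨y, ⟨hy1, hy2⟩, rfl⟩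
    exact ⟨hy1, (coe_mem_centralizer_iff _ y).2 hy2⟩
  · rintro ⟨hx1, hx2⟩
    exact ⟨⟨x, hTL hx1⟩, ⟨hx1, (coe_mem_centralizer_iff _ _).1 hx2⟩, rfl⟩

end CfsgLib.LocalStructure
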