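import Cfsg.Agent.LocalEven48.AmalgamVIter

/-!
`O^p(L_λ)` does not centralise `V^(n)_λ / [V^(n)_λ, Q_λ]`.
-/

namespace CfsgLib.LocalStructure

open Cfsg CfsgLib.LocalEven CfsgLib.LocalEven48.Amalgam

variable {X : Type*} [Group X] {p : ℕ} [hp : Fact p.Prime] {M₁ M₂ : Subgroup X}

/-- A subgroup of a finite `p`-group which is generated modulo a normal subgroup by its commutators
with the group lies in that normal subgroup. -/
theorem le_of_le_sup_commutator_isPGroup {Q T V : Subgroup X} [Finite Q] (hQ : IsPGroup p Q)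
    (hT : T ≤ Q) (hV : V ≤ Q) (hn : Q ≤ Subgroup.normalizer (T : Set X)) (h : V ≤ T ⊔ ⁅V, Q⁆) :
    V ≤ T := by
  haveI : (T.subgroupOf Q).Normal := (Subgroup.normal_subgroupOf_iff_le_normalizer hT).2 hn
  have e : ∀ A : Subgroup X, A ≤ Q → (A.subgroupOf Q).map Q.subtype = A := fun A hA => by
    rw [Subgroup.subgroupOf_map_subtype, inf_eq_left.mpr hA]
  have h' : V.subgroupOf Q ≤ T.subgroupOf Q ⊔ ⁅V.subgroupOf Q, (⊤ : Subgroup Q)⁆ := by
    apply (Subgroup.map_le_map_iff_of_injective Q.subtype_injective).1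
    rwa [Subgroup.map_sup, Subgroup.map_commutator, e V hV, e T hT, ← MonoidHom.range_eq_map,
      Subgroup.range_subtype]
  set f := QuotientGroup.mk' (T.subgroupOf Q)
  have hf : (V.subgroupOf Q).map f ≤ ⁅(V.subgroupOf Q).map f, (⊤ : Subgroup _)⁆ := by
    refine (Subgroup.map_mono h').trans ?_
    rw [Subgroup.map_sup, QuotientGroup.map_mk'_self, bot_sup_eq, Subgroup.map_commutator]
    exact Subgroup.commutator_mono le_rfl le_top
  haveI : Group.IsNilpotent (↥Q ⧸ T.subgroupOf Q) := (hQ.to_quotient _).isNilpotent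
  obtain ⟨n, hn'⟩ := Subgroup.nilpotent_iff_lowerCentralSeries.1
    (inferInstance : Group.IsNilpotent (↥Q ⧸ T.subgroupOf Q))
  have hk : ∀ k, (V.subgroupOf Q).map f ≤
      (⊤ : Subgroup (↥Q ⧸ T.subgroupOf Q)).lowerCentralSeries k := by
    intro k
    induction k with
    | zero => simp
    | succ k ih => exact hf.trans (Subgroup.commutator_mono ih le_rfl)
  have hb := le_bot_iff.1 ((hk n).trans hn'.le)
  rw [Subgroup.map_eq_bot_iff, QuotientGroup.ker_mk'] at hb
  intro v hv
  exact hb (show (⟨v, hV hv⟩ : Q) ∈ V.subgroupOf Q from hv)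

theorem vertexVIter_not_commutator_le (h : IsSpeAmalgamPair p M₁ M₂) (lam : CosetVertex M₁ M₂)
    {n : ℕ} (hn : 1 ≤ n) (hVQ : vertexVIter p M₁ M₂ n lam ≤ vertexQ p lam) :
    ¬ ⁅vertexVIter p M₁ M₂ n lam, (pResidual p ↥(pElementClosure p (MulAction.stabilizer X lam))).map
      (pElementClosure p (MulAction.stabilizer X lam)).subtype⁆ ≤
        ⁅vertexVIter p M₁ M₂ n lam, vertexQ p lam⁆ := by
  intro hc
  have h' := h.1
  have hgen := h'.1.1
  obtain ⟨μ, hμ⟩ : ∃ μ, (cosetGraph M₁ M₂).Adj lam μ := by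
    obtain ⟨x, rfl | rfl⟩ := vertex_cases lam
    · exact ⟨_, adj_inl_inr x⟩
    · exact ⟨_, (adj_inl_inr x).symm⟩
  set H := MulAction.stabilizer X lam with hH
  haveI := finite_stabilizer h' lam
  haveI := finite_stabilizer h' μ
  set L := pElementClosure p H with hL
  have hLH : L ≤ H := pElementClosure_le H
  haveI : Finite L := Finite.of_injective _ (Subgroup.inclusion_injective hLH)
  set V := vertexVIter p M₁ M₂ n lam with hV
  set Q := vertexQ p lam with hQ
  set T := vertexVIter p M₁ M₂ (n - 1) μ with hT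
  set W := ⁅V, Q⁆ with hW
  set R := (pResidual p ↥L).map L.subtype with hR
  have hQH : Q ≤ H := pCoreOf_le H
  haveI : Finite Q := Finite.of_injective _ (Subgroup.inclusion_injective hQH)
  have hHQ : H ≤ Subgroup.normalizer (Q : Set X) := LocalStructure.le_normalizer_pCoreOf H
  have hHV : H ≤ Subgroup.normalizer (V : Set X) := stabilizer_le_normalizer_vertexVIter h' _ lam
  have hWV : W ≤ V := Subgroup.le_normalizer_iff_commutator_le_left.1 (hQH.trans hHV)
  have hHW : H ≤ Subgroup.normalizer (W : Set X) := by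
    intro g hg
    haveI : Finite W := Finite.of_injective _ (Subgroup.inclusion_injective (hWV.trans hVQ))
    refine Subgroup.mem_normalizer_iff_map_conj_eq.mpr ?_
    show W.map (MulAut.conj g).toMonoidHom = W
    rw [hW, Subgroup.map_commutator]
    rw [show V.map (MulAut.conj g).toMonoidHom = V from
        Subgroup.mem_normalizer_iff_map_conj_eq.mp (hHV hg),
      show Q.map (MulAut.conj g).toMonoidHom = Q from
        Subgroup.mem_normalizer_iff_map_conj_eq.mp (hHQ hg)]
  have hTV : T ≤ V := vertexVIter_mono_adj hgen hμ.symm (by omega)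
  have hQnk : Q ≤ neighbourKernel lam := vertexQ_le_neighbourKernel h' lam
  have hQμ : Q ≤ MulAction.stabilizer X μ :=
    hQnk.trans (neighbourKernel_le_stabilizer_of_adj hμ)
  have hTedge : T ≤ edgeStabilizer lam μ := fun t ht =>
    ⟨hQH (hVQ (hTV ht)), hQμ (hVQ (hTV ht))⟩
  have hμT : MulAction.stabilizer X μ ≤ Subgroup.normalizer (T : Set X) :=
    stabilizer_le_normalizer_vertexVIter h' _ μ
  have hRH : R ≤ H := (Subgroup.map_subtype_le _).trans hLH
  have hμN : H ⊓ MulAction.stabilizer X μ ≤ Subgroup.normalizer ((T ⊔ W : Subgroup X) : Set X) :=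
    fun g hg => Subgroup.mem_normalizer_iff_map_conj_eq.mpr (by
      show (T ⊔ W).map (MulAut.conj g).toMonoidHom = T ⊔ W
      rw [Subgroup.map_sup,
        show T.map (MulAut.conj g).toMonoidHom = T from
          Subgroup.mem_normalizer_iff_map_conj_eq.mp (hμT hg.2),
        show W.map (MulAut.conj g).toMonoidHom = W from
          Subgroup.mem_normalizer_iff_map_conj_eq.mp (hHW hg.1)])
  have hRN : R ≤ Subgroup.normalizer ((T ⊔ W : Subgroup X) : Set X) := by
    rw [Subgroup.le_normalizer_iff_commutator_le_left]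
    exact ((Subgroup.commutator_mono (sup_le hTV hWV) le_rfl).trans hc).trans le_sup_right
  obtain ⟨S, hS, hSc, hScμ⟩ := exists_sylow_edge h' hμ
  have hSL : S ≤ L := le_pElementClosure_of_card (hS.trans inf_le_left) hSc
  have hfac : (Nat.card L).factorization p = (Nat.card H).factorization p := by
    refine le_antisymm ((Nat.factorization_le_iff_dvd Nat.card_pos.ne' Nat.card_pos.ne').mpr
      (Subgroup.card_dvd_of_le hLH) p) ?_
    have := Subgroup.card_dvd_of_le hSL
    rw [hSc] at this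
    exact (hp.out.pow_dvd_iff_le_factorization Nat.card_pos.ne').mp this
  have hSR : S ⊔ R = L := by
    have htop := LocalStructure.sylow_sup_pResidual (Sylow.ofCard (S.subgroupOf L)
      (by rw [Nat.card_congr (Subgroup.subgroupOfEquivOfLe hSL).toEquiv, hSc, hfac]) : Sylow p L)
    have h2 := congrArg (Subgroup.map L.subtype) htop
    rwa [Subgroup.map_sup, Sylow.coe_ofCard, Subgroup.subgroupOf_map_subtype,
      inf_eq_left.mpr hSL, ← MonoidHom.range_eq_map, Subgroup.range_subtype] at h2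
  have htrans : ∀ g ∈ H, ∃ a ∈ L, (a⁻¹ * g) • μ = μ := by
    intro g hg
    have hn' : ∀ t ∈ L, g * t * g⁻¹ ∈ L := fun t ht =>
      (Subgroup.mem_normalizer_iff.mp (le_normalizer_pElementClosure H hg) t).mp ht
    obtain ⟨a, ha, haS⟩ := exists_conj_of_card L S (S.map (MulAut.conj g).toMonoidHom) hSL
      (by rintro _ ⟨t, ht, rfl⟩; exact hn' t (hSL ht)) (by rw [hfac, hSc])
      (by rw [Subgroup.card_map_of_injective (MulAut.conj g).injective, hfac, hSc])
    refine ⟨a, ha, MulAction.mem_stabilizer_iff.mp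
      (normalizer_sylow_le_edge h hμ hS hSc (mul_mem (inv_mem (hLH ha)) hg) ?_)⟩
    haveI : Finite S := Finite.of_injective _ (Subgroup.inclusion_injective hSL)
    refine Subgroup.mem_normalizer_iff_map_conj_eq.mpr ?_
    show S.map (MulAut.conj (a⁻¹ * g)).toMonoidHom = S
    rw [show (MulAut.conj (a⁻¹ * g)).toMonoidHom =
      (MulAut.conj a⁻¹).toMonoidHom.comp (MulAut.conj g).toMonoidHom from
      MonoidHom.ext fun y => by simp [mul_assoc], ← Subgroup.map_map, ← haS, Subgroup.map_map]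
    conv_rhs => rw [← Subgroup.map_id S]
    congr 1
    ext y; simp [mul_assoc]
  have hLN : L ≤ Subgroup.normalizer ((T ⊔ W : Subgroup X) : Set X) := by
    rw [← hSR]
    exact sup_le ((le_inf (hS.trans inf_le_left) (hS.trans inf_le_right)).trans hμN) hRN
  have hHN : H ≤ Subgroup.normalizer ((T ⊔ W : Subgroup X) : Set X) := by
    intro g hg
    obtain ⟨a, ha, e⟩ := htrans g hg
    have := mul_mem (hLN ha) (hμN ⟨H.mul_mem (H.inv_mem (hLH ha)) hg,
      MulAction.mem_stabilizer_iff.mpr e⟩)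
    rwa [mul_inv_cancel_left] at this
  have hconj : ∀ g ∈ H, (T ⊔ W).map (MulAut.conj g).toMonoidHom = T ⊔ W := fun g hg =>
    Subgroup.mem_normalizer_iff_map_conj_eq.mp (hHN hg)
  have hVle : V ≤ T ⊔ W := by
    refine iSup_le ?_
    rintro ⟨ν, hν⟩
    obtain ⟨w, hw⟩ := (cosetGraph_connected hgen).exists_walk_length_eq_dist lam ν
    cases w with
    | nil =>
      refine iSup_le fun S' => ?_
      obtain ⟨a, ha, e⟩ := exists_conj_of_card H S ((S' : Subgroup H).map H.subtype)
        (hS.trans inf_le_left) (Subgroup.map_subtype_le _) hSc (sylow_map_card _ S')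
      rw [← e, ← map_conj_inf_centralizer,
        ← map_omegaOne (MulAut.conj a).toMonoidHom (MulAut.conj a).injective, ← hconj a ha]
      refine Subgroup.map_mono (le_trans ?_ le_sup_left)
      exact (omega_center_le_sylowCenterClosure _ S (hS.trans inf_le_right) hScμ).trans
        (le_iSup (fun x : {x : CosetVertex M₁ M₂ // (cosetGraph M₁ M₂).dist μ x ≤ n - 1} =>
          vertexZ p (x : CosetVertex M₁ M₂)) ⟨μ, by simp⟩)
    | @cons _ ν₁ _ hadj q =>
      obtain ⟨g, hg, rfl⟩ := exists_smul_neighbour hμ hadj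
      have hd : (cosetGraph M₁ M₂).dist (g • μ) ν ≤ n - 1 := by
        have := SimpleGraph.dist_le q
        rw [SimpleGraph.Walk.length_cons] at hw
        omega
      have key : vertexVIter p M₁ M₂ (n - 1) (g • μ) ≤ T.map (MulAut.conj g).toMonoidHom := by
        intro y hy
        have h2 := map_vertexVIter_le h' g⁻¹ (n - 1) (g • μ) ⟨y, hy, rfl⟩
        rw [inv_smul_smul] at h2
        exact ⟨_, h2, by simp [mul_assoc]⟩
      exact le_trans (le_trans (le_iSup (fun x : {x : CosetVertex M₁ M₂ //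
        (cosetGraph M₁ M₂).dist (g • μ) x ≤ n - 1} => vertexZ p (x : CosetVertex M₁ M₂))
        ⟨ν, hd⟩) key) ((Subgroup.map_mono le_sup_left).trans (hconj g hg).le)
  have hVT : V ≤ T := le_of_le_sup_commutator_isPGroup (LocalStructure.pCoreOf_isPGroup H)
    (hTV.trans hVQ) hVQ (hQμ.trans hμT) hVle
  have hRT : R ≤ Subgroup.normalizer (T : Set X) := by
    rw [le_antisymm hTV hVT]; exact hRH.trans hHV
  have hLT : L ≤ Subgroup.normalizer (T : Set X) := by
    rw [← hSR]
    exact sup_le ((hS.trans inf_le_right).trans hμT) hRT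
  have hTbot : T = ⊥ := by
    refine eq_bot_of_normalizer_transitive hgen h'.1.2.2.2 hμ hTedge ?_ ?_
    · intro ν ν' hν hν'
      obtain ⟨g₁, hg₁, rfl⟩ := exists_smul_neighbour hμ hν
      obtain ⟨g₂, hg₂, rfl⟩ := exists_smul_neighbour hμ hν'
      obtain ⟨a₁, ha₁, e₁⟩ := htrans g₁ hg₁
      obtain ⟨a₂, ha₂, e₂⟩ := htrans g₂ hg₂
      rw [mul_smul, inv_smul_eq_iff] at e₁ e₂
      refine ⟨a₂ * a₁⁻¹, hLT (mul_mem ha₂ (inv_mem ha₁)),
        MulAction.mem_stabilizer_iff.mp (hLH (mul_mem ha₂ (inv_mem ha₁))), ?_⟩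
      rw [e₁, e₂, mul_smul, inv_smul_smul]
    · intro ν ν' hν hν'
      obtain ⟨g, hg, e⟩ := exists_smul_neighbour hν hν'
      exact ⟨g, hμT hg, hg, e⟩
  refine vertexZ_ne_bot h' μ (le_bot_iff.mp ?_)
  rw [← hTbot]
  exact le_iSup (fun ν : {ν : CosetVertex M₁ M₂ // (cosetGraph M₁ M₂).dist μ ν ≤ n - 1} =>
    vertexZ p (ν : CosetVertex M₁ M₂)) ⟨μ, by simp⟩

end CfsgLib.LocalStructure
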