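import Cfsg.Agent.LocalStructure.FrakM

/-!
# Asymmetric `Y_M` for a member `M` of `𝔐`
-/

namespace CfsgLib.LocalStructure

open Subgroup Cfsg
open scoped commutatorElement

variable {G : Type*} [Group G] [Finite G] {p : ℕ} [Fact p.Prime]

set_option linter.unusedSectionVars false

theorem parabolicChar_of_large {Q : Subgroup G} (hQp : IsPGroup p Q) (hQ1 : Q ≠ ⊥) (hL : IsLarge Q) :
    IsOfParabolicCharacteristic p G := fun _ hR hR1 hpar =>
  (CfsgLib.LocalStructure.charP_iff _).2 (inf_le_right.trans
    (large_centralizer_parabolic hQp hQ1 hL hpar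
      (pCoreOf_ne_bot_of_normalizes hR hR1 Subgroup.le_normalizer le_rfl)))

variable {M : Subgroup G}

theorem frakM_le_normalizer :
    M ⊔ centralizer (largestPReducedOf p M : Set G) ≤
      Subgroup.normalizer (largestPReducedOf p M : Set G) :=
  sup_le (isReducedIn_largest M).le_normalizer (centralizer_le_normalizer _)

theorem frakM_normalizer_le_of_sylow (hG : IsOfParabolicCharacteristic p G) (T : Sylow p G)
    (hTM : (T : Subgroup G) ≤ M) (hM : IsInFrakM p M) {W : Subgroup G} (hW : IsPGroup p W)
    (hW1 : W ≠ ⊥) (hMW : M ≤ Subgroup.normalizer (W : Set G)) :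
    Subgroup.normalizer (W : Set G) ≤ M ⊔ centralizer (largestPReducedOf p M : Set G) := by
  obtain ⟨X, hX, hle⟩ := exists_max_charPSubgroups (mem_charPSubgroups_parabolic hG T
    (hTM.trans hMW) (pCoreOf_ne_bot_of_normalizes hW hW1 Subgroup.le_normalizer le_rfl))
  exact hM.2.2.1 X hX (hMW.trans hle) ▸ hle

theorem frakM_normalizer (hG : IsOfParabolicCharacteristic p G) (T : Sylow p G)
    (hTM : (T : Subgroup G) ≤ M) (hM : IsInFrakM p M) :
    Subgroup.normalizer (largestPReducedOf p M : Set G) =
      M ⊔ centralizer (largestPReducedOf p M : Set G) :=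
  le_antisymm (frakM_normalizer_le_of_sylow hG T hTM hM
    (isElementaryAbelian_isPGroup (isReducedIn_largest M).elab') (largest_ne_bot T hTM hM.1)
    (isReducedIn_largest M).le_normalizer) frakM_le_normalizer

theorem frakM_core (T : Sylow p G) (hTM : (T : Subgroup G) ≤ M) (hM : IsInFrakM p M) :
    pCoreOf p M = (T : Subgroup G) ⊓ centralizer (largestPReducedOf p M : Set G) := by
  refine le_antisymm (le_inf (pCoreOf_le_sylow T hTM) (isReducedIn_largest M).pCoreOf_le_centralizer)
    fun x hx => ?_
  have h := (isPClosed_subgroup_iff _).1 hM.2.2.2.2.1 x ⟨hTM hx.1, hx.2⟩ (isPEl_of_mem T.2 hx.1)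
  refine LocalStructure.le_pCoreOf ((pCoreOf_le _).trans inf_le_left) ?_ (pCoreOf_isPGroup _) h
  exact (le_normalizer_inf' Subgroup.le_normalizer ((isReducedIn_largest M).le_normalizer.trans
    (normalizer_le_normalizer_centralizer _))).trans (normalizer_le_normalizer_pCoreOf _)

theorem frakM_core_le_centralizer :
    pCoreOf p M ≤ centralizer (largestPReducedOf p M : Set G) :=
  (isReducedIn_largest M).pCoreOf_le_centralizer

theorem frakM_core_eq_of_le (T : Sylow p G) (hTM : (T : Subgroup G) ≤ M) (hM : IsInFrakM p M)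
    {R : Subgroup G} (hR : IsPGroup p R) (hQR : pCoreOf p M ≤ R) :
    R ⊓ centralizer (largestPReducedOf p M : Set G) = pCoreOf p M := by
  set C := centralizer (largestPReducedOf p M : Set G)
  obtain ⟨P, hP⟩ := sylow_inf T (X := C) ((hTM.trans (isReducedIn_largest M).le_normalizer).trans
    (normalizer_le_normalizer_centralizer _))
  rw [← frakM_core T hTM hM] at hP
  refine le_antisymm (fun x hx => ?_) (le_inf hQR frakM_core_le_centralizer)
  have h : (R ⊓ C).subgroupOf C = (P : Subgroup ↥C) :=
    P.3 hR.to_inf_left.comap_subtype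
      (hP ▸ fun y hy => ⟨hQR hy, y.2⟩)
  have := h.le (x := ⟨x, hx.2⟩) hx
  rw [hP] at this
  exact this

theorem frakM_Y_eq_omegaZ (T : Sylow p G) (hTM : (T : Subgroup G) ≤ M) (hM : IsInFrakM p M) :
    largestPReducedOf p M = omegaZ p (pCoreOf p M) := by
  conv_lhs => rw [largestPReducedOf_eq_omegaZ T hTM (charP_of_mem hM.1)]
  rw [frakM_core T hTM hM]

theorem frakM_normalizer_core (T : Sylow p G)
    (hTM : (T : Subgroup G) ≤ M) (hM : IsInFrakM p M) :
    Subgroup.normalizer (pCoreOf p M : Set G) ≤
      Subgroup.normalizer (largestPReducedOf p M : Set G) := by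
  rw [frakM_Y_eq_omegaZ T hTM hM]
  exact normalizer_le_normalizer_omegaZ _

/-- `A` asymmetric: a conjugate of `A` normalizing `A` and normalized by it centralizes it. -/
theorem asym_le_centralizer {A : Subgroup G} (h : ¬ IsSymmetricIn A) {g : G}
    (h1 : conjS g A ≤ Subgroup.normalizer (A : Set G))
    (h2 : A ≤ Subgroup.normalizer (conjS g A : Set G)) : conjS g A ≤ centralizer (A : Set G) := by
  have : ⁅A, conjS g A⁆ = ⊥ := by
    by_contra hne
    exact h ⟨g, hne, le_inf (le_normalizer_iff_commutator_le_left.1 h1)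
      (le_normalizer_iff_commutator_le_right.1 h2)⟩
  rw [commutator_comm] at this
  exact commutator_eq_bot_iff_le_centralizer.1 this

theorem le_normalizer_conjS_of_inv {A : Subgroup G} {g : G}
    (h : conjS g⁻¹ A ≤ Subgroup.normalizer (A : Set G)) :
    A ≤ Subgroup.normalizer (conjS g A : Set G) := by
  rw [normalizer_conjS]
  have := conjS_mono (g := g) h
  rwa [conjS_conjS, mul_inv_cancel, conjS_one] at this

/-- The key step: `N_G(R) ≤ M†` for a `p`-subgroup `R` of `M†` containing `O_p(M)`. -/
theorem asym_normalizer_le_of_le (hG : IsOfParabolicCharacteristic p G) (T : Sylow p G)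
    (hTM : (T : Subgroup G) ≤ M) (hM : IsInFrakM p M)
    (hasym : ¬ IsSymmetricIn (largestPReducedOf p M)) {R : Subgroup G} (hR : IsPGroup p R)
    (hQR : pCoreOf p M ≤ R) (hRX : R ≤ M ⊔ centralizer (largestPReducedOf p M : Set G)) :
    Subgroup.normalizer (R : Set G) ≤ M ⊔ centralizer (largestPReducedOf p M : Set G) := by
  set Y := largestPReducedOf p M
  set Q0 := pCoreOf p M
  set N := Subgroup.normalizer (R : Set G)
  have hRY : R ≤ Subgroup.normalizer (Y : Set G) := hRX.trans frakM_le_normalizer
  have key : ∀ n : ℕ, ∀ l : List G, l.length = n → (∀ a ∈ l, a ∈ M ∨ a ∈ N) →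
      conjS l.prod Y ≤ Q0 := by
    intro n
    induction n with
    | zero =>
      intro l hl _
      rw [List.eq_nil_of_length_eq_zero hl, List.prod_nil, conjS_one]
      exact (isReducedIn_largest M).le_pCoreOf
    | succ n ih =>
      have step : ∀ l : List G, l.length = n + 1 → (∀ a ∈ l, a ∈ M ∨ a ∈ N) →
          conjS l.prod Y ≤ R := by
        intro l hl hgood
        match l, hl with
        | a :: r, hl =>
          rw [List.prod_cons, ← conjS_conjS]
          refine (conjS_mono (ih r (by simpa using hl) fun b hb => hgood b (List.mem_cons_of_mem _ hb))).trans ?_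
          rcases hgood a (List.mem_cons_self) with ha | ha
          · exact (conj_map_eq_of_mem_normalizer (le_normalizer_pCoreOf M ha)).le.trans hQR
          · exact (conjS_mono hQR).trans (conj_map_eq_of_mem_normalizer ha).le
      intro l hl hgood
      have h1 := step l hl hgood
      have h2 := step (l.map fun x => x⁻¹).reverse (by simpa using hl) (by
        intro a ha
        obtain ⟨b, hb, rfl⟩ := List.mem_map.1 (List.mem_reverse.1 ha)
        exact (hgood b hb).imp inv_mem inv_mem)
      rw [← List.prod_inv_reverse] at h2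
      have hc := asym_le_centralizer hasym (h1.trans hRY) (le_normalizer_conjS_of_inv (h2.trans hRY))
      exact (le_inf h1 hc).trans (frakM_core_eq_of_le T hTM hM hR hQR).le
  set S : Set G := {x | ∃ l : List G, (∀ a ∈ l, a ∈ M ∨ a ∈ N) ∧ x ∈ conjS l.prod Y}
  set W := Subgroup.closure S
  have hWQ : W ≤ Q0 := (closure_le _).2 fun x ⟨l, hl, hx⟩ => key _ l rfl hl hx
  have hYW : Y ≤ W := fun y hy => subset_closure ⟨[], by simp, by simpa [conjS_one] using hy⟩
  have hgen : ∀ a : G, a ∈ M ∨ a ∈ N → a ∈ Subgroup.normalizer (W : Set G) := by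
    intro a ha
    refine mem_normalizer_of_forall fun y hy => ?_
    have : conjS a W ≤ W := by
      rw [conjS, MonoidHom.map_closure, closure_le]
      rintro _ ⟨x, ⟨l, hl, hx⟩, rfl⟩
      refine subset_closure ⟨a :: l, fun b hb => ?_, ?_⟩
      · rcases List.mem_cons.1 hb with rfl | hb
        · exact ha
        · exact hl b hb
      · rw [List.prod_cons, ← conjS_conjS]
        exact ⟨x, hx, rfl⟩
    exact this ⟨y, hy, rfl⟩
  have hN := frakM_normalizer_le_of_sylow hG T hTM hM
    ((pCoreOf_isPGroup M).to_le hWQ)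
    (fun h => largest_ne_bot T hTM hM.1 (le_bot_iff.1 (h ▸ hYW))) fun a ha => hgen a (Or.inl ha)
  exact fun a ha => hN (hgen a (Or.inr ha))

theorem asym_le (hG : IsOfParabolicCharacteristic p G) (T : Sylow p G)
    (hTM : (T : Subgroup G) ≤ M) (hM : IsInFrakM p M)
    (hasym : ¬ IsSymmetricIn (largestPReducedOf p M)) {L : Subgroup G} (hL : IsPGroup p L)
    (hQL : pCoreOf p M ≤ L) : L ≤ M ⊔ centralizer (largestPReducedOf p M : Set G) := by
  set X := M ⊔ centralizer (largestPReducedOf p M : Set G)
  by_contra hne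
  have hlt : (L ⊓ X).subgroupOf L < ⊤ := lt_top_iff_ne_top.2 fun h =>
    hne fun l hl => ((subgroupOf_eq_top.1 h) hl).2
  have hnil : Group.IsNilpotent ↥L := hL.isNilpotent
  obtain ⟨x, hx, hxN⟩ := SetLike.exists_of_lt
    (Group.normalizerCondition_of_isNilpotent (G := ↥L) _ hlt)
  refine hxN ⟨x.2, ?_⟩
  refine asym_normalizer_le_of_le hG T hTM hM hasym (R := L ⊓ X) hL.to_inf_left
    (le_inf hQL ((pCoreOf_le M).trans le_sup_left)) inf_le_right (x := (x : G)) ?_
  exact mem_normalizer_of_forall fun y hy => (mem_normalizer_iff.1 hx ⟨y, hy.1⟩).1 hy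

theorem asym_normalizer_le (hG : IsOfParabolicCharacteristic p G) (T : Sylow p G)
    (hTM : (T : Subgroup G) ≤ M) (hM : IsInFrakM p M)
    (hasym : ¬ IsSymmetricIn (largestPReducedOf p M)) {L : Subgroup G} (hL : IsPGroup p L)
    (hQL : pCoreOf p M ≤ L) :
    Subgroup.normalizer (L : Set G) ≤ Subgroup.normalizer (pCoreOf p M : Set G) := by
  rw [← frakM_core_eq_of_le T hTM hM hL hQL]
  exact le_normalizer_inf' le_rfl (((asym_normalizer_le_of_le hG T hTM hM hasym hL hQL
    (asym_le hG T hTM hM hasym hL hQL)).trans frakM_le_normalizer).trans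
      (normalizer_le_normalizer_centralizer _))

theorem asym_wc (hG : IsOfParabolicCharacteristic p G) (T : Sylow p G)
    (hTM : (T : Subgroup G) ≤ M) (hM : IsInFrakM p M)
    (hasym : ¬ IsSymmetricIn (largestPReducedOf p M)) :
    IsWeaklyClosedSubgroup p (pCoreOf p M) :=
  wc_of_normalizer (pCoreOf_isPGroup M) fun _ hR hQR => asym_normalizer_le hG T hTM hM hasym hR hQR

theorem asym_normalizer_core_le (hG : IsOfParabolicCharacteristic p G) (T : Sylow p G)
    (hTM : (T : Subgroup G) ≤ M) (hM : IsInFrakM p M) :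
    Subgroup.normalizer (pCoreOf p M : Set G) ≤
      M ⊔ centralizer (largestPReducedOf p M : Set G) :=
  (frakM_normalizer_core T hTM hM).trans (frakM_normalizer hG T hTM hM).le

end CfsgLib.LocalStructure
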