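import Cfsg.Agent.Signalizer.FStarLemmas
import Cfsg.Agent.Coprime.Action
import Cfsg.Agent.LocalStructure.PClosed

/-!
# `p`-groups acting on the generalized Fitting subgroup when `O_p = 1`
-/

namespace CfsgLib.LocalStructure

open Subgroup Cfsg
open scoped commutatorElement

variable {G : Type*} [Group G] [Finite G] {p : ℕ} [Fact p.Prime]

set_option linter.unusedSectionVars false

/-- A nilpotent normal subgroup of a group with `O_p = 1` has order prime to `p`. -/
theorem coprime_card_of_isNilpotent {A : Type*} [Group A] [Finite A] (hO : pCore p A = ⊥)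
    {N : Subgroup A} [N.Normal] (hN : Group.IsNilpotent ↥N) : (Nat.card ↥N).Coprime p := by
  obtain ⟨P⟩ : Nonempty (Sylow p ↥N) := inferInstance
  have hPn : (P : Subgroup ↥N).Normal :=
    Sylow.normal_of_normalizerCondition Group.normalizerCondition_of_isNilpotent P
  have hPc := Sylow.characteristic_of_normal P hPn
  have hP0 : (P : Subgroup ↥N) = ⊥ :=
    (Subgroup.map_eq_bot_iff_of_injective _ N.subtype_injective).1
      (eq_bot_iff.2 ((LocalStructure.le_pCore (P.2.map _)).trans hO.le))
  exact Nat.Coprime.symm ((Nat.Prime.coprime_iff_not_dvd Fact.out).2 fun h =>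
    (P.ne_bot_of_dvd_card h) hP0)

theorem coprime_card_fitting {A : Type*} [Group A] [Finite A] (hO : pCore p A = ⊥) :
    (Nat.card ↥(fittingSubgroup A)).Coprime p := by
  have := CfsgLib.Components.fittingSubgroup_normal (G := A)
  exact coprime_card_of_isNilpotent hO CfsgLib.Solvable.fittingSubgroup_isNilpotent

theorem coprime_card_of_le_card {Y N : Subgroup G} (hY : IsPGroup p Y)
    (hN : (Nat.card ↥N).Coprime p) : (Nat.card ↥Y).Coprime (Nat.card ↥N) := by
  obtain ⟨k, hk⟩ := hY.exists_card_eq
  rw [hk]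
  exact (hN.pow_right k).symm

/-- A group acting trivially on a quasisimple group modulo its centre acts trivially. -/
theorem mem_centralizer_of_commutator_mem_center {K : Subgroup G} (hK : ⁅K, K⁆ = K) {y : G}
    (h : ∀ k ∈ K, ⁅y, k⁆ ∈ centralizer (K : Set G)) (hyK : y ∈ Subgroup.normalizer (K : Set G)) :
    y ∈ centralizer (K : Set G) := by
  have hle : ⁅K, K⁆ ≤ centralizer ({y} : Set G) := commutator_le.2 fun a ha b hb => by
    rw [mem_centralizer_singleton_iff]
    have hb' := (mem_normalizer_iff.1 hyK b).1 hb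
    have za : ∀ m ∈ K, ⁅y, a⁆ * m = m * ⁅y, a⁆ := fun m hm => (mem_centralizer_iff.1 (h a ha) m hm).symm
    have zb : ∀ m ∈ K, ⁅y, b⁆ * m = m * ⁅y, b⁆ := fun m hm => (mem_centralizer_iff.1 (h b hb) m hm).symm
    have e : y * ⁅a, b⁆ * y⁻¹ = ⁅a, b⁆ := by
      rw [conjugate_commutatorElement, show y * a * y⁻¹ = ⁅y, a⁆ * a by rw [commutatorElement_def]; group,
        show y * b * y⁻¹ = ⁅y, b⁆ * b by rw [commutatorElement_def]; group]
      have hab : ⁅y, b⁆ ∈ K := by
        rw [commutatorElement_def]
        exact mul_mem hb' (inv_mem hb)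
      rw [commutatorElement_mul_left_eq_conj_mul, commutatorElement_mul_right_eq_mul_conj,
        commutatorElement_eq_one_iff_mul_comm.2 (zb a ha).symm, one_mul,
        commutatorElement_eq_one_iff_mul_comm.2 (za _ (mul_mem hab hb)), mul_one]
      have hc : ⁅a, b⁆ ∈ K := by
        rw [commutatorElement_def]
        exact mul_mem (mul_mem (mul_mem ha hb) (inv_mem ha)) (inv_mem hb)
      rw [zb _ hc, mul_inv_cancel_right, za _ hc, mul_inv_cancel_right]
    calc ⁅a, b⁆ * y = (y * ⁅a, b⁆ * y⁻¹) * y := by rw [e]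
      _ = y * ⁅a, b⁆ := by group
  rw [hK] at hle
  exact mem_centralizer_iff.2 fun k hk => mem_centralizer_singleton_iff.1 (hle hk)

variable {H Y : Subgroup G}

/-- A component of `H` inside an `Y`-invariant `L` lies in `[L, Y]` or is centralized by `Y`. -/
theorem component_le_commutator_or (hYH : Y ≤ Subgroup.normalizer (H : Set G)) {L : Subgroup G}
    (hYL : Y ≤ Subgroup.normalizer (L : Set G)) {K₀ : Subgroup ↥H} (hK₀ : IsComponent K₀)
    (hKL : K₀.map H.subtype ≤ L) :
    K₀.map H.subtype ≤ ⁅L, Y⁆ ∨ K₀.map H.subtype ≤ centralizer (Y : Set G) := by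
  set K := K₀.map H.subtype
  set D := ⁅L, Y⁆
  have hperf : ⁅K, K⁆ = K := by
    rw [← map_commutator, CfsgLib.Components.IsComponent.commutator_eq_self hK₀]
  have hKD : K ≤ Subgroup.normalizer (D : Set G) := hKL.trans (normalizer_commutator_ge_left L Y)
  by_cases hfix : ∀ y ∈ Y, y ∈ Subgroup.normalizer (K : Set G)
  · have hn : (D.subgroupOf K).Normal := normal_subgroupOf_of_le_normalizer hKD
    have hq : IsQuasisimple ↥K :=
      CfsgLib.Components.isQuasisimple_congr (K₀.equivMapOfInjective H.subtype H.subtype_injective) hK₀.2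
    rcases CfsgLib.Components.IsQuasisimple.normal_eq_top_or_le_center hq (D.subgroupOf K) with h | h
    · exact Or.inl (subgroupOf_eq_top.1 h)
    · refine Or.inr (le_centralizer_iff.1 fun y hy => mem_centralizer_of_commutator_mem_center hperf
        (fun k hk => mem_centralizer_iff.2 fun m hm => ?_) (hfix y hy))
      have h1 : ⁅y, k⁆ ∈ D := by
        rw [← commutatorElement_inv]
        exact inv_mem (commutator_mem_commutator (hKL hk) hy)
      have h2 : ⁅y, k⁆ ∈ K := by
        rw [commutatorElement_def]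
        exact mul_mem ((mem_normalizer_iff.1 (hfix y hy) k).1 hk) (inv_mem hk)
      exact congrArg Subtype.val (mem_center_iff.1 (h (show (⟨_, h2⟩ : ↥K) ∈ D.subgroupOf K from h1)) ⟨m, hm⟩)
  · push Not at hfix
    obtain ⟨y, hy, hyK⟩ := hfix
    left
    have hgn := mem_normalizer_iff_map_conj_eq.1 (hYH hy)
    let e : ↥H ≃* ↥H :=
      (H.equivMapOfInjective (MulAut.conj y).toMonoidHom (MulAut.conj y).injective).trans
        (MulEquiv.subgroupCongr hgn)
    have hK₁ := CfsgLib.Components.IsComponent.map_equiv hK₀ e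
    have hmap : (K₀.map e.toMonoidHom).map H.subtype = K.map (MulAut.conj y).toMonoidHom := by
      rw [map_map, map_map]
      congr 1
    have hne : K₀ ≠ K₀.map e.toMonoidHom := fun h => hyK (mem_normalizer_iff_map_conj_eq.2 (by
      change K.map (MulAut.conj y).toMonoidHom = K
      rw [← hmap, ← h]))
    have hcom : ⁅K, K.map (MulAut.conj y).toMonoidHom⁆ = ⊥ := by
      rw [← hmap, ← map_commutator, CfsgLib.Components.IsComponent.commutator_eq_bot_of_ne hK₀ hK₁ hne,
        Subgroup.map_bot]
    refine hperf.ge.trans (commutator_le.2 fun a ha b hb => ?_)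
    have h1 : ⁅b, y⁆ ∈ D := commutator_mem_commutator (hKL hb) hy
    have h2 : ⁅a, ⁅b, y⁆⁆ ∈ D := by
      rw [commutatorElement_def a]
      exact mul_mem ((mem_normalizer_iff.1 (hKD ha) _).1 h1) (inv_mem h1)
    have h3 : ⁅a, y * b⁻¹ * y⁻¹⁆ = 1 :=
      mem_bot.1 (hcom ▸ commutator_mem_commutator ha ⟨b⁻¹, inv_mem hb, rfl⟩)
    have e2 : ⁅b, y⁆ = b * (y * b⁻¹ * y⁻¹) := by rw [commutatorElement_def]; group
    rwa [e2, commutatorElement_mul_right_eq_mul_conj, h3, mul_one, mul_inv_cancel_right] at h2

/-- `L = [L, Y] C_L(Y)` and `[L, Y, Y] = [L, Y]`. -/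
theorem fstar_decomposition (hO : pCore p ↥H = ⊥) (hY : IsPGroup p Y)
    (hYH : Y ≤ Subgroup.normalizer (H : Set G)) {L : Subgroup G}
    (hLF : L ≤ (generalizedFittingSubgroup ↥H).map H.subtype)
    (hLsn : (L.subgroupOf H).IsSubnormal) (hYL : Y ≤ Subgroup.normalizer (L : Set G)) :
    ⁅L, Y⁆ ⊔ (L ⊓ centralizer (Y : Set G)) = L ∧ ⁅L, Y⁆ = ⁅⁅L, Y⁆, Y⁆ := by
  set C := L ⊓ centralizer (Y : Set G)
  have hDL : ⁅L, Y⁆ ≤ L := le_normalizer_iff_commutator_le_left.1 hYL
  have hLH : L ≤ H := hLF.trans (map_subtype_le _)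
  set S := L.subgroupOf H
  have hS : S ≤ generalizedFittingSubgroup ↥H := fun x hx => by
    obtain ⟨z, hz, he⟩ := hLF hx
    exact (Subtype.ext he : z = x) ▸ hz
  set F := (fittingSubgroup ↥H).map H.subtype
  have hmain : L ≤ ⁅L, Y⁆ ⊔ C := by
    have htop := congrArg (fun X => (X.map S.subtype).map H.subtype)
      (CfsgLib.Signalizer.fitting_sup_layer_eq_top hS hLsn)
    simp only [Subgroup.map_sup, ← MonoidHom.range_eq_map, range_subtype] at htop
    rw [CfsgLib.Signalizer.fittingSubgroup_of_subnormal hLsn, map_subgroupOf_eq_of_le hLH,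
      map_inf _ _ _ H.subtype_injective, map_subgroupOf_eq_of_le hLH] at htop
    refine htop.ge.trans (sup_le ?_ ?_)
    · have hFc : (fittingSubgroup ↥H).Characteristic := CfsgLib.Solvable.fittingSubgroup_characteristic
      have hYF : Y ≤ Subgroup.normalizer ((F ⊓ L : Subgroup G) : Set G) :=
        (le_inf (hYH.trans (CfsgLib.Components.normalizer_le_normalizer_map_subtype H _)) hYL).trans
          inf_normalizer_le_normalizer_inf
      have hc : (Nat.card ↥(F ⊓ L)).Coprime p := by
        refine (coprime_card_fitting hO).of_dvd_left ?_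
        refine (card_dvd_of_le inf_le_left).trans ?_
        rw [card_map_of_injective H.subtype_injective]
      refine (CfsgLib.Coprime.commutator_sup_centralizer hYF (coprime_card_of_le_card hY hc)
        (Or.inl (IsNilpotent.to_isSolvable (h := hY.isNilpotent)))).ge.trans ?_
      exact sup_le_sup (commutator_mono inf_le_right le_rfl) (inf_le_inf_right _ inf_le_right)
    · rw [layer, (gc_map_comap S.subtype).l_sSup]
      simp only [Subgroup.map_iSup]
      refine iSup₂_le fun K hK => ?_
      have hKc := (CfsgLib.Components.isComponent_map_subtype hLsn K).1 hK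
      have hKL : (K.map S.subtype).map H.subtype ≤ L :=
        (map_mono (map_subtype_le K)).trans (map_subgroupOf_eq_of_le hLH).le
      rcases component_le_commutator_or hYH hYL hKc hKL with h | h
      · exact h.trans le_sup_left
      · exact (le_inf hKL h).trans le_sup_right
  refine ⟨le_antisymm (sup_le hDL inf_le_left) hmain, le_antisymm ?_ ?_⟩
  · refine commutator_le.2 fun l hl y hy => ?_
    obtain ⟨a, ha, c, hc, rfl⟩ : ∃ a ∈ ⁅L, Y⁆, ∃ c ∈ C, a * c = l := by
      have hn : C ≤ Subgroup.normalizer ((⁅L, Y⁆ : Subgroup G) : Set G) :=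
        inf_le_left.trans (normalizer_commutator_ge_left L Y)
      have := hmain hl
      rw [← SetLike.mem_coe, coe_mul_of_right_le_normalizer_left _ _ hn] at this
      exact this
    rw [commutatorElement_mul_left_eq_conj_mul,
      commutatorElement_eq_one_iff_mul_comm.2 (mem_centralizer_iff.1 hc.2 y hy).symm, mul_one,
      mul_inv_cancel, one_mul]
    exact commutator_mem_commutator ha hy
  · exact commutator_mono hDL le_rfl

theorem generalizedFitting_top_map :
    (generalizedFittingSubgroup ↥(⊤ : Subgroup G)).map (⊤ : Subgroup G).subtype =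
      generalizedFittingSubgroup G := by
  rw [← CfsgLib.Signalizer.generalizedFitting_inf_normal (⊤ : Subgroup G), inf_top_eq]

/-- The case `H = G`. -/
theorem fstar_decomposition_top (hO : pCore p G = ⊥) {Y L : Subgroup G} (hY : IsPGroup p Y)
    (hLF : L ≤ generalizedFittingSubgroup G) (hLsn : L.IsSubnormal)
    (hYL : Y ≤ Subgroup.normalizer (L : Set G)) :
    ⁅L, Y⁆ ⊔ (L ⊓ centralizer (Y : Set G)) = L ∧ ⁅L, Y⁆ = ⁅⁅L, Y⁆, Y⁆ := by
  have hO' : pCore p ↥(⊤ : Subgroup G) = ⊥ := by
    rw [← Subgroup.map_eq_bot_iff_of_injective _ (⊤ : Subgroup G).subtype_injective]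
    exact pCoreOf_top.trans hO
  exact fstar_decomposition hO' hY ((normalizer_eq_top (H := (⊤ : Subgroup G))).ge.trans' le_top)
    ((generalizedFitting_top_map (G := G)).symm ▸ hLF) hLsn.subgroupOf hYL

end CfsgLib.LocalStructure
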