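import Cfsg.Agent.LocalStructure.Large
import Cfsg.Agent.LocalStructure.Largest
import Cfsg.Agent.S2824

/-!
# Groups of parabolic characteristic p: the subgroups with the basic property (𝔐) and asymmetric Y_M
-/

namespace CfsgLib.LocalStructure

open Subgroup Cfsg
open scoped commutatorElement

variable {G : Type*} [Group G] [Finite G] {p : ℕ} [Fact p.Prime]

set_option linter.unusedSectionVars false

theorem conjS_top (g : G) : conjS g (⊤ : Subgroup G) = ⊤ :=
  map_top_of_surjective _ (MulAut.conj g).surjective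

theorem mem_charPSubgroups_iff {L : Subgroup G} :
    L ∈ charPSubgroups p G ↔
      pCoreOf p L ≠ ⊥ ∧ centralizer (pCoreOf p L : Set G) ≤ pCoreOf p L := by
  simp only [charPSubgroups, Set.mem_ofPred_eq, pCoreOf, ne_eq,
    map_eq_bot_iff_of_injective _ L.subtype_injective]

theorem charP_of_mem {L : Subgroup G} (hL : L ∈ charPSubgroups p G) :
    centralizer (pCore p ↥L : Set ↥L) ≤ pCore p ↥L :=
  (CfsgLib.LocalStructure.charP_iff L).2 (inf_le_right.trans (mem_charPSubgroups_iff.1 hL).2)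

theorem charPSubgroups_of_between {N L : Subgroup G} (hN : N ∈ charPSubgroups p G) (hLN : L ≤ N)
    (hQ : pCoreOf p N ≤ L) : L ∈ charPSubgroups p G := by
  obtain ⟨h1, h2⟩ := mem_charPSubgroups_iff.1 hN
  have hle : pCoreOf p N ≤ pCoreOf p L :=
    le_pCoreOf hQ (hLN.trans (le_normalizer_pCoreOf N)) (pCoreOf_isPGroup N)
  exact mem_charPSubgroups_iff.2 ⟨fun e => h1 (le_bot_iff.1 (e ▸ hle)),
    (centralizer_le hle).trans (h2.trans hle)⟩

/-- In parabolic characteristic `p`, a subgroup containing a Sylow subgroup is in `𝓛` as soon as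
its `O_p` is nontrivial. -/
theorem mem_charPSubgroups_parabolic (hG : IsOfParabolicCharacteristic p G) (T : Sylow p G)
    {X : Subgroup G} (hTX : (T : Subgroup G) ≤ X) (hX : pCoreOf p X ≠ ⊥) :
    X ∈ charPSubgroups p G := by
  set R := pCoreOf p X
  set N := Subgroup.normalizer (R : Set G)
  have hXN : X ≤ N := le_normalizer_pCoreOf X
  have hRp : IsPGroup p R := pCoreOf_isPGroup X
  have h := (CfsgLib.LocalStructure.charP_iff N).1 (hG R hRp hX ⟨T, hTX.trans hXN⟩)
  have hRQ : R ≤ pCoreOf p N := le_pCoreOf ((pCoreOf_le X).trans hXN) le_rfl hRp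
  have hN : N ∈ charPSubgroups p G := mem_charPSubgroups_iff.2
    ⟨fun e => hX (le_bot_iff.1 (e ▸ hRQ)), fun x hx => h ⟨centralizer_le_normalizer (R : Set G)
      (centralizer_le hRQ hx), hx⟩⟩
  exact charPSubgroups_of_between hN hXN ((pCoreOf_le_sylow T (hTX.trans hXN)).trans hTX)

theorem exists_max_charPSubgroups {L : Subgroup G} (hL : L ∈ charPSubgroups p G) :
    ∃ X ∈ maxCharPSubgroups p G, L ≤ X := by
  obtain ⟨X, hLX, hX⟩ := Set.Finite.exists_le_maximal (Set.toFinite (charPSubgroups p G)) hL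
  exact ⟨X, ⟨hX.1, fun K hK hle => le_antisymm (hX.2 hK hle) hle⟩, hLX⟩

/-- The largest reduced normal subgroup is monotone above a Sylow subgroup. -/
theorem IsReducedIn.le_largest_of_le {X R V : Subgroup G}
    (hX : centralizer (pCore p ↥X : Set ↥X) ≤ pCore p ↥X) (S : Sylow p ↥X)
    (hSR : (S : Subgroup ↥X).map X.subtype ≤ R) (hRX : R ≤ X) (hV : IsReducedIn p V R) :
    V ≤ largestPReducedOf p X := by
  have hVX : V ≤ X := hV.le.trans hRX
  have hinj := comap_map_eq_self_of_injective X.subtype_injective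
  have h1 : IsReducedIn p (V.subgroupOf X) (R.subgroupOf X) := by
    refine ⟨fun x hx => hV.le hx, fun x hx => ?_, ?_, fun D hDR hRD hp d hd => ?_⟩
    · exact mem_normalizer_of_forall fun y hy => (mem_normalizer_iff.1 (hV.le_normalizer hx) y).1 hy
    · exact (map_subtype_elab_iff _).1 ((map_subgroupOf_eq_of_le hVX).symm ▸ hV.elab')
    · refine (coe_mem_centralizer_iff _ d).1 ?_
      rw [map_subgroupOf_eq_of_le hVX]
      refine hV.reduced (D.map X.subtype) ((map_mono hDR).trans (map_comap_le _ _)) ?_ ?_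
        ⟨d, hd, rfl⟩
      · intro r hr
        refine mem_normalizer_of_forall ?_
        rintro _ ⟨e, he, rfl⟩
        exact ⟨_, (mem_normalizer_iff.1 (hRD (x := ⟨r, hRX hr⟩) hr) e).1 he, rfl⟩
      · rintro _ ⟨e, he, rfl⟩
        obtain ⟨k, hk⟩ := hp e he
        have := (coe_mem_centralizer_iff _ _).2 hk
        rw [map_subgroupOf_eq_of_le hVX] at this
        exact ⟨k, by simpa using this⟩
  rw [← map_subgroupOf_eq_of_le hVX]
  exact map_mono (le_trans (fun x hx => subset_normalClosure hx)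
    (le_largestPReduced (isPReducedNormal_normalClosure hX S (map_le_iff_le_comap.1 hSR) h1)))

theorem largest_mono (T : Sylow p G) {L X : Subgroup G}
    (hX : centralizer (pCore p ↥X : Set ↥X) ≤ pCore p ↥X) (hTL : (T : Subgroup G) ≤ L) (hLX : L ≤ X) :
    largestPReducedOf p L ≤ largestPReducedOf p X :=
  (isReducedIn_largest L).le_largest_of_le hX (T.subtype (hTL.trans hLX))
    (by rw [T.coe_subtype, map_subgroupOf_eq_of_le (hTL.trans hLX)]; exact hTL) hLX

theorem largest_ne_bot (T : Sylow p G) {L : Subgroup G} (hTL : (T : Subgroup G) ≤ L)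
    (hL : L ∈ charPSubgroups p G) : largestPReducedOf p L ≠ ⊥ := by
  obtain ⟨h1, -⟩ := mem_charPSubgroups_iff.1 hL
  have hne : (T : Subgroup G) ≠ ⊥ := fun e => h1 (le_bot_iff.1 (e ▸ pCoreOf_le_sylow T hTL))
  obtain ⟨w, hw, hw1, hwc⟩ := exists_fixed_of_isPGroup T.2 T.2 hne Subgroup.le_normalizer
  obtain ⟨k, hk, hmin⟩ : ∃ k, w ^ p ^ k ≠ 1 ∧ (w ^ p ^ k) ^ p = 1 := by
    obtain ⟨n, hn⟩ := T.2 ⟨w, hw⟩
    have hn' : w ^ p ^ n = 1 := by simpa using congrArg Subtype.val hn
    obtain ⟨k, hk1, hk2⟩ : ∃ k, w ^ p ^ k ≠ 1 ∧ w ^ p ^ (k + 1) = 1 := by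
      induction n with
      | zero => exact absurd (by simpa using hn') hw1
      | succ n ih =>
        by_cases h : w ^ p ^ n = 1
        · exact ih (Subtype.ext (by simpa using h)) h
        · exact ⟨n, h, hn'⟩
    exact ⟨k, hk1, by rwa [← pow_mul, ← pow_succ]⟩
  intro e
  refine hk (mem_bot.1 (e ▸ ?_))
  refine sylowCenterClosure_le_largest (charP_of_mem hL)
    ((le_iSup (fun S : Sylow p ↥L => omegaZ p ((S : Subgroup ↥L).map L.subtype)) (T.subtype hTL)) ?_)
  rw [T.coe_subtype hTL, map_subgroupOf_eq_of_le hTL]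
  exact mem_omegaZ.2 ⟨pow_mem hw _, pow_mem hwc _, hmin⟩

theorem pCoreOf_ne_bot_of_normalizes {V X : Subgroup G} (hV : IsPGroup p V) (hV1 : V ≠ ⊥)
    (hVX : V ≤ X) (hn : X ≤ Subgroup.normalizer (V : Set G)) : pCoreOf p X ≠ ⊥ :=
  fun e => hV1 (le_bot_iff.1 (e ▸ le_pCoreOf hVX hn hV))

/-- A `D ⊴ M` whose `p`-part lies in `K` with `D K = M`: some conjugate of the Sylow subgroup is in `K`. -/
theorem exists_conjS_le_of_sup {M D K P : Subgroup G} (hDM : D ≤ M) (hKM : K ≤ M)
    (hMD : M ≤ Subgroup.normalizer (D : Set G)) (hP : IsPGroup p P) (hPM : P ≤ M)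
    (hPD : P ⊓ D ≤ K) (hidx : ¬ p ∣ (P ⊓ D).relIndex D) (htop : M ≤ D ⊔ K) :
    ∃ g ∈ M, conjS g P ≤ K := by
  set D' := D.subgroupOf M
  set K' := K.subgroupOf M
  have hD : D'.Normal := (normal_subgroupOf_iff_le_normalizer hDM).2 hMD
  have htop' : D' ⊔ K' = ⊤ := by
    refine eq_top_iff.2 fun x _ => ?_
    obtain ⟨k, hk, d, hd, he⟩ := exists_mul_of_mem_sup (hKM.trans hMD) (sup_comm D K ▸ htop x.2)
    have : x = ⟨k, hKM hk⟩ * ⟨d, hDM hd⟩ := Subtype.ext he.symm
    rw [this]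
    exact mul_mem (mem_sup_right hk) (mem_sup_left hd)
  have h1 : K'.index = (D' ⊓ K').relIndex D' := by
    have e2 : D'.relIndex K' = D'.index := by
      rw [← relIndex_top_right D', ← htop', sup_comm D' K', relIndex_sup_right]
    have e3 := relIndex_mul_index (inf_le_left : D' ⊓ K' ≤ D')
    have e4 := relIndex_mul_index (inf_le_right : D' ⊓ K' ≤ K')
    rw [inf_relIndex_right, e2] at e4
    have h5 : D'.index * K'.index = D'.index * (D' ⊓ K').relIndex D' := by
      rw [e4, ← e3, mul_comm]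
    exact Nat.eq_of_mul_eq_mul_left (Nat.pos_of_ne_zero index_ne_zero_of_finite) h5
  have h2 : ¬ p ∣ K'.index := by
    rw [h1]
    intro h
    have e : (D' ⊓ K').relIndex D' = (D ⊓ K).relIndex D := by
      rw [show D' ⊓ K' = (D ⊓ K).subgroupOf M from (comap_inf _ _ _).symm, relIndex_subgroupOf hDM]
    rw [e] at h
    exact hidx (h.trans (relIndex_dvd_of_le_left D (le_inf inf_le_right hPD)))
  obtain ⟨q, hq⟩ := (hP.comap_subtype (K := M)).nonempty_fixed_point_of_prime_not_dvd_card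
    (↥M ⧸ K') h2
  obtain ⟨g, rfl⟩ := QuotientGroup.mk_surjective q
  refine ⟨(g : G)⁻¹, inv_mem g.2, ?_⟩
  rintro _ ⟨x, hx, rfl⟩
  have e : (((⟨x, hPM hx⟩ : ↥M) * g : ↥M) : ↥M ⧸ K') = (g : ↥M ⧸ K') :=
    hq (⟨⟨x, hPM hx⟩, hx⟩ : ↥(P.subgroupOf M))
  rw [eq_comm, QuotientGroup.eq, mem_subgroupOf] at e
  simpa [mul_assoc] using e

/-- Every member of `𝓛(T)` has an associated member of `𝔐`. -/
theorem exists_frakM (hG : IsOfParabolicCharacteristic p G) (T : Sylow p G) {L : Subgroup G}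
    (hTL : (T : Subgroup G) ≤ L) (hL : L ∈ charPSubgroups p G) :
    ∃ M Ls : Subgroup G, (T : Subgroup G) ≤ M ∧ IsInFrakM p M ∧ (T : Subgroup G) ≤ Ls ∧ Ls ≤ M ∧
      Ls ∈ charPSubgroups p G ∧ largestPReducedOf p L = largestPReducedOf p Ls ∧
      largestPReducedOf p L ≤ largestPReducedOf p M ∧
      L ⊔ centralizer (largestPReducedOf p L : Set G) =
        Ls ⊔ centralizer (largestPReducedOf p L : Set G) := by
  set Y := largestPReducedOf p L
  set C := centralizer (Y : Set G)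
  obtain ⟨X₀, hX₀, hLX₀⟩ := exists_max_charPSubgroups hL
  obtain ⟨X, ⟨hX, L₁, hTL₁, hL₁X, hL₁⟩, hXmax⟩ := Set.exists_max_image
    {X : Subgroup G | X ∈ maxCharPSubgroups p G ∧
      ∃ L₁ : Subgroup G, (T : Subgroup G) ≤ L₁ ∧ L₁ ≤ X ∧ L₁ ⊔ C = L ⊔ C}
    (fun X => Nat.card ↥(largestPReducedOf p X)) (Set.toFinite _) ⟨X₀, hX₀, L, hTL, hLX₀, rfl⟩
  have hTX := hTL₁.trans hL₁X
  have hXc := charP_of_mem hX.1
  set YX := largestPReducedOf p X
  set CX := centralizer (YX : Set G)
  have hYX := isReducedIn_largest (p := p) X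
  have hYX1 : YX ≠ ⊥ := largest_ne_bot T hTX hX.1
  have hYXp : IsPGroup p YX := isElementaryAbelian_isPGroup hYX.elab'
  have hmaxN : ∀ N : Subgroup G, X ≤ N → N ≤ Subgroup.normalizer (YX : Set G) → N = X :=
    fun N hXN hN => hX.2 N (mem_charPSubgroups_parabolic hG T (hTX.trans hXN)
      (pCoreOf_ne_bot_of_normalizes hYXp hYX1 (hYX.le.trans hXN) hN)) hXN
  have hCX : CX ≤ X := le_sup_right.trans (hmaxN (X ⊔ CX) le_sup_left
    (sup_le hYX.le_normalizer (centralizer_le_normalizer _))).le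
  -- C(Y_X) ≤ C(Y)
  have hYL₁ : Y ≤ largestPReducedOf p L₁ := by
    have hY := isReducedIn_largest (p := p) L
    refine (hY.of_le_sup ?_ (le_sup_left.trans hL₁.le) (le_sup_left.trans hL₁.ge)).le_largest
    exact (hY.le_pCoreOf.trans (pCoreOf_le_sylow T hTL)).trans hTL₁
  have hYYX : Y ≤ YX := hYL₁.trans (largest_mono T hXc hTL₁ hL₁X)
  have hCXC : CX ≤ C := centralizer_le hYYX
  set T₀ := (T : Subgroup G) ⊓ CX
  set N₀ := X ⊓ Subgroup.normalizer (T₀ : Set G)
  have hTn : (T : Subgroup G) ≤ Subgroup.normalizer (T₀ : Set G) :=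
    le_normalizer_inf' Subgroup.le_normalizer
      ((hTX.trans hYX.le_normalizer).trans (normalizer_le_normalizer_centralizer YX))
  have hdec : X ≤ N₀ ⊔ CX := by
    intro x hx
    have hn : X ≤ Subgroup.normalizer (CX : Set G) :=
      hYX.le_normalizer.trans (normalizer_le_normalizer_centralizer YX)
    obtain ⟨P, hP⟩ := sylow_inf T (X := CX) (hTX.trans hn)
    obtain ⟨a, ha, c, hc, rfl⟩ := frattini_argument hCX hn P hx
    rw [hP, map_subgroupOf_eq_of_le inf_le_right] at ha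
    exact mul_mem (mem_sup_left ha) (mem_sup_right hc)
  obtain ⟨M, hM⟩ := Set.Finite.exists_minimal (Set.toFinite
    {M : Subgroup G | (T : Subgroup G) ≤ M ∧ M ≤ N₀ ∧ X ≤ M ⊔ CX})
    ⟨N₀, le_inf hTX hTn, le_rfl, hdec⟩
  obtain ⟨⟨hTM, hMN, hXM⟩, hMmin⟩ := hM
  have hMX : M ≤ X := hMN.trans inf_le_left
  have hMsup : M ⊔ CX = X := le_antisymm (sup_le hMX hCX) hXM
  have hMY : M ≤ Subgroup.normalizer (YX : Set G) := hMX.trans hYX.le_normalizer
  have hYXM : YX ≤ largestPReducedOf p M := by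
    refine (hYX.of_le_sup ?_ (hMX.trans le_sup_left) hXM).le_largest
    exact (hYX.le_pCoreOf.trans (pCoreOf_le_sylow T hTX)).trans hTM
  have hYM : largestPReducedOf p M = YX := le_antisymm (largest_mono T hXc hTM hMX) hYXM
  have hM𝓛 : M ∈ charPSubgroups p G := mem_charPSubgroups_parabolic hG T hTM
    (pCoreOf_ne_bot_of_normalizes hYXp hYX1
      ((hYX.le_pCoreOf.trans (pCoreOf_le_sylow T hTX)).trans hTM) hMY)
  -- the subgroup L₂ of M
  set L₂ := M ⊓ (L₁ ⊔ CX)
  have hTL₂ : (T : Subgroup G) ≤ L₂ := le_inf hTM (hTL₁.trans le_sup_left)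
  have hL₂ : L₂ ⊔ C = L ⊔ C := by
    rw [← hL₁]
    refine le_antisymm (sup_le (inf_le_right.trans (sup_le le_sup_left (hCXC.trans le_sup_right)))
      le_sup_right) (sup_le (fun l hl => ?_) le_sup_right)
    obtain ⟨m, hm, c, hc, he⟩ := exists_mul_of_mem_sup
      (hMY.trans (normalizer_le_normalizer_centralizer YX)) (hXM (hL₁X hl))
    have hm' : m ∈ L₁ ⊔ CX := by
      have : m = l * c⁻¹ := by rw [← he]; group
      exact this ▸ mul_mem (mem_sup_left hl) (inv_mem (mem_sup_right hc))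
    exact he ▸ mul_mem (mem_sup_left ⟨hm, hm'⟩) (mem_sup_right (hCXC hc))
  have hL₂c : L₂ ∈ charPSubgroups p G := charPSubgroups_of_between hM𝓛 inf_le_left
    ((pCoreOf_le_sylow T hTM).trans hTL₂)
  obtain ⟨hLs1, hLs2⟩ := Cfsg.Agent.S2824.result T L L₂ hTL hTL₂ (charP_of_mem hL)
    (charP_of_mem hL₂c) _ rfl hL₂ _ rfl
  set Ls := L₂ ⊓ Subgroup.normalizer (((T : Subgroup G) ⊓ C : Subgroup G) : Set G)
  have hTLs : (T : Subgroup G) ≤ Ls := le_inf hTL₂ (le_normalizer_inf' Subgroup.le_normalizer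
    ((hTL.trans (isReducedIn_largest L).le_normalizer).trans (normalizer_le_normalizer_centralizer _)))
  refine ⟨M, Ls, hTM, ⟨hM𝓛, ?_, ?_, ?_, ?_, ?_⟩, hTLs, inf_le_left.trans inf_le_left, ?_, hLs1.symm,
    hYM ▸ hYYX, hLs2⟩
  · rw [hYM, hMsup]; exact hX
  · intro X' hX' hMX'
    rw [hYM, hMsup]
    have hTX' := hTM.trans hMX'
    have hle : YX ≤ largestPReducedOf p X' :=
      hYM ▸ largest_mono T (charP_of_mem hX'.1) hTM hMX'
    have heq : YX = largestPReducedOf p X' := Subgroup.eq_of_le_of_card_ge hle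
      (hXmax X' ⟨hX', L₂, hTL₂, inf_le_left.trans hMX', hL₂⟩)
    have h := hmaxN (X ⊔ X') le_sup_left
      (sup_le hYX.le_normalizer (heq ▸ (isReducedIn_largest X').le_normalizer))
    exact (hX'.2 X hX.1 (le_sup_right.trans h.le)).symm
  · rw [hYM, hMsup]
  · rw [hYM, isPClosed_subgroup_iff]
    intro g hg ⟨k, hk⟩
    have hn : M ⊓ CX ≤ Subgroup.normalizer (T₀ : Set G) :=
      inf_le_left.trans (hMN.trans inf_le_right)
    have hT₀p : IsPGroup p T₀ := T.2.to_inf_left
    refine le_pCoreOf (N := T₀) (le_inf (inf_le_left.trans hTM) inf_le_right) hn hT₀p ?_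
    obtain ⟨P, hP⟩ := sylow_inf T (X := M ⊓ CX) (le_normalizer_inf' (hTM.trans Subgroup.le_normalizer)
      ((hTM.trans hMY).trans (normalizer_le_normalizer_centralizer YX)))
    have hPn : (P : Subgroup ↥(M ⊓ CX)).Normal := by
      rw [hP, ← inf_assoc, inf_eq_left.2 hTM]
      exact (normal_subgroupOf_iff_le_normalizer (le_inf (inf_le_left.trans hTM) inf_le_right)).2 hn
    obtain ⟨R, hR⟩ := ((isPEl_zpowers (p := p) (g := (⟨g, hg⟩ : ↥(M ⊓ CX))) ⟨k, Subtype.ext (by simpa using hk)⟩)).exists_le_sylow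
    obtain ⟨x, rfl⟩ := MulAction.exists_smul_eq ↥(M ⊓ CX) P R
    rw [Sylow.smul_eq_of_normal, hP, ← inf_assoc, inf_eq_left.2 hTM] at hR
    exact hR (mem_zpowers _)
  · rw [hYM]
    set f := QuotientGroup.mk' (pCore p ↥M)
    have hf : Function.Surjective f := QuotientGroup.mk'_surjective _
    rw [frattini, Order.radical, le_iInf₂_iff]
    intro Mb hMb
    rw [map_le_iff_le_comap]
    set K := (Mb.comap f).map M.subtype
    have hKM : K ≤ M := map_subtype_le _
    have hQK : pCoreOf p M ≤ K := map_mono fun x hx => by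
      show f x ∈ Mb
      rw [show f x = 1 from (QuotientGroup.eq_one_iff x).2 hx]
      exact Mb.one_mem
    by_contra hne
    have hDK : ¬ M ⊓ CX ≤ K := fun h => hne fun x hx => by
      obtain ⟨y, hy, he⟩ := h (mem_subgroupOf.1 hx)
      exact (Subtype.ext he : y = x) ▸ hy
    have hcoat : IsCoatom (Mb.comap f) := by
      refine ⟨fun h => hMb.1 ?_, fun A hA => ?_⟩
      · rw [← map_comap_eq_self_of_surjective hf Mb, h, map_top_of_surjective f hf]
      · have hk : pCore p ↥M ≤ A := le_trans (le_of_eq_of_le (QuotientGroup.ker_mk' _).symm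
          (ker_le_comap f Mb)) hA.le
        have hAeq : (A.map f).comap f = A := by
          rw [comap_map_eq, QuotientGroup.ker_mk']; exact sup_eq_left.2 hk
        rw [← hAeq, hMb.2 (A.map f) ?_, comap_top]
        rw [← comap_lt_comap_of_surjective hf, hAeq]
        exact hA
    have hDM : M ⊓ CX ≤ M := inf_le_left
    have hMn : M ≤ Subgroup.normalizer ((M ⊓ CX : Subgroup G) : Set G) :=
      le_normalizer_inf' Subgroup.le_normalizer (hMY.trans (normalizer_le_normalizer_centralizer YX))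
    have htop : M ≤ (M ⊓ CX) ⊔ K := by
      have h1 : Mb.comap f < (M ⊓ CX).subgroupOf M ⊔ Mb.comap f :=
        lt_of_le_of_ne le_sup_right fun e => hDK fun x hx =>
          ⟨⟨x, hx.1⟩, e ▸ mem_sup_left (show (⟨x, hx.1⟩ : ↥M) ∈ (M ⊓ CX).subgroupOf M from hx), rfl⟩
      have h2 := congrArg (Subgroup.map M.subtype) (hcoat.2 _ h1)
      rw [Subgroup.map_sup, map_subgroupOf_eq_of_le hDM, ← MonoidHom.range_eq_map, range_subtype] at h2
      exact h2.ge
    have hPD : (T : Subgroup G) ⊓ (M ⊓ CX) ≤ K := by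
      refine le_trans ?_ hQK
      rw [← inf_assoc, inf_eq_left.2 hTM]
      exact le_pCoreOf (inf_le_left.trans hTM) (hMN.trans inf_le_right) T.2.to_inf_left
    obtain ⟨g, hg, hgK⟩ := exists_conjS_le_of_sup hDM hKM hMn T.2 hTM hPD
      (not_dvd_relIndex_sylow_inf T (hTM.trans hMn)) htop
    have hgM : conjS g⁻¹ M = M := conjS_eq_self_iff.2 (inv_mem (Subgroup.le_normalizer hg))
    have hgCX : conjS g⁻¹ CX = CX := conjS_eq_self_iff.2
      (inv_mem ((hMY.trans (normalizer_le_normalizer_centralizer YX)) hg))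
    have hK' : conjS g⁻¹ K ≤ M := (conjS_mono hKM).trans hgM.le
    have hTK' : (T : Subgroup G) ≤ conjS g⁻¹ K := by
      have := conjS_mono (g := g⁻¹) hgK
      rwa [conjS_conjS, inv_mul_cancel, conjS_one] at this
    have hsup' : X ≤ conjS g⁻¹ K ⊔ CX := by
      have h2 : M ≤ conjS g⁻¹ K ⊔ CX := by
        have := conjS_mono (g := g⁻¹) (htop.trans (sup_le (inf_le_right.trans le_sup_right) le_sup_left :
          (M ⊓ CX) ⊔ K ≤ K ⊔ CX))
        rw [hgM] at this
        refine this.trans ?_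
        rw [conjS, Subgroup.map_sup]
        exact sup_le_sup le_rfl hgCX.le
      exact hXM.trans (sup_le h2 le_sup_right)
    have hMK : M ≤ conjS g⁻¹ K := hMmin ⟨hTK', hK'.trans hMN, hsup'⟩ hK'
    refine hDK (inf_le_left.trans ?_)
    have hfull : conjS g M ≤ K := by
      have := conjS_mono (g := g) hMK
      rwa [conjS_conjS, mul_inv_cancel, conjS_one] at this
    exact (conjS_eq_self_iff.2 (Subgroup.le_normalizer hg)).ge.trans hfull
  · refine mem_charPSubgroups_parabolic hG T hTLs ?_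
    refine pCoreOf_ne_bot_of_normalizes (isElementaryAbelian_isPGroup (isReducedIn_largest (p := p) L).elab')
      (largest_ne_bot T hTL hL) ?_ ?_
    · exact ((isReducedIn_largest L).le_pCoreOf.trans (pCoreOf_le_sylow T hTL)).trans hTLs
    · exact le_sup_left.trans (hLs2.ge.trans
        (sup_le (isReducedIn_largest L).le_normalizer (centralizer_le_normalizer _)))

end CfsgLib.LocalStructure
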