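import Cfsg.Agent.LocalStructure.MinimalOver
import Cfsg.Agent.S0542
import Cfsg.Agent.LocalStructure.Largest

/-!
# Transitive families of p-minimal or strongly p-irreducible subgroups
-/

namespace CfsgLib.LocalStructure

open Subgroup Cfsg
open scoped commutatorElement

variable {G : Type*} [Group G] [Finite G] {p : ℕ} [Fact p.Prime]

set_option linter.unusedSectionVars false

theorem isPEl_mem_sylow {g : G} (hg : IsPEl p g) : ∃ S : Sylow p G, g ∈ (S : Subgroup G) := by
  obtain ⟨S, hS⟩ := (isPEl_zpowers hg).exists_le_sylow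
  exact ⟨S, hS (mem_zpowers g)⟩

theorem sSup_conjS_eq {𝒦 : Set (Subgroup G)}
    (hinv : ∀ h : G, ∀ E ∈ 𝒦, E.map (MulAut.conj h).toMonoidHom ∈ 𝒦) : (sSup 𝒦).Normal := by
  refine normalizer_eq_top_iff.1 (eq_top_iff.2 fun g _ => mem_normalizer_of_forall fun y hy => ?_)
  have hle : conjS g (sSup 𝒦) ≤ sSup 𝒦 := by
    rw [conjS, map_le_iff_le_comap]
    exact sSup_le fun E hE => map_le_iff_le_comap.1 (le_sSup (hinv g E hE))
  exact hle ⟨y, hy, rfl⟩

theorem family_isMinimalOver {𝒦 : Set (Subgroup G)} (hne : 𝒦.Nonempty)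
    (hinv : ∀ h : G, ∀ E ∈ 𝒦, E.map (MulAut.conj h).toMonoidHom ∈ 𝒦)
    (htr : ∀ E ∈ 𝒦, ∀ K ∈ 𝒦, ∃ h : G, K = E.map (MulAut.conj h).toMonoidHom)
    (hres : pResidual p G ≤ sSup 𝒦)
    (hnorm : ∀ E ∈ 𝒦, sSup 𝒦 ⊔ pCore p G ≤ Subgroup.normalizer ((E ⊔ pCore p G : Subgroup G) : Set G))
    (hmin : ∀ E ∈ 𝒦, ∀ T : Sylow p ↥E, IsMinimalOver (T : Subgroup ↥E)) (T : Sylow p G) :
    IsMinimalOver (T : Subgroup G) := by
  set R := sSup 𝒦
  have hRn : R.Normal := sSup_conjS_eq hinv
  have hTR : (T : Subgroup G) ⊔ R = ⊤ :=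
    top_unique ((sylow_sup_pResidual T).ge.trans (sup_le_sup le_rfl hres))
  set O := pCore p G
  have hOn : O.Normal := pCore_normal
  have hOT : O ≤ (T : Subgroup G) := pCore_le_sylow T
  refine ⟨?_, ?_⟩
  · set N := Subgroup.normalClosure ((T : Subgroup G) : Set G)
    have hpel : ∀ g : G, IsPEl p g → g ∈ N := by
      intro g hg
      obtain ⟨S, hS⟩ := isPEl_mem_sylow hg
      obtain ⟨x, rfl⟩ := MulAction.exists_smul_eq G T S
      rw [Sylow.smul_def, Sylow.pointwise_smul_def] at hS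
      obtain ⟨t, ht, rfl⟩ := hS
      exact Subgroup.normalClosure_normal.conj_mem t (Subgroup.subset_normalClosure ht) x
    refine top_unique (hTR.ge.trans (sup_le Subgroup.subset_normalClosure (sSup_le fun E hE => ?_)))
    obtain ⟨P⟩ : Nonempty (Sylow p ↥E) := inferInstance
    have h1 : (⊤ : Subgroup ↥E) ≤ N.subgroupOf E := by
      rw [← (hmin E hE P).1]
      refine normalClosure_le_normal (N := N.subgroupOf E) fun x hx => ?_
      obtain ⟨k, hk⟩ := isPEl_of_mem P.2 hx
      exact hpel (x : G) ⟨k, by simpa using congrArg Subtype.val hk⟩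
    exact subgroupOf_eq_top.1 (top_unique h1)
  obtain ⟨E₀, hE₀⟩ := hne
  have hRX : ∀ E ∈ 𝒦, R ≤ Subgroup.normalizer ((E ⊔ O : Subgroup G) : Set G) := fun E hE =>
    le_sup_left.trans (hnorm E hE)
  have hEO : ∀ E : Subgroup G, E ≤ Subgroup.normalizer (O : Set G) := fun E =>
    (normalizer_eq_top_iff.2 hOn).ge.trans' le_top
  have key : ∀ E ∈ 𝒦, ∃ Mb : Subgroup G, (T : Subgroup G) ⊓ (E ⊔ O) ≤ Mb ∧ Mb ≤ E ⊔ O ∧ ¬ E ≤ Mb ∧
      ¬ E ≤ Subgroup.normalizer (Mb : Set G) ∧
      ∀ Z : Subgroup G, (T : Subgroup G) ⊓ (E ⊔ O) ≤ Z → Z ≤ E ⊔ O → ¬ E ≤ Z → Z ≤ Mb := by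
    intro E hE
    set X := E ⊔ O
    have hXR : X ≤ R ⊔ O := sup_le_sup (le_sSup hE) le_rfl
    have hsn : X.IsSubnormal := by
      refine IsSubnormal.step X (R ⊔ O) hXR (Subgroup.Normal.isSubnormal (Subgroup.sup_normal R O)) ?_
      exact (normal_subgroupOf_iff_le_normalizer hXR).2 (hnorm E hE)
    obtain ⟨Q, hQ⟩ := Cfsg.Agent.S0542.result p X hsn T
    obtain ⟨P⟩ : Nonempty (Sylow p ↥E) := inferInstance
    -- a conjugate of `P` inside `T`
    obtain ⟨Q', hQ'⟩ := ((P.2.map E.subtype).comap_subtype (K := X)).exists_le_sylow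
    obtain ⟨x, rfl⟩ := MulAction.exists_smul_eq ↥X Q Q'
    obtain ⟨e, he, o, ho, heo⟩ := exists_mul_of_mem_sup (hEO E) x.2
    have hP1 : ∀ y ∈ (P : Subgroup ↥E), e⁻¹ * (y : G) * e ∈ (T : Subgroup G) := by
      intro y hy
      have h1 := hQ' (x := ⟨(y : G), mem_sup_left (T := O) y.2⟩) ⟨y, hy, rfl⟩
      rw [Sylow.smul_def, Sylow.pointwise_smul_def] at h1
      obtain ⟨z, hz, hzy⟩ := h1
      rw [hQ] at hz
      have hz' : (z : G) ∈ (T : Subgroup G) := hz
      have e1 : (x : G) * (z : G) * (x : G)⁻¹ = (y : G) := congrArg Subtype.val hzy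
      rw [← e1, ← heo, show e⁻¹ * (e * o * (z : G) * (e * o)⁻¹) * e = o * (z : G) * o⁻¹ by group]
      exact mul_mem (mul_mem (hOT ho) hz') (inv_mem (hOT ho))
    obtain ⟨P', hP'⟩ := (T.2.comap_subtype (K := E)).exists_le_sylow
    set P₁ := MulAut.conj (⟨e, he⟩ : ↥E)⁻¹
    have hP'eq : (T : Subgroup G).subgroupOf E = P' := by
      refine Subgroup.eq_of_le_of_card_ge hP' ?_
      rw [P'.card_eq_multiplicity, ← P.card_eq_multiplicity,
        ← card_map_of_injective (f := P₁.toMonoidHom) P₁.injective]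
      refine Nat.card_le_card_of_injective _ (inclusion_injective ?_)
      rintro _ ⟨y, hy, rfl⟩
      simpa [P₁, mem_subgroupOf] using hP1 y hy
    obtain ⟨M₀, ⟨hM₀, hPM₀⟩, -⟩ := (hmin E hE P').2
    set Mb := M₀.map E.subtype ⊔ O
    have hinf : ∀ z ∈ Mb, ∀ hz : z ∈ E, (⟨z, hz⟩ : ↥E) ∈ M₀ := by
      intro z hz hzE
      obtain ⟨_, ⟨m, hm, rfl⟩, o, ho, he'⟩ := exists_mul_of_mem_sup (hEO _) hz
      have hoE : o ∈ E := by
        have h2 : o = (m : G)⁻¹ * z := by rw [← he']; simp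
        exact h2 ▸ mul_mem (inv_mem m.2) hzE
      have h3 : (⟨z, hzE⟩ : ↥E) = m * ⟨o, hoE⟩ := Subtype.ext he'.symm
      exact h3 ▸ mul_mem hm (hPM₀ (hP'eq.le (show (⟨o, hoE⟩ : ↥E) ∈ (T : Subgroup G).subgroupOf E from hOT ho)))
    have hfle : (T : Subgroup G) ⊓ X ≤ Mb := by
      rintro z ⟨hzT, hzX⟩
      obtain ⟨a, ha, o, ho, rfl⟩ := exists_mul_of_mem_sup (hEO E) hzX
      refine mul_mem (mem_sup_left ⟨⟨a, ha⟩, hPM₀ (hP'eq.le ?_), rfl⟩) (mem_sup_right ho)
      show a ∈ (T : Subgroup G)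
      simpa using (T : Subgroup G).mul_mem hzT ((T : Subgroup G).inv_mem (hOT ho))
    have hEMb : ¬ E ≤ Mb := fun h => hM₀.1 (eq_top_iff.2 fun z _ => hinf z (h z.2) z.2)
    refine ⟨Mb, hfle, sup_le_sup (map_subtype_le _) le_rfl, hEMb, fun h => ?_, fun Z hZ hZX hEZ => ?_⟩
    · refine minimalOver_not_normal hM₀ hPM₀ (hmin E hE P') ⟨fun m hm g => ?_⟩
      exact hinf _ ((mem_normalizer_iff.1 (h g.2) _).1 (mem_sup_left ⟨m, hm, rfl⟩)) (g * m * g⁻¹).2
    · intro z hz
      obtain ⟨a, ha, o, ho, rfl⟩ := exists_mul_of_mem_sup (hEO E) (hZX hz)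
      have hoZ : o ∈ Z := hZ ⟨hOT ho, mem_sup_right ho⟩
      have haZ : (⟨a, ha⟩ : ↥E) ∈ Z.subgroupOf E := by
        rw [mem_subgroupOf]; simpa using mul_mem hz (inv_mem hoZ)
      refine mul_mem (mem_sup_left ⟨_, minimalOver_le hM₀ hPM₀ (hmin E hE P') (fun w hw => ?_)
        (fun h => hEZ (subgroupOf_eq_top.1 h)) haZ, rfl⟩) (mem_sup_right ho)
      rw [← hP'eq] at hw
      exact hZ ⟨hw, mem_sup_left w.2⟩
  choose! Mb hMb1 hMb2 hMb3 hMb4 hMb5 using key
  have hnormMb : ∀ g : G, ∀ E ∈ 𝒦, g ∈ Subgroup.normalizer ((E ⊔ O : Subgroup G) : Set G) →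
      g ∈ Subgroup.normalizer (((T : Subgroup G) ⊓ (E ⊔ O) : Subgroup G) : Set G) →
      g ∈ Subgroup.normalizer (Mb E : Set G) := by
    intro g E hE h1 h2
    refine mem_normalizer_of_conjS_eq (Subgroup.eq_of_le_of_card_ge (hMb5 E hE _ ?_ ?_ ?_)
      (card_map_of_injective (MulAut.conj g).injective).ge)
    · exact (conjS_eq_self_iff.2 h2).ge.trans (conjS_mono (hMb1 E hE))
    · exact (conjS_mono (hMb2 E hE)).trans (conjS_eq_self_iff.2 h1).le
    · intro h
      refine hMb3 E hE ((le_sup_left (b := O)).trans ?_)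
      have h3 : E ⊔ O ≤ conjS g (Mb E) :=
        sup_le h ((le_inf hOT le_sup_right).trans ((conjS_eq_self_iff.2 h2).ge.trans (conjS_mono (hMb1 E hE))))
      exact (Subgroup.eq_of_le_of_card_ge (hMb2 E hE) ((Nat.card_le_card_of_injective _
        (inclusion_injective h3)).trans (card_map_of_injective (MulAut.conj g).injective).le)).ge
  have hconjMb : ∀ t ∈ (T : Subgroup G), ∀ E ∈ 𝒦, conjS t (Mb E) ≤ Mb (conjS t E) := by
    intro t ht E hE
    have htT : conjS t (T : Subgroup G) = T := conjS_eq_self_iff.2 (Subgroup.le_normalizer ht)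
    have htO : conjS t O = O := conjS_eq_self_iff.2 ((normalizer_eq_top_iff.2 hOn).ge (mem_top t))
    have hX : conjS t (E ⊔ O) = conjS t E ⊔ O := by rw [conjS, Subgroup.map_sup]; congr 1
    refine hMb5 _ (hinv t E hE) _ ?_ ?_ fun h => hMb3 E hE ?_
    · rw [← hX, ← htT, conjS, conjS, ← map_inf _ _ _ (MulAut.conj t).injective]
      exact map_mono (hMb1 E hE)
    · exact (conjS_mono (hMb2 E hE)).trans hX.le
    · exact (map_le_map_iff_of_injective (MulAut.conj t).injective).1 h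
  set K₀ := R ⊓ ⨅ E ∈ 𝒦, Subgroup.normalizer (Mb E : Set G)
  set M := K₀ ⊔ (T : Subgroup G)
  have hTK₀ : (T : Subgroup G) ≤ Subgroup.normalizer (K₀ : Set G) := by
    intro t ht
    refine mem_normalizer_of_forall fun y hy => ?_
    simp only [K₀, mem_inf, mem_iInf] at hy ⊢
    refine ⟨hRn.conj_mem y hy.1 t, fun E hE => ?_⟩
    have hE' := hinv t⁻¹ E hE
    have h1 := hconjMb t ht _ hE'
    have h2 := hconjMb t⁻¹ (inv_mem ht) E hE
    change conjS t (Mb (conjS t⁻¹ E)) ≤ Mb (conjS t (conjS t⁻¹ E)) at h1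
    rw [conjS_conjS, mul_inv_cancel, conjS_one] at h1
    have h3 : conjS t⁻¹ (Mb E) = Mb (conjS t⁻¹ E) := le_antisymm h2 (by
      have := conjS_mono (g := t⁻¹) h1
      rwa [conjS_conjS, inv_mul_cancel, conjS_one] at this)
    have h4 := conjS_eq_self_iff.2 (hy.2 _ hE')
    refine mem_normalizer_of_conjS_eq ?_
    calc conjS (t * y * t⁻¹) (Mb E) = conjS t (conjS y (conjS t⁻¹ (Mb E))) := by
          rw [conjS_conjS, conjS_conjS]
      _ = Mb E := by rw [h3, h4, ← h3, conjS_conjS, mul_inv_cancel, conjS_one]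
  have hMR : ∀ x ∈ M, x ∈ R → x ∈ K₀ := by
    intro x hx hxR
    obtain ⟨t, ht, k, hk, rfl⟩ := exists_mul_of_mem_sup hTK₀ ((sup_comm K₀ _).le hx)
    have htR : t ∈ R := by simpa using mul_mem hxR (inv_mem (show k ∈ R from hk.1))
    refine mul_mem ⟨htR, ?_⟩ hk
    refine mem_iInf.2 fun E => mem_iInf.2 fun hE => ?_
    exact hnormMb t E hE (hRX E hE htR)
      ((le_normalizer_inf' (inf_le_left.trans Subgroup.le_normalizer)
        (inf_le_right.trans (hRX E hE))) (⟨ht, htR⟩ : t ∈ (T : Subgroup G) ⊓ R))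
  have hMne : M ≠ ⊤ := by
    intro h
    refine hMb4 E₀ hE₀ fun e he => ?_
    have h1 := hMR e (h ▸ mem_top e) (le_sSup hE₀ he)
    exact (mem_iInf.1 ((mem_iInf.1 h1.2) E₀)) hE₀
  have hmax : ∀ X₀ : Subgroup G, (T : Subgroup G) ≤ X₀ → X₀ ≠ ⊤ → X₀ ≤ M := by
    intro X₀ hTX hX₀
    have hnot : ∀ E ∈ 𝒦, ¬ E ≤ X₀ := by
      intro E hE hEX
      refine hX₀ (top_unique (hTR.ge.trans (sup_le hTX (sSup_le fun K hK => ?_))))
      obtain ⟨h, rfl⟩ := htr E hE K hK
      obtain ⟨t, ht, r, hr, rfl⟩ := mem_sup_of_normal_right.1 (hTR.ge (mem_top h))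
      change conjS (t * r) E ≤ X₀
      rw [← conjS_conjS]
      refine (conjS_mono (g := t) ?_).trans (conjS_eq_self_iff.2 (Subgroup.le_normalizer (hTX ht))).le
      exact (conjS_mono le_sup_left).trans
        ((conjS_eq_self_iff.2 (hRX E hE hr)).le.trans (sup_le hEX (hOT.trans hTX)))
    intro x hx
    obtain ⟨t, ht, r, hr, rfl⟩ := mem_sup_of_normal_right.1 (hTR.ge (mem_top x))
    refine mul_mem (mem_sup_right ht) (mem_sup_left ⟨hr, ?_⟩)
    have hrX : r ∈ X₀ := by simpa using mul_mem (inv_mem (hTX ht)) hx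
    refine mem_iInf.2 fun E => mem_iInf.2 fun hE => ?_
    set L := X₀ ⊓ Subgroup.normalizer ((E ⊔ O : Subgroup G) : Set G)
    set C := X₀ ⊓ (E ⊔ O)
    have hfC : (T : Subgroup G) ⊓ (E ⊔ O) ≤ C := inf_le_inf_right _ hTX
    have hCMb : C ≤ Mb E := hMb5 E hE C hfC inf_le_right fun h => hnot E hE (h.trans inf_le_left)
    obtain ⟨P, hP⟩ := ((T.2.to_inf_left (K := E ⊔ O)).comap_subtype (K := C)).exists_le_sylow
    have hPeq : (P : Subgroup ↥C).map C.subtype = (T : Subgroup G) ⊓ (E ⊔ O) := by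
      have hsn : (E ⊔ O).IsSubnormal := IsSubnormal.step (E ⊔ O) (R ⊔ O) (sup_le_sup (le_sSup hE) le_rfl)
        (Subgroup.Normal.isSubnormal (Subgroup.sup_normal R O))
        ((normal_subgroupOf_iff_le_normalizer (sup_le_sup (le_sSup hE) le_rfl)).2 (hnorm E hE))
      obtain ⟨Q, hQ⟩ := Cfsg.Agent.S0542.result p (E ⊔ O) hsn T
      set P'' := (P : Subgroup ↥C).map C.subtype
      have hle : (Q : Subgroup ↥(E ⊔ O)) ≤ P''.subgroupOf (E ⊔ O) := by
        rw [hQ]
        exact fun w hw => ⟨⟨w, hfC ⟨hw, w.2⟩⟩, hP ⟨hw, w.2⟩, rfl⟩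
      refine le_antisymm (fun z hz => ?_) fun z hz => ⟨⟨z, hfC hz⟩, hP hz, rfl⟩
      have hzX : z ∈ E ⊔ O := ((map_subtype_le _).trans inf_le_right) hz
      have h5 := (Q.3 (P.2.map C.subtype).comap_subtype hle).le (show (⟨z, hzX⟩ : ↥(E ⊔ O)) ∈ P''.subgroupOf (E ⊔ O) from hz)
      rw [hQ] at h5
      exact ⟨h5, hzX⟩
    obtain ⟨a, ha, c, hc, rfl⟩ := frattini_argument (C := C) (L := L)
      (le_inf inf_le_left (inf_le_right.trans Subgroup.le_normalizer))
      (le_normalizer_inf' (inf_le_left.trans Subgroup.le_normalizer) inf_le_right) P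
      (show r ∈ L from ⟨hrX, hRX E hE hr⟩)
    rw [hPeq] at ha
    exact mul_mem (hnormMb a E hE ha.1.2 ha.2) (Subgroup.le_normalizer (hCMb hc))
  refine ⟨M, ⟨⟨hMne, fun K hK => by_contra fun h => hK.not_ge (hmax K (le_sup_right.trans hK.le) h)⟩,
    le_sup_right⟩, fun M' ⟨hM', hTM'⟩ => ?_⟩
  exact le_antisymm (hmax M' hTM' hM'.1) (by
    by_contra h
    exact hMne (hM'.2 M (lt_of_le_not_ge (hmax M' hTM' hM'.1) h)))

/-- A `p`-element moving `t` only inside a `p'`-subgroup that it centralizes fixes `t`. -/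
theorem commute_of_commutator_mem {Z : Subgroup G}
    (hZ : (Nat.card ↥Z).Coprime p) {e t : G} (he : IsPEl p e) (hc : ⁅e, t⁆ ∈ Z)
    (hec : Commute e ⁅e, t⁆) : Commute e t := by
  set c := ⁅e, t⁆ with hcdef
  have key : ∀ n : ℕ, e ^ n * t * (e ^ n)⁻¹ = c ^ n * t := by
    intro n
    induction n with
    | zero => simp
    | succ n ih =>
      have e2 : e * c ^ n * e⁻¹ = c ^ n := by rw [(hec.pow_right n).eq, mul_inv_cancel_right]
      calc e ^ (n + 1) * t * (e ^ (n + 1))⁻¹ = e * (e ^ n * t * (e ^ n)⁻¹) * e⁻¹ := by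
            rw [pow_succ']; group
        _ = (e * c ^ n * e⁻¹) * (e * t * e⁻¹) := by rw [ih]; group
        _ = c ^ (n + 1) * t := by rw [e2, pow_succ, hcdef, commutatorElement_def]; group
  obtain ⟨k, hk⟩ := he
  have h := key (p ^ k)
  rw [hk, one_mul, inv_one, mul_one] at h
  have h1 : c ^ p ^ k = 1 := mul_right_cancel (h.symm.trans (one_mul t).symm)
  exact commutatorElement_eq_one_iff_commute.1
    (eq_one_of_coprime_of_pow (hZ.of_dvd_left (Subgroup.orderOf_dvd_natCard Z hc)) h1)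

theorem coprime_card_of_comm {Z : Subgroup G} (hc : Z ≤ centralizer (Z : Set G))
    (hO : pCoreOf p Z = ⊥) : (Nat.card ↥Z).Coprime p := by
  refine Nat.Coprime.symm ((Nat.Prime.coprime_iff_not_dvd Fact.out).2 fun h => ?_)
  obtain ⟨⟨z, hz⟩, hzp⟩ := exists_prime_orderOf_dvd_card' p h
  rw [Subgroup.orderOf_mk] at hzp
  have h1 : zpowers z ≤ pCoreOf p Z := le_pCoreOf (zpowers_le.2 hz)
    (le_trans ((le_centralizer_iff.1 ((zpowers_le.2 hz).trans hc))) (centralizer_le_normalizer _))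
    (isPEl_zpowers ⟨1, by rw [pow_one, ← hzp]; exact pow_orderOf_eq_one z⟩)
  rw [hO, le_bot_iff, zpowers_eq_bot] at h1
  subst h1
  rw [orderOf_one] at hzp
  exact (Fact.out : p.Prime).one_lt.ne hzp

theorem strongly_dichotomy {E D : Subgroup G} (hE : IsStronglyPIrreducible p ↥E) (hDE : D ≤ E)
    (hn : E ≤ Subgroup.normalizer (D : Set G)) : ⁅D, E⁆ ≤ pCoreOf p E ∨ pResOf p E ≤ D := by
  have := normal_subgroupOf_of_le_normalizer hn
  by_cases h : ⁅D.subgroupOf E, (⊤ : Subgroup ↥E)⁆ ≤ pCore p ↥E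
  · left
    have h1 := map_mono (f := E.subtype) h
    rwa [map_commutator, map_subgroupOf_eq_of_le hDE, ← MonoidHom.range_eq_map, range_subtype] at h1
  · right
    have h1 := map_mono (f := E.subtype) (hE.2 _ this h)
    rwa [map_pResidual, map_subgroupOf_eq_of_le hDE] at h1

theorem le_pElementClosure_of_strongly {E : Subgroup G} (hE : IsStronglyPIrreducible p ↥E) :
    E ≤ pElementClosure p E := by
  set D := pElementClosure p E
  have hDE : D ≤ E := (closure_le _).2 fun x hx => hx.1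
  have hn : E ≤ Subgroup.normalizer (D : Set G) := fun g hg => mem_normalizer_of_forall fun y hy => by
    have hle : D.map (MulAut.conj g).toMonoidHom ≤ D := by
      rw [show D = Subgroup.closure _ from rfl, MonoidHom.map_closure]
      apply Subgroup.closure_mono
      rintro _ ⟨z, ⟨hz, hk⟩, rfl⟩
      refine ⟨mul_mem (mul_mem hg hz) (inv_mem hg), ?_⟩
      rwa [MulEquiv.toMonoidHom_eq_coe, MonoidHom.coe_coe, MulEquiv.orderOf_eq]
    exact hle ⟨y, hy, rfl⟩
  have hP : ∀ S : Sylow p ↥E, (S : Subgroup ↥E).map E.subtype ≤ D := by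
    rintro S _ ⟨x, hx, rfl⟩
    obtain ⟨k, hk⟩ := IsPGroup.iff_orderOf.1 S.2 ⟨x, hx⟩
    exact subset_closure ⟨x.2, k, by rw [← hk, Subgroup.orderOf_mk]; exact Subgroup.orderOf_coe x⟩
  obtain ⟨S⟩ : Nonempty (Sylow p ↥E) := inferInstance
  rcases strongly_dichotomy hE hDE hn with h | h
  · exfalso
    refine hE.1 fun S => ?_
    have hcore : (pCore p ↥E).map E.subtype ≤ (S : Subgroup ↥E).map E.subtype := map_mono (pCore_le_sylow S)
    refine ⟨fun s hs g => ?_⟩
    have h1 : ⁅(s : G), (g : G)⁆ ∈ (S : Subgroup ↥E).map E.subtype :=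
      hcore (h (commutator_mem_commutator (hP S ⟨s, hs, rfl⟩) g.2))
    have h2 : ⁅s, g⁆ ∈ (S : Subgroup ↥E) := (mem_map_iff_mem E.subtype_injective).1 h1
    have e : g * s * g⁻¹ = ⁅s, g⁆⁻¹ * s := by rw [commutatorElement_def]; group
    exact e ▸ mul_mem (inv_mem h2) hs
  · have h1 := map_mono (f := E.subtype) (sylow_sup_pResidual S).ge
    rw [← MonoidHom.range_eq_map, range_subtype, Subgroup.map_sup, map_pResidual] at h1
    exact h1.trans (sup_le (hP S) h)

theorem family_isPIrreducible {𝒦 : Set (Subgroup G)} (hne : 𝒦.Nonempty)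
    (hinv : ∀ h : G, ∀ E ∈ 𝒦, E.map (MulAut.conj h).toMonoidHom ∈ 𝒦)
    (htr : ∀ E ∈ 𝒦, ∀ K ∈ 𝒦, ∃ h : G, K = E.map (MulAut.conj h).toMonoidHom)
    (hres : pResidual p G ≤ sSup 𝒦)
    (hnorm : ∀ E ∈ 𝒦, sSup 𝒦 ⊔ pCore p G ≤ Subgroup.normalizer ((E ⊔ pCore p G : Subgroup G) : Set G))
    (hirr : ∀ E ∈ 𝒦, IsStronglyPIrreducible p ↥E) :
    IsPIrreducible p G ∧ ∀ E ∈ 𝒦, ∀ K ∈ 𝒦,
      pResOf p (E ⊔ pCore p G) = pResOf p (K ⊔ pCore p G) ∨ ⁅E, K⁆ ≤ pCore p G := by
  set R := sSup 𝒦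
  have hRn : R.Normal := sSup_conjS_eq hinv
  set O := pCore p G
  have hOn : O.Normal := pCore_normal
  set f := QuotientGroup.mk' O
  have hf : Function.Surjective f := QuotientGroup.mk'_surjective O
  have hO' : pCore p (G ⧸ O) = ⊥ := by
    rw [pCore_quotient pCore_isPGroup, Subgroup.map_eq_bot_iff, QuotientGroup.ker_mk']
  have hfO : O.map f = ⊥ := by rw [Subgroup.map_eq_bot_iff, QuotientGroup.ker_mk']
  have hRn' : (R.map f).Normal := hRn.map f hf
  have hnorm' : ∀ E ∈ 𝒦, R.map f ≤ Subgroup.normalizer (E.map f : Set (G ⧸ O)) := by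
    intro E hE
    have h := (map_mono (f := f) (le_sup_left.trans (hnorm E hE))).trans (le_normalizer_map f)
    rwa [Subgroup.map_sup, hfO, sup_bot_eq] at h
  have hsn : ∀ E ∈ 𝒦, (E.map f).IsSubnormal := fun E hE =>
    IsSubnormal.step _ (R.map f) (map_mono (le_sSup hE)) hRn'.isSubnormal
      ((normal_subgroupOf_iff_le_normalizer (map_mono (le_sSup hE))).2 (hnorm' E hE))
  have hcoreE : ∀ E ∈ 𝒦, pCoreOf p (E.map f) = ⊥ := fun E hE =>
    eq_bot_iff.2 ((pCoreOf_le_of_isSubnormal (hsn E hE)).trans hO'.le)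
  have hmapcore : ∀ E ∈ 𝒦, (pCoreOf p E).map f = ⊥ := fun E hE =>
    eq_bot_iff.2 ((le_pCoreOf (map_mono (pCoreOf_le E))
      ((map_mono (le_normalizer_pCoreOf E)).trans (le_normalizer_map f)) ((pCoreOf_isPGroup E).map f)).trans
      (hcoreE E hE).le)
  -- p-elements generate
  have hgen : ∀ E ∈ 𝒦, ∀ X : Subgroup (G ⧸ O), (∀ e ∈ E, IsPEl p e → f e ∈ X) → E.map f ≤ X := by
    intro E hE X hX
    refine (map_mono (le_pElementClosure_of_strongly (hirr E hE))).trans ?_
    rw [pElementClosure, MonoidHom.map_closure, closure_le]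
    rintro _ ⟨e, ⟨he, k, hk⟩, rfl⟩
    exact hX e he ⟨k, hk ▸ pow_orderOf_eq_one e⟩
  have hres' : ∀ {E : Subgroup G} {X : Subgroup G}, O ≤ X → pResOf p E ≤ X → pResOf p (E ⊔ O) ≤ X := by
    intro E X hOX hEX
    have h1 : (pResOf p (E ⊔ O)).map f ≤ X.map f := by
      rw [map_pResOf, Subgroup.map_sup, hfO, sup_bot_eq, ← map_pResOf]
      exact map_mono hEX
    have h2 := map_le_iff_le_comap.1 h1
    rwa [comap_map_eq, QuotientGroup.ker_mk', sup_eq_left.2 hOX] at h2
  refine ⟨⟨fun h => ?_, fun N hN hNc => ?_⟩, fun E hE K hK => ?_⟩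
  · obtain ⟨E, hE⟩ := hne
    exact (hirr E hE).1 (isPClosed_top_iff.1 (by
      rw [isPClosed_subgroup_iff]
      intro x _ hp
      obtain ⟨k, hk⟩ := hp
      have h2 := (isPClosed_iff_forall.1 h) (x : G) ⟨k, by simpa using congrArg Subtype.val hk⟩
      rw [pCoreOf_top]
      exact LocalStructure.le_pCore (N := O.subgroupOf E) pCore_isPGroup.comap_subtype h2))
  · by_contra hne'
    set N' := N ⊔ O
    have hN' : N'.Normal := Subgroup.sup_normal N O
    have hNR : ¬ pResidual p G ≤ N' := fun h => hne' (by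
      rw [← pResOf_top]
      refine pResOf_le_of_forall fun g hg hc => ?_
      obtain ⟨k, hk⟩ := exists_pow_mem_of_mem_sup (pCore_isPGroup (p := p) (G := G))
        ((normalizer_eq_top_iff.2 hN).ge.trans' le_top) ((sup_comm N O).le (h (pResOf_top.le (mem_pResOf (mem_top g) hc))))
      exact mem_of_coprime_of_pow_mem hc hk)
    have hall : ∀ E ∈ 𝒦, ⁅(N'.map f) ⊓ E.map f, E.map f⁆ = ⊥ := by
      intro E hE
      rcases strongly_dichotomy (hirr E hE) (inf_le_right : N' ⊓ E ≤ E)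
        (le_normalizer_inf' ((normalizer_eq_top_iff.2 hN').ge.trans' le_top) Subgroup.le_normalizer) with h | h
      · refine eq_bot_iff.2 (commutator_le.2 fun z hz w hw => ?_)
        obtain ⟨⟨n, hn, h1⟩, ⟨e, he, h2⟩⟩ := hz
        obtain ⟨e', he', rfl⟩ := hw
        have h3 : n⁻¹ * e ∈ O := QuotientGroup.eq.1 (show f n = f e by rw [h1, h2])
        have heN : e ∈ N' := by simpa using mul_mem hn (mem_sup_right (S := N) h3)
        rw [← h2, ← map_commutatorElement, ← hmapcore E hE]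
        exact mem_map_of_mem f (h (commutator_mem_commutator ⟨heN, he⟩ he'))
      · exfalso
        refine hNR ?_
        have hallK : ∀ K ∈ 𝒦, pResOf p K ≤ N' := by
          intro K hK
          obtain ⟨g, rfl⟩ := htr E hE K hK
          rw [← map_pResOf]
          refine (map_mono (h.trans inf_le_left)).trans ?_
          exact (conjS_eq_self_iff.2 ((normalizer_eq_top_iff.2 hN').ge (mem_top g))).le
        set g := QuotientGroup.mk' N'
        have hRn'' : (R.map g).Normal := hRn.map g (QuotientGroup.mk'_surjective N')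
        have hRp : R.map g ≤ pCore p (G ⧸ N') := by
          rw [map_le_iff_le_comap]
          refine sSup_le fun K hK => ?_
          rw [← map_le_iff_le_comap]
          refine le_pCore_of_isSubnormal (IsSubnormal.step _ (R.map g) (map_mono (le_sSup hK))
            hRn''.isSubnormal ((normal_subgroupOf_iff_le_normalizer (map_mono (le_sSup hK))).2 ?_)) ?_
          · have hOg : O.map g = ⊥ := by
              rw [Subgroup.map_eq_bot_iff, QuotientGroup.ker_mk']; exact le_sup_right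
            have h := (map_mono (f := g) (le_sup_left.trans (hnorm K hK))).trans (le_normalizer_map g)
            rwa [Subgroup.map_sup, hOg, sup_bot_eq] at h
          · rw [← pResOf_eq_bot, ← map_pResOf, Subgroup.map_eq_bot_iff, QuotientGroup.ker_mk']
            exact hallK K hK
        rw [← pResOf_top]
        refine pResOf_le_of_forall fun x hx hc => ?_
        have hxR : x ∈ R := hres (pResOf_top.le (mem_pResOf hx hc))
        exact (QuotientGroup.eq_one_iff x).1 (eq_one_of_coprime_of_mem pCore_isPGroup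
          (hRp (mem_map_of_mem g hxR)) (hc.of_dvd_left (orderOf_map_dvd g x)))
    set Nb := N'.map f
    have hNb : Nb.Normal := hN'.map f hf
    set Z := Nb ⊓ R.map f
    have hZR : R.map f ≤ centralizer (Z : Set (G ⧸ O)) := by
      rw [map_le_iff_le_comap]
      refine sSup_le fun E hE => ?_
      rw [← map_le_iff_le_comap]
      refine hgen E hE _ fun e he hep => mem_centralizer_iff.2 fun z hz => ?_
      have hEf : f e ∈ E.map f := mem_map_of_mem f he
      have h1 : ⁅f e, z⁆ ∈ Nb ⊓ E.map f :=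
        ⟨le_normalizer_iff_commutator_le_right.1 ((normalizer_eq_top_iff.2 hNb).ge.trans' le_top)
          (commutator_mem_commutator hEf hz.1),
         le_normalizer_iff_commutator_le_left.1 (hnorm' E hE) (commutator_mem_commutator hEf hz.2)⟩
      have hcop : (Nat.card ↥(Nb ⊓ E.map f)).Coprime p := coprime_card_of_comm
        (commutator_eq_bot_iff_le_centralizer.1 (eq_bot_iff.2
          ((commutator_mono le_rfl inf_le_right).trans (hall E hE).le)))
        (eq_bot_iff.2 ((pCoreOf_le_of_isSubnormal (hNb.isSubnormal.inf (hsn E hE))).trans hO'.le))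
      obtain ⟨k, hk⟩ := hep
      exact (commute_of_commutator_mem hcop ⟨k, by rw [← map_pow, hk, map_one]⟩ h1
        (mem_centralizer_iff.1 (commutator_eq_bot_iff_le_centralizer.1 (hall E hE) h1) _ hEf)).eq.symm
    have hZc : (Nat.card ↥Z).Coprime p := coprime_card_of_comm (inf_le_right.trans hZR)
      (eq_bot_iff.2 ((pCoreOf_le_of_isSubnormal (hNb.isSubnormal.inf hRn'.isSubnormal)).trans hO'.le))
    have hNR' : R.map f ≤ centralizer (Nb : Set (G ⧸ O)) := by
      rw [map_le_iff_le_comap]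
      refine sSup_le fun E hE => ?_
      rw [← map_le_iff_le_comap]
      refine hgen E hE _ fun e he hep => mem_centralizer_iff.2 fun t ht => ?_
      have hRf : f e ∈ R.map f := mem_map_of_mem f (le_sSup hE he)
      have h1 : ⁅f e, t⁆ ∈ Z :=
        ⟨le_normalizer_iff_commutator_le_right.1 ((normalizer_eq_top_iff.2 hNb).ge.trans' le_top)
          (commutator_mem_commutator hRf ht),
         le_normalizer_iff_commutator_le_left.1 ((normalizer_eq_top_iff.2 hRn').ge.trans' le_top)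
          (commutator_mem_commutator hRf ht)⟩
      obtain ⟨k, hk⟩ := hep
      exact (commute_of_commutator_mem hZc ⟨k, by rw [← map_pow, hk, map_one]⟩ h1
        (mem_centralizer_iff.1 (hZR hRf) _ h1).symm).eq.symm
    -- `N` is p-closed
    obtain ⟨S⟩ : Nonempty (Sylow p ↥Nb) := inferInstance
    set S' := (S : Subgroup ↥Nb).map Nb.subtype
    have hNS : Nb ≤ Subgroup.normalizer (S' : Set (G ⧸ O)) := by
      have h2 := map_mono (f := Nb.subtype) (sylow_sup_pResidual S).ge
      rw [← MonoidHom.range_eq_map, range_subtype, Subgroup.map_sup, map_pResidual] at h2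
      refine h2.trans (sup_le Subgroup.le_normalizer (pResOf_le_of_forall fun x hx hc => ?_))
      have hxR : x ∈ R.map f := by
        refine (map_mono (f := f) hres) ?_
        rw [← pResOf_top (p := p) (G := G), map_pResOf, map_top_of_surjective f hf]
        exact mem_pResOf (mem_top x) hc
      exact centralizer_le_normalizer _ (centralizer_le (show (S' : Set (G ⧸ O)) ⊆ Nb from map_subtype_le _)
        (hNR' hxR))
    have hS'n : (S'.subgroupOf Nb).Normal := normal_subgroupOf_of_le_normalizer hNS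
    have hSn : IsPClosed p ↥N' := by
      refine (isPClosed_map_iff pCore_isPGroup le_sup_right).1 fun P => ?_
      have hSn0 : (S : Subgroup ↥Nb).Normal := by
        rwa [show S'.subgroupOf Nb = (S : Subgroup ↥Nb) from comap_map_eq_self_of_injective Nb.subtype_injective _] at hS'n
      obtain ⟨x, rfl⟩ := MulAction.exists_smul_eq ↥Nb S P
      rwa [Sylow.smul_eq_of_normal]
    exact hNc (IsPClosed.mono hSn le_sup_left)
  · by_cases hA : pResOf p E ≤ K ⊔ O
    · left
      have h1 : pResOf p (E ⊔ O) ≤ pResOf p (K ⊔ O) :=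
        (pResOf_idem _).ge.trans (pResOf_mono (hres' le_sup_right hA))
      refine Subgroup.eq_of_le_of_card_ge h1 (le_of_eq ?_)
      obtain ⟨g, rfl⟩ := htr E hE K hK
      have hgO : conjS g O = O := conjS_eq_self_iff.2 ((normalizer_eq_top_iff.2 hOn).ge (mem_top g))
      conv_lhs => rw [← hgO, ← Subgroup.map_sup, ← map_pResOf]
      exact card_map_of_injective (MulAut.conj g).injective
    · right
      have hB : ¬ pResOf p K ≤ E ⊔ O := fun h => hA (by
        have h1 : pResOf p (K ⊔ O) ≤ pResOf p (E ⊔ O) :=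
          (pResOf_idem _).ge.trans (pResOf_mono (hres' le_sup_right h))
        have h2 : pResOf p (K ⊔ O) = pResOf p (E ⊔ O) := by
          refine Subgroup.eq_of_le_of_card_ge h1 (le_of_eq ?_)
          obtain ⟨g, rfl⟩ := htr E hE K hK
          have hgO : conjS g O = O := conjS_eq_self_iff.2 ((normalizer_eq_top_iff.2 hOn).ge (mem_top g))
          conv_rhs => rw [← hgO, ← Subgroup.map_sup, ← map_pResOf]
          exact (card_map_of_injective (MulAut.conj g).injective).symm
        exact (pResOf_mono le_sup_left).trans (h2.ge.trans (pResOf_le _)))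
      have hcomm : ∀ E ∈ 𝒦, ∀ K ∈ 𝒦, ¬ pResOf p E ≤ K ⊔ O →
          ⁅E.map f ⊓ K.map f, E.map f⁆ = ⊥ := by
        intro E hE K hK hA
        rcases strongly_dichotomy (hirr E hE) (inf_le_right : (K ⊔ O) ⊓ E ≤ E)
          (le_normalizer_inf' ((le_sSup hE).trans (le_sup_left.trans (hnorm K hK))) Subgroup.le_normalizer) with h | h
        · refine eq_bot_iff.2 (commutator_le.2 fun z hz w hw => ?_)
          obtain ⟨⟨e, he, h2⟩, ⟨n, hn, h1⟩⟩ := hz
          obtain ⟨e', he', rfl⟩ := hw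
          have h3 : n⁻¹ * e ∈ O := QuotientGroup.eq.1 (show f n = f e by rw [h1, h2])
          have heN : e ∈ K ⊔ O := by simpa using mul_mem (mem_sup_left (T := O) hn) (mem_sup_right (S := K) h3)
          rw [← h2, ← map_commutatorElement, ← hmapcore E hE]
          exact mem_map_of_mem f (h (commutator_mem_commutator ⟨heN, he⟩ he'))
        · exact absurd (h.trans inf_le_left) hA
      set W := E.map f ⊓ K.map f
      have hWc : ⁅W, E.map f⁆ = ⊥ := hcomm E hE K hK hA
      have hcop : (Nat.card ↥W).Coprime p := coprime_card_of_comm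
        (commutator_eq_bot_iff_le_centralizer.1 (eq_bot_iff.2 ((commutator_mono le_rfl inf_le_left).trans hWc.le)))
        (eq_bot_iff.2 ((pCoreOf_le_of_isSubnormal ((hsn E hE).inf (hsn K hK))).trans hO'.le))
      have h3 : E.map f ≤ centralizer (K.map f : Set (G ⧸ O)) := by
        refine hgen E hE _ fun e he hep => mem_centralizer_iff.2 fun t ht => ?_
        have hEf : f e ∈ E.map f := mem_map_of_mem f he
        have h1 : ⁅f e, t⁆ ∈ W :=
          ⟨le_normalizer_iff_commutator_le_left.1 ((map_mono (le_sSup hK)).trans (hnorm' E hE))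
            (commutator_mem_commutator hEf ht),
           le_normalizer_iff_commutator_le_right.1 ((map_mono (le_sSup hE)).trans (hnorm' K hK))
            (commutator_mem_commutator hEf ht)⟩
        obtain ⟨k, hk⟩ := hep
        exact (commute_of_commutator_mem hcop ⟨k, by rw [← map_pow, hk, map_one]⟩ h1
          (mem_centralizer_iff.1 (commutator_eq_bot_iff_le_centralizer.1 hWc h1) _ hEf)).eq.symm
      have h4 := commutator_eq_bot_iff_le_centralizer.2 h3
      rwa [← map_commutator, Subgroup.map_eq_bot_iff, QuotientGroup.ker_mk'] at h4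

end CfsgLib.LocalStructure
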