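import Cfsg.Agent.LocalStructure.MinimalOver
import Cfsg.Agent.LocalStructure.Cores

/-!
The L-Lemma for `T`-minimal groups.

Among the `p`-subgroups lying in two distinct conjugates of `M` choose one, `R`, containing as many
conjugates of `A` as possible, and let `W` be generated by them. Some conjugate of `A` outside `W`
normalises `W`; a minimal subgroup of `N(W)` containing that conjugate, `W` and `O_p(H)` and not
lying in the conjugate of `M` over it is the required subgroup.
-/

namespace CfsgLib.LocalStructure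

open Subgroup Cfsg
open scoped commutatorElement

variable {H : Type*} [Group H] [Finite H] {p : ℕ} [Fact p.Prime]

set_option linter.unusedSectionVars false

/-- The conjugates of `A` contained in `U`. -/
def conjsBelow (A U : Subgroup H) : Set (Subgroup H) := {X | (∃ h, conjS h A = X) ∧ X ≤ U}

theorem conjsBelow_mono (A : Subgroup H) {U V : Subgroup H} (h : U ≤ V) :
    conjsBelow A U ⊆ conjsBelow A V := fun _ hX => ⟨hX.1, hX.2.trans h⟩

theorem conjsBelow_conjS (A : Subgroup H) {U : Subgroup H} {X : Subgroup H} (g : H)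
    (hX : X ∈ conjsBelow A U) : conjS g X ∈ conjsBelow A (conjS g U) := by
  obtain ⟨h, rfl⟩ := hX.1
  exact ⟨⟨g * h, (conjS_conjS g h A).symm⟩, conjS_mono hX.2⟩

theorem ncard_conjsBelow_conjS (A U : Subgroup H) (g : H) :
    (conjsBelow A (conjS g U)).ncard = (conjsBelow A U).ncard := by
  have key : ∀ (g : H) (U : Subgroup H),
      (conjsBelow A U).ncard ≤ (conjsBelow A (conjS g U)).ncard := fun g U =>
    Set.ncard_le_ncard_of_injOn (conjS g) (fun X hX => conjsBelow_conjS A g hX)
      (fun X _ Y _ h => map_injective (MulAut.conj g).injective h) (Set.toFinite _)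
  refine le_antisymm ?_ (key g U)
  have := key g⁻¹ (conjS g U)
  rwa [conjS_conjS, inv_mul_cancel, conjS_one] at this

/-- An element moving every member of a set of subgroups of `A`-conjugates into that set
normalises the subgroup generated by the set. -/
theorem mem_normalizer_sSup_conjsBelow (A U : Subgroup H) {g : H}
    (hg : ∀ X ∈ conjsBelow A U, conjS g X ∈ conjsBelow A U) :
    g ∈ Subgroup.normalizer ((sSup (conjsBelow A U) : Subgroup H) : Set H) := by
  refine mem_normalizer_of_forall fun y hy => ?_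
  have : conjS g (sSup (conjsBelow A U)) ≤ sSup (conjsBelow A U) := by
    rw [conjS, map_le_iff_le_comap]
    exact sSup_le fun X hX => map_le_iff_le_comap.1 (le_sSup (hg X hX))
  exact this ⟨y, hy, rfl⟩

theorem le_normalizer_sSup_conjsBelow (A U : Subgroup H) :
    Subgroup.normalizer (U : Set H) ≤
      Subgroup.normalizer ((sSup (conjsBelow A U) : Subgroup H) : Set H) := fun g hg =>
  mem_normalizer_sSup_conjsBelow A U fun X hX => by
    have := conjsBelow_conjS A g hX
    rwa [show conjS g U = U from conj_map_eq_of_mem_normalizer hg] at this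

/-- A subgroup `U` of a finite `p`-group `Q` that is not normalising the set of conjugates gives a new
conjugate normalising it. -/
theorem exists_new_conjugate {A R Q : Subgroup H} (hQ : IsPGroup p Q) (hRQ : R ≤ Q)
    (hne : conjsBelow A Q ≠ conjsBelow A R) :
    ∃ X ∈ conjsBelow A Q, X ∉ conjsBelow A R ∧
      X ≤ Subgroup.normalizer ((sSup (conjsBelow A R) : Subgroup H) : Set H) := by
  set W : Subgroup H := sSup (conjsBelow A R) with hW
  by_contra hcon
  push Not at hcon
  set U := Q ⊓ Subgroup.normalizer (W : Set H) with hU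
  have hUR : conjsBelow A U = conjsBelow A R := by
    refine subset_antisymm (fun X hX => ?_) (conjsBelow_mono A (le_inf hRQ ?_))
    · by_contra hn
      exact hcon X ⟨hX.1, hX.2.trans inf_le_left⟩ hn (hX.2.trans inf_le_right)
    · exact Subgroup.le_normalizer.trans (le_normalizer_sSup_conjsBelow A R)
  have hlt : U.subgroupOf Q < ⊤ := lt_top_iff_ne_top.2 fun htop => hne (by
    have hQU : Q = U := le_antisymm (subgroupOf_eq_top.1 htop) inf_le_left
    rw [hQU]; exact hUR)
  have hnil : Group.IsNilpotent ↥Q := hQ.isNilpotent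
  obtain ⟨x, hx, hxU⟩ := SetLike.exists_of_lt
    (Group.normalizerCondition_of_isNilpotent (G := ↥Q) _ hlt)
  have hxn : (x : H) ∈ Subgroup.normalizer (U : Set H) := mem_normalizer_of_forall fun y hy =>
    (mem_normalizer_iff.1 hx ⟨y, hy.1⟩).1 hy
  refine hxU (show (x : H) ∈ U from ⟨x.2, ?_⟩)
  have := le_normalizer_sSup_conjsBelow A U hxn
  rwa [hUR] at this

/-- **The L-Lemma.** -/
theorem l_lemma (T : Sylow p H) (hmin : IsMinimalOver (T : Subgroup H)) {M : Subgroup H}
    (hM : IsCoatom M) (hTM : (T : Subgroup H) ≤ M) {A : Subgroup H} (hAT : A ≤ (T : Subgroup H))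
    (hA : ¬ A ≤ pCore p H) :
    ∃ L L₀ : Subgroup H, A ⊔ pCore p H ≤ L ∧ A ⊔ pCoreOf p L ≤ L₀ ∧ L₀ < L ∧
      (∀ X : Subgroup H, A ⊔ pCoreOf p L ≤ X → X < L → X ≤ L₀) ∧
      (∃ g : H, L₀ = L ⊓ conjS g M) ∧
      ∀ x ∈ L, x ∉ L₀ → A ⊔ conjS x A ⊔ pCoreOf p L = L := by
  classical
  -- every Sylow subgroup lies in exactly one conjugate of `M`
  have hsyl : ∀ {U : Subgroup H}, IsPGroup p U →
      ∃ a : H, U ≤ conjS a (T : Subgroup H) ∧ U ≤ conjS a M := by
    intro U hU
    obtain ⟨S, hS⟩ := hU.exists_le_sylow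
    obtain ⟨a, ha⟩ := MulAction.exists_smul_eq H T S
    have : U ≤ conjS a (T : Subgroup H) := by
      rw [← ha, Sylow.smul_def, Sylow.pointwise_smul_def] at hS
      exact hS
    exact ⟨a, this, this.trans (conjS_mono hTM)⟩
  have huni : ∀ a b : H, conjS a (T : Subgroup H) ≤ conjS b M → conjS a M = conjS b M := by
    intro a b h
    have : conjS (b⁻¹ * a) (T : Subgroup H) ≤ M := by
      have := conjS_mono (g := b⁻¹) h
      rwa [conjS_conjS, conjS_conjS, inv_mul_cancel, conjS_one] at this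
    rw [conjS_eq_conjS_iff, minimalOver_normalizer hM hTM hmin]
    exact minimalOver_conj_mem hM hTM hmin this
  have hPM : ∀ b : H, pCore p H ≤ conjS b M := by
    intro b
    haveI := pCore_normal (p := p) (G := H)
    have := conjS_mono (g := b) ((pCore_le_sylow T).trans hTM)
    rwa [show conjS b (pCore p H) = pCore p H from conjS_eq_self_iff.2
      (by rw [normalizer_eq_top_iff.2 inferInstance]; trivial)] at this
  -- choose `R`
  let Good : Subgroup H → Prop := fun R => IsPGroup p R ∧
    ∃ b c : H, conjS b M ≠ conjS c M ∧ R ≤ conjS b M ∧ R ≤ conjS c M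
  have hgood : ∃ R, Good R := by
    have hnn := minimalOver_not_normal hM hTM hmin
    obtain ⟨b, hb⟩ : ∃ b : H, b ∉ Subgroup.normalizer (M : Set H) := by
      by_contra hcon
      push Not at hcon
      exact hnn (normalizer_eq_top_iff.1 (eq_top_iff.2 fun x _ => hcon x))
    exact ⟨⊥, IsPGroup.of_bot, b, 1, fun h => hb (by simpa [conjS_eq_conjS_iff] using h), bot_le,
      bot_le⟩
  haveI : Nonempty {R : Subgroup H // Good R} := let ⟨R, hR⟩ := hgood; ⟨⟨R, hR⟩⟩
  obtain ⟨⟨R₀, hR₀p, b₀, c₀, hne₀, hb₀, hc₀⟩, hmax₀⟩ :=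
    Finite.exists_max fun R : {R : Subgroup H // Good R} => (conjsBelow A R.1).ncard
  have hmax : ∀ R, Good R → (conjsBelow A R).ncard ≤ (conjsBelow A R₀).ncard := fun R hR =>
    hmax₀ ⟨R, hR⟩
  -- enlarge by `O_p(H)`
  set R₁ := R₀ ⊔ pCore p H with hR₁
  have hR₁p : IsPGroup p R₁ := by
    haveI := pCore_normal (p := p) (G := H)
    exact IsPGroup.to_sup_of_normal_right hR₀p pCore_isPGroup
  have hR₁b : R₁ ≤ conjS b₀ M := sup_le hb₀ (hPM _)
  have hR₁c : R₁ ≤ conjS c₀ M := sup_le hc₀ (hPM _)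
  have hcard₁ : (conjsBelow A R₀).ncard ≤ (conjsBelow A R₁).ncard :=
    Set.ncard_le_ncard (conjsBelow_mono A le_sup_left) (Set.toFinite _)
  -- Sylow subgroups of the two conjugates over `R₁`
  have hover : ∀ b : H, R₁ ≤ conjS b M →
      ∃ a : H, R₁ ≤ conjS a (T : Subgroup H) ∧ conjS a M = conjS b M := by
    intro b hb
    have hTb : conjS b (T : Subgroup H) ≤ conjS b M := conjS_mono hTM
    obtain ⟨k, hk, S, hS, hSM, hRS, hTS⟩ := exists_sylow_conj hR₁p hb (T.2.map _) hTb
    rw [conjS_conjS] at hTS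
    obtain ⟨a, ha, -⟩ := hsyl hS
    have hTa : conjS (k * b) (T : Subgroup H) = conjS a (T : Subgroup H) :=
      Subgroup.eq_of_le_of_card_ge (hTS.trans ha) (by
        rw [card_map_of_injective (MulAut.conj a).injective,
          card_map_of_injective (MulAut.conj (k * b)).injective])
    exact ⟨a, hRS.trans ha, huni a b (hTa ▸ (hTS.trans hSM))⟩
  obtain ⟨a₀, hRa₀, ha₀⟩ := hover b₀ hR₁b
  obtain ⟨d₀, hRd₀, hd₀⟩ := hover c₀ hR₁c
  -- the conjugates in `R₁` are not all those of a Sylow subgroup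
  have hnefull : ∀ a d : H, R₁ ≤ conjS a (T : Subgroup H) → R₁ ≤ conjS d (T : Subgroup H) →
      conjS a M ≠ conjS d M →
      conjsBelow A (conjS a (T : Subgroup H)) ≠ conjsBelow A R₁ := by
    intro a d hRa hRd had heq
    have heqd : conjsBelow A (conjS d (T : Subgroup H)) = conjsBelow A R₁ :=
      (Set.eq_of_subset_of_ncard_le (conjsBelow_mono A hRd)
        (by rw [ncard_conjsBelow_conjS, ← heq, ncard_conjsBelow_conjS]) (Set.toFinite _)).symm
    set W : Subgroup H := sSup (conjsBelow A R₁) with hW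
    have hWR : W ≤ R₁ := sSup_le fun X hX => hX.2
    have hNa : conjS a (T : Subgroup H) ≤ Subgroup.normalizer (W : Set H) := by
      have := le_normalizer_sSup_conjsBelow A (conjS a (T : Subgroup H))
      rw [heq] at this
      exact Subgroup.le_normalizer.trans this
    have hNd : conjS d (T : Subgroup H) ≤ Subgroup.normalizer (W : Set H) := by
      have := le_normalizer_sSup_conjsBelow A (conjS d (T : Subgroup H))
      rw [heqd] at this
      exact Subgroup.le_normalizer.trans this
    by_cases htop : Subgroup.normalizer (W : Set H) = ⊤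
    · haveI : W.Normal := normalizer_eq_top_iff.1 htop
      have hWP : W ≤ pCore p H := le_pCore (hR₁p.to_le hWR)
      have hAa : conjS a A ∈ conjsBelow A R₁ := heq ▸ ⟨⟨a, rfl⟩, conjS_mono hAT⟩
      refine hA fun x hx => ?_
      have h1 : a * x * a⁻¹ ∈ pCore p H :=
        hWP ((le_sSup hAa : conjS a A ≤ W) ⟨x, hx, rfl⟩)
      haveI := pCore_normal (p := p) (G := H)
      simpa [mul_assoc] using (inferInstance : (pCore p H).Normal).conj_mem _ h1 a⁻¹
    · obtain h | ⟨C, hC, hNC⟩ := eq_top_or_exists_le_coatom (Subgroup.normalizer (W : Set H))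
      · exact htop h
      refine had ?_
      have key : ∀ a : H, conjS a (T : Subgroup H) ≤ C → conjS a M = C := by
        intro a haC
        have h1 : (T : Subgroup H) ≤ conjS a⁻¹ C := by
          have := conjS_mono (g := a⁻¹) haC
          rwa [conjS_conjS, inv_mul_cancel, conjS_one] at this
        have h2 : conjS a⁻¹ C ≠ ⊤ := fun e => hC.1 (by
          have := congrArg (conjS a) e
          rw [conjS_conjS, mul_inv_cancel, conjS_one] at this
          rw [this]
          exact map_top_of_surjective _ (MulAut.conj a).surjective)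
        have h3 := conjS_mono (g := a) (minimalOver_le hM hTM hmin h1 h2)
        rw [conjS_conjS, mul_inv_cancel, conjS_one] at h3
        rcases eq_or_lt_of_le h3 with e | e
        · exact e.symm
        · exfalso
          have h4 := hC.2 _ e
          have := congrArg (conjS a⁻¹) h4
          rw [conjS_conjS, inv_mul_cancel, conjS_one] at this
          exact hM.1 (this.trans (map_top_of_surjective _ (MulAut.conj a⁻¹).surjective))
      rw [key a (hNa.trans hNC), key d (hNd.trans hNC)]
  obtain ⟨X₁, hX₁, hX₁n, hX₁N⟩ := exists_new_conjugate (p := p) (T.2.map _) hRa₀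
    (hnefull a₀ d₀ hRa₀ hRd₀ (by rw [ha₀, hd₀]; exact hne₀))
  obtain ⟨X₂, hX₂, hX₂n, hX₂N⟩ := exists_new_conjugate (p := p) (T.2.map _) hRd₀
    (hnefull d₀ a₀ hRd₀ hRa₀ (by rw [ha₀, hd₀]; exact hne₀.symm))
  obtain ⟨k, hk⟩ := hX₁.1
  -- move `X₁` to `A`
  set e := k⁻¹ with he
  set R := conjS e R₁ with hRdef
  set W : Subgroup H := sSup (conjsBelow A R) with hW
  set M₁ := conjS (e * a₀) M with hM₁
  set M₂ := conjS (e * d₀) M with hM₂
  have hne : M₁ ≠ M₂ := by
    intro h
    have := congrArg (conjS e⁻¹) h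
    rw [hM₁, hM₂, conjS_conjS, conjS_conjS, inv_mul_cancel_left, inv_mul_cancel_left, ha₀, hd₀]
      at this
    exact hne₀ this
  have hRp : IsPGroup p R := hR₁p.map _
  have hRn : (conjsBelow A R₀).ncard ≤ (conjsBelow A R).ncard := by
    rw [hRdef, ncard_conjsBelow_conjS]; exact hcard₁
  -- uniqueness for `p`-groups with more conjugates
  have hK : ∀ {U X : Subgroup H}, IsPGroup p U → W ≤ U → (∃ h, conjS h A = X) → X ≤ U →
      X ∉ conjsBelow A R → ∀ b c : H, U ≤ conjS b M → U ≤ conjS c M → conjS b M = conjS c M := by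
    intro U X hU hWU hXc hXU hXn b c hb hc
    by_contra hbc
    have hsub : conjsBelow A R ⊂ conjsBelow A U := by
      have hs : conjsBelow A R ⊆ conjsBelow A U := fun Y hY =>
        ⟨hY.1, (le_sSup hY : Y ≤ W).trans hWU⟩
      exact (Set.ssubset_iff_of_subset hs).2 ⟨X, ⟨hXc, hXU⟩, hXn⟩
    exact absurd (hmax U ⟨hU, b, c, hbc, hb, hc⟩)
      (not_le.2 (hRn.trans_lt (Set.ncard_lt_ncard hsub (Set.toFinite _))))
  have hNWe : Subgroup.normalizer (W : Set H) =
      conjS e (Subgroup.normalizer ((sSup (conjsBelow A R₁) : Subgroup H) : Set H)) := by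
    rw [← normalizer_conjS]
    congr 2
    refine le_antisymm (sSup_le fun Y hY => ?_) ?_
    · have := conjsBelow_conjS A e⁻¹ hY
      rw [hRdef, conjS_conjS, inv_mul_cancel, conjS_one] at this
      have h2 := conjS_mono (g := e) (le_sSup this)
      rwa [conjS_conjS, mul_inv_cancel, conjS_one] at h2
    · rw [conjS, map_le_iff_le_comap]
      exact sSup_le fun Y hY => map_le_iff_le_comap.1 (le_sSup (conjsBelow_conjS A e hY))
  have hkA : conjS e X₁ = A := by rw [← hk, conjS_conjS, inv_mul_cancel, conjS_one]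
  have hAn : A ∉ conjsBelow A R := fun h => hX₁n (by
    have := conjsBelow_conjS A e⁻¹ h
    rw [hRdef, conjS_conjS, inv_mul_cancel, conjS_one] at this
    rwa [show conjS e⁻¹ A = X₁ from by rw [he, inv_inv]; exact hk] at this)
  have hAN : A ≤ Subgroup.normalizer (W : Set H) := by
    rw [hNWe]; exact hkA.ge.trans (conjS_mono hX₁N)
  set Q₁ := conjS (e * a₀) (T : Subgroup H) with hQ₁
  set Q₂ := conjS (e * d₀) (T : Subgroup H) with hQ₂
  have hRQ₁ : R ≤ Q₁ := by rw [hQ₁, ← conjS_conjS]; exact conjS_mono hRa₀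
  have hRQ₂ : R ≤ Q₂ := by rw [hQ₂, ← conjS_conjS]; exact conjS_mono hRd₀
  have hAQ₁ : A ≤ Q₁ := by
    rw [hQ₁, ← conjS_conjS]; exact hkA.ge.trans (conjS_mono hX₁.2)
  have hWR : W ≤ R := sSup_le fun X hX => hX.2
  have hPR : pCore p H ≤ R := by
    haveI := pCore_normal (p := p) (G := H)
    have hPe : conjS e (pCore p H) = pCore p H := conjS_eq_self_iff.2
      (by rw [normalizer_eq_top_iff.2 inferInstance]; trivial)
    exact hPe.ge.trans (conjS_mono le_sup_right)
  have hPN : pCore p H ≤ Subgroup.normalizer (W : Set H) :=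
    hPR.trans (Subgroup.le_normalizer.trans (le_normalizer_sSup_conjsBelow A R))
  have hWAP : W ⊔ A ⊔ pCore p H ≤ Q₁ :=
    sup_le (sup_le (hWR.trans hRQ₁) hAQ₁) (hPR.trans hRQ₁)
  have hQM₁ : Q₁ ≤ M₁ := conjS_mono hTM
  have hQM₂ : Q₂ ≤ M₂ := conjS_mono hTM
  -- `N(W)` does not lie in `M₁`
  set N := Subgroup.normalizer (W : Set H) with hN
  have hNM : ¬ N ≤ M₁ := by
    intro hle
    set X := conjS e X₂
    have hXN : X ≤ N := by rw [hNWe]; exact conjS_mono hX₂N
    have hXQ : X ≤ Q₂ := by rw [hQ₂, ← conjS_conjS]; exact conjS_mono hX₂.2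
    have hXn : X ∉ conjsBelow A R := fun h => hX₂n (by
      have := conjsBelow_conjS A e⁻¹ h
      rwa [hRdef, conjS_conjS, inv_mul_cancel, conjS_one, conjS_conjS, inv_mul_cancel,
        conjS_one] at this)
    refine hne (hK (U := Q₂ ⊓ N) (T.2.map _ |>.to_le inf_le_left)
      (le_inf (hWR.trans hRQ₂) Subgroup.le_normalizer) ?_ (le_inf hXQ hXN) hXn (e * a₀) (e * d₀)
      (inf_le_right.trans hle) (inf_le_left.trans hQM₂))
    obtain ⟨h, hh⟩ := hX₂.1
    exact ⟨e * h, by rw [← conjS_conjS, hh]⟩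
  -- the minimal subgroup
  obtain ⟨L, ⟨hBL, hLN, hLM⟩, hLmin⟩ := wellFounded_lt.has_min
    {X : Subgroup H | W ⊔ A ⊔ pCore p H ≤ X ∧ X ≤ N ∧ ¬ X ≤ M₁}
    ⟨N, sup_le (sup_le Subgroup.le_normalizer hAN) hPN, le_rfl, hNM⟩
  have hWL : W ≤ L := (le_sup_left.trans le_sup_left).trans hBL
  have hAL : A ≤ L := (le_sup_right.trans le_sup_left).trans hBL
  have hPL : pCore p H ≤ L := le_sup_right.trans hBL
  set D := pCoreOf p L with hD
  have hWD : W ≤ D :=
    CfsgLib.LocalStructure.le_pCoreOf hWL hLN (hRp.to_le hWR)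
  have hPD : pCore p H ≤ D :=
    CfsgLib.LocalStructure.le_pCoreOf hPL
      (by rw [normalizer_eq_top_iff.2 (pCore_normal (p := p) (G := H))]; exact le_top)
      pCore_isPGroup
  have hLD : L ≤ Subgroup.normalizer (D : Set H) := le_normalizer_pCoreOf L
  have hADp : IsPGroup p ↥(A ⊔ D) :=
    isPGroup_sup (T.2.to_le hAT) (pCoreOf_isPGroup L) (hAL.trans hLD)
  have hADM : A ⊔ D ≤ M₁ := by
    obtain ⟨a, -, haM⟩ := hsyl hADp
    -- `W ⊔ A` lies only in `M₁`
    have h1 : conjS a M = M₁ := hK (U := W ⊔ A)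
      (hADp.to_le (sup_le (hWD.trans le_sup_right) le_sup_left)) le_sup_left
      ⟨1, conjS_one A⟩ le_sup_right hAn a (e * a₀)
      ((sup_le (hWD.trans le_sup_right) le_sup_left).trans haM)
      ((le_sup_left.trans hWAP).trans hQM₁)
    exact h1 ▸ haM
  have hprop : ∀ X : Subgroup H, A ⊔ D ≤ X → X < L → X ≤ L ⊓ M₁ := by
    intro X hX hXL
    refine le_inf hXL.le ?_
    by_contra hn
    exact hLmin X ⟨sup_le (sup_le ((hWD.trans le_sup_right).trans hX) (le_sup_left.trans hX))
      ((hPD.trans le_sup_right).trans hX), hXL.le.trans hLN, hn⟩ hXL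
  refine ⟨L, L ⊓ M₁, sup_le hAL hPL, le_inf (sup_le hAL (pCoreOf_le L)) hADM, ?_, hprop,
    ⟨e * a₀, rfl⟩, fun x hxL hx => ?_⟩
  · exact lt_of_le_of_ne inf_le_left fun h => hLM (inf_eq_left.1 h)
  by_contra hne'
  have hDL : D ≤ L := pCoreOf_le L
  have hle : A ⊔ conjS x A ⊔ D ≤ L := by
    refine sup_le (sup_le hAL ?_) hDL
    exact (conjS_mono hAL).trans (conjS_eq_self_iff.2 (Subgroup.le_normalizer hxL)).le
  have hM1' := (hprop _ (sup_le (le_sup_left.trans le_sup_left) le_sup_right)
    (lt_of_le_of_ne hle hne')).trans inf_le_right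
  have hxD : conjS x D = D := conjS_eq_self_iff.2 (hLD hxL)
  have hU : IsPGroup p ↥(conjS x A ⊔ D) := by
    have := hADp.map (MulAut.conj x).toMonoidHom
    rwa [Subgroup.map_sup, show D.map (MulAut.conj x).toMonoidHom = D from hxD] at this
  have hxA : conjS x A ∉ conjsBelow A R := fun h => by
    have hxAW : conjS x A ≤ W := le_sSup h
    have : A ≤ W := by
      have h2 := conjS_mono (g := x⁻¹) hxAW
      rw [conjS_conjS, inv_mul_cancel, conjS_one] at h2
      exact h2.trans (conjS_eq_self_iff.2 (inv_mem (hLN hxL))).le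
    exact hAn ⟨⟨1, conjS_one A⟩, this.trans hWR⟩
  have hxM : conjS x A ⊔ D ≤ conjS (x * (e * a₀)) M := by
    have := conjS_mono (g := x) hADM
    rwa [hM₁, conjS_conjS, show conjS x (A ⊔ D) = conjS x A ⊔ D from by
      rw [conjS, Subgroup.map_sup, show D.map (MulAut.conj x).toMonoidHom = D from hxD]] at this
  have heq := hK hU (hWD.trans le_sup_right) ⟨x, rfl⟩ le_sup_left hxA (x * (e * a₀)) (e * a₀) hxM
    ((sup_le (le_sup_right.trans le_sup_left) le_sup_right).trans hM1')
  refine hx ⟨hxL, ?_⟩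
  rw [← conjS_conjS] at heq
  have := mem_normalizer_of_conjS_eq heq
  rwa [normalizer_conjS, minimalOver_normalizer hM hTM hmin] at this

end CfsgLib.LocalStructure
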