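import Cfsg.Agent.LocalStructure.WeaklyClosed
import Cfsg.Agent.CharPLocal.Basic

/-!
# Large subgroups (the Q!-property)
-/

namespace CfsgLib.LocalStructure

open Subgroup Cfsg
open scoped commutatorElement

variable {G : Type*} [Group G] [Finite G] {p : ℕ} [Fact p.Prime]

set_option linter.unusedSectionVars false

theorem large_normalizer_le {Q U : Subgroup G} (hL : IsLarge Q) (hU : U ≤ centralizer (Q : Set G))
    (hU1 : U ≠ ⊥) : Subgroup.normalizer (U : Set G) ≤ Subgroup.normalizer (Q : Set G) :=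
  hL.2 U hU hU1

theorem centralizer_le_normalizer_of_mem {Q : Subgroup G} (hL : IsLarge Q) {u : G}
    (hu : u ∈ centralizer (Q : Set G)) (hu1 : u ≠ 1) :
    centralizer ({u} : Set G) ≤ Subgroup.normalizer (Q : Set G) := by
  have h := large_normalizer_le hL (U := zpowers u) (zpowers_le.2 hu) (zpowers_ne_bot.2 hu1)
  refine le_trans ?_ ((centralizer_le_normalizer _).trans h)
  intro x hx
  rw [mem_centralizer_iff]
  rintro _ ⟨i, rfl⟩
  exact ((show Commute u x from mem_centralizer_singleton_iff.1 hx |>.symm).zpow_left i).eq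

theorem large_wc {Q : Subgroup G} (hQp : IsPGroup p Q) (hQ1 : Q ≠ ⊥) (hL : IsLarge Q) :
    IsWeaklyClosedSubgroup p Q := by
  refine wc_of_normalizer hQp fun R hR hQR => ?_
  have hRne : R ≠ ⊥ := fun h => hQ1 (le_bot_iff.1 (h ▸ hQR))
  obtain ⟨w, hw, hw1, hwc⟩ := exists_fixed_of_isPGroup hR hR hRne Subgroup.le_normalizer
  set U := R ⊓ centralizer (R : Set G)
  have hU : U ≤ centralizer (Q : Set G) := inf_le_right.trans (centralizer_le hQR)
  refine le_trans ?_ (large_normalizer_le hL hU fun h => hw1 (mem_bot.1 (h ▸ ⟨hw, hwc⟩)))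
  exact le_normalizer_inf' le_rfl (normalizer_le_normalizer_centralizer R)

theorem conjS_ne_bot {Q : Subgroup G} (g : G) (h : Q ≠ ⊥) : conjS g Q ≠ ⊥ := fun e =>
  h ((map_eq_bot_iff_of_injective Q (MulAut.conj g).injective).1 e)

theorem isLarge_conjS {Q : Subgroup G} (g : G) (hL : IsLarge Q) : IsLarge (conjS g Q) := by
  refine ⟨(centralizer_conjS g Q).le.trans (conjS_mono hL.1), fun U hU hU1 => ?_⟩
  have h1 : conjS g⁻¹ U ≤ centralizer (Q : Set G) := by
    have := conjS_mono (g := g⁻¹) (hU.trans (centralizer_conjS g Q).le)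
    rwa [conjS_conjS, inv_mul_cancel, conjS_one] at this
  have h2 := conjS_mono (g := g) (large_normalizer_le hL h1 (conjS_ne_bot g⁻¹ hU1))
  rwa [← normalizer_conjS, ← normalizer_conjS, conjS_conjS, mul_inv_cancel, conjS_one] at h2

/-- If `Q ≤ L` normalizes the nontrivial `p`-group `Y` then `C(Y)` normalizes `Q`. -/
theorem centralizer_le_normalizer_large {Q Y : Subgroup G} (hQp : IsPGroup p Q) (hL : IsLarge Q)
    (hYp : IsPGroup p Y) (hY1 : Y ≠ ⊥) (hQY : Q ≤ Subgroup.normalizer (Y : Set G)) :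
    centralizer (Y : Set G) ≤ Subgroup.normalizer (Q : Set G) := by
  obtain ⟨u, hu, hu1, huc⟩ := exists_fixed_of_isPGroup hQp hYp hY1 hQY
  exact (centralizer_le (Set.singleton_subset_iff.2 hu)).trans
    (centralizer_le_normalizer_of_mem hL huc hu1)

theorem isCharP_centralizer_singleton {Q : Subgroup G} (hQp : IsPGroup p Q) (hL : IsLarge Q)
    {u : G} (hu : u ∈ centralizer (Q : Set G)) (hu1 : u ≠ 1) :
    CfsgLib.CharPLocal.IsCharP p (centralizer ({u} : Set G)) := by
  have hQ : Q ≤ centralizer ({u} : Set G) := fun q hq =>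
    mem_centralizer_singleton_iff.2 (mem_centralizer_iff.1 hu q hq)
  have hQle : Q ≤ pCoreOf p (centralizer ({u} : Set G)) :=
    le_pCoreOf hQ (centralizer_le_normalizer_of_mem hL hu hu1) hQp
  exact inf_le_right.trans ((centralizer_le hQle).trans (hL.1.trans hQle))

/-- `Q` weakly closed with `C(Q) ≤ Q ≤ L`, `Y = O_p(L)` and `C(Y)` of characteristic `p`:
then `[Q, C(Y)] ≤ Q ∩ Y`, `C(Y)` is a `p`-group and `L` has characteristic `p`. -/
theorem wc_centralizer_pCoreOf {Q L : Subgroup G} (hQp : IsPGroup p Q)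
    (hwc : IsWeaklyClosedSubgroup p Q) (hCQ : centralizer (Q : Set G) ≤ Q) (hQL : Q ≤ L)
    (hE : CfsgLib.CharPLocal.IsCharP p (centralizer (pCoreOf p L : Set G))) :
    ⁅Q, centralizer (pCoreOf p L : Set G)⁆ ≤ Q ⊓ pCoreOf p L ∧
      IsPGroup p ↥(centralizer (pCoreOf p L : Set G)) ∧
      L ⊓ centralizer (pCoreOf p L : Set G) ≤ pCoreOf p L := by
  set Y := pCoreOf p L
  set E := centralizer (Y : Set G)
  set W := pCoreOf p E
  have hWp : IsPGroup p W := pCoreOf_isPGroup E
  have hLE : L ≤ Subgroup.normalizer (E : Set G) :=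
    (le_normalizer_pCoreOf L).trans (normalizer_le_normalizer_centralizer Y)
  have hQE : Q ≤ Subgroup.normalizer (E : Set G) := hQL.trans hLE
  have hLW : L ≤ Subgroup.normalizer (W : Set G) := hLE.trans (normalizer_le_normalizer_pCoreOf E)
  have hWL : W ⊓ L ≤ Y := le_pCoreOf inf_le_right
    (le_normalizer_inf' hLW Subgroup.le_normalizer) hWp.to_inf_left
  have hQW : IsPGroup p ↥(Q ⊔ W) := isPGroup_sup hQp hWp (hQL.trans hLW)
  have hWQ : W ≤ Subgroup.normalizer (Q : Set G) :=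
    le_sup_right.trans (wc_le_normalizer hwc hQW le_sup_left)
  have hEW : E ≤ Subgroup.normalizer (W : Set G) := le_normalizer_pCoreOf E
  set Z := Y ⊓ W
  have hEZ : E ≤ Subgroup.normalizer (Z : Set G) :=
    le_normalizer_inf' (centralizer_le_normalizer (Y : Set G)) hEW
  have hQZ : Q ≤ Subgroup.normalizer (Z : Set G) :=
    le_normalizer_inf' (hQL.trans (le_normalizer_pCoreOf L)) (hQL.trans hLW)
  let K : Subgroup G :=
    { carrier := {g | g ∈ Subgroup.normalizer (Z : Set G) ∧ g ∈ Subgroup.normalizer (W : Set G) ∧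
        ∀ w ∈ W, ⁅g, w⁆ ∈ Z}
      one_mem' := ⟨one_mem _, one_mem _, fun w _ => by simp [Z.one_mem]⟩
      mul_mem' := fun {a b} ha hb => ⟨mul_mem ha.1 hb.1, mul_mem ha.2.1 hb.2.1, fun w hw => by
        rw [commutatorElement_mul_left_eq_conj_mul]
        exact Z.mul_mem ((mem_normalizer_iff.1 ha.1 _).1 (hb.2.2 w hw)) (ha.2.2 w hw)⟩
      inv_mem' := fun {a} ha => ⟨inv_mem ha.1, inv_mem ha.2.1, fun w hw => by
        rw [commutatorElement_inv_left, ← commutatorElement_inv]
        simpa using (mem_normalizer_iff.1 (inv_mem ha.1) _).1 (Z.inv_mem (ha.2.2 w hw))⟩ }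
  have hQK : Q ≤ K := fun q hq => ⟨hQZ hq, hQL.trans hLW hq, fun w hw => by
    have h1 : ⁅q, w⁆ ∈ W := by
      rw [commutatorElement_def]
      exact W.mul_mem ((mem_normalizer_iff.1 (hLW (hQL hq)) w).1 hw) (W.inv_mem hw)
    have h2 : ⁅q, w⁆ ∈ Q := by
      rw [commutatorElement_def, mul_assoc q w, mul_assoc q]
      exact Q.mul_mem hq ((mem_normalizer_iff.1 (hWQ hw) _).1 (Q.inv_mem hq))
    exact ⟨hWL ⟨h1, hQL h2⟩, h1⟩⟩
  have hEK : ∀ e ∈ E, ∀ m ∈ K, e * m * e⁻¹ ∈ K := fun e he m hm =>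
    ⟨mul_mem (mul_mem (hEZ he) hm.1) (inv_mem (hEZ he)),
     mul_mem (mul_mem (hEW he) hm.2.1) (inv_mem (hEW he)), fun w hw => by
      have hw' : e⁻¹ * w * e ∈ W := by
        simpa using (mem_normalizer_iff.1 (hEW (E.inv_mem he)) w).1 hw
      have := (mem_normalizer_iff.1 (hEZ he) _).1 (hm.2.2 _ hw')
      rw [conjugate_commutatorElement] at this
      simpa [mul_assoc] using this⟩
  set X := ⁅Q, E⁆
  have hXK : X ≤ K := commutator_le.2 fun q hq e he => by
    rw [commutatorElement_def, mul_assoc q e, mul_assoc q]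
    exact K.mul_mem (hQK hq) (hEK e he _ (K.inv_mem (hQK hq)))
  have hXE : X ≤ E := le_normalizer_iff_commutator_le_right.1 hQE
  have hXp : IsPGroup p X := isPGroup_of_coprime_eq_one fun x hx hc =>
    hE.eq_one (hXE hx) (mem_centralizer_of_stab (hWp.to_le inf_le_right) hc
      (centralizer_le (show (Z : Set G) ⊆ Y from (inf_le_left : Z ≤ Y)) (hXE hx))
      (hXK hx).2.2) hc
  have hXW : X ≤ W := le_pCoreOf hXE (normalizer_commutator_ge_right Q E) hXp
  have hER : E ≤ Subgroup.normalizer ((Q ⊔ W : Subgroup G) : Set G) := by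
    intro e he
    refine mem_normalizer_of_forall fun y hy => ?_
    obtain ⟨q, hq, w, hw, rfl⟩ := exists_mul_of_mem_sup (hQL.trans hLW) hy
    have e1 : e * (q * w) * e⁻¹ = ⁅e, q⁆ * q * (e * w * e⁻¹) := by
      rw [commutatorElement_def]; group
    rw [e1]
    refine mul_mem (mul_mem (mem_sup_right (hXW ?_)) (mem_sup_left hq))
      (mem_sup_right ((mem_normalizer_iff.1 (hEW he) w).1 hw))
    rw [show X = ⁅E, Q⁆ from commutator_comm Q E]
    exact commutator_mem_commutator he hq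
  have hEQ : E ≤ Subgroup.normalizer (Q : Set G) :=
    hER.trans (wc_normalizer_le hwc hQW le_sup_left)
  have h1 : X ≤ Q ⊓ Y := fun x hx => by
    have hxQ : x ∈ Q := le_normalizer_iff_commutator_le_left.1 hEQ hx
    exact ⟨hxQ, hWL ⟨hXW hx, hQL hxQ⟩⟩
  have hEp : IsPGroup p E := isPGroup_of_coprime_eq_one fun x hx hc => by
    refine eq_one_of_coprime_of_mem hQp (hCQ ?_) hc
    refine mem_centralizer_of_stab (hQp.to_inf_left (K := Y)) hc
      (centralizer_le (show ((Q ⊓ Y : Subgroup G) : Set G) ⊆ Y from (inf_le_right : Q ⊓ Y ≤ Y)) hx)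
      fun q hq => ?_
    rw [← commutatorElement_inv]
    exact inv_mem (h1 (commutator_mem_commutator hq hx))
  exact ⟨h1, hEp, le_pCoreOf inf_le_left (le_normalizer_inf' Subgroup.le_normalizer hLE)
    hEp.to_inf_right⟩

/-- The same for a large subgroup and `O_p(L) ≠ 1`. -/
theorem large_centralizer_pCoreOf {Q L : Subgroup G} (hQp : IsPGroup p Q) (hQ1 : Q ≠ ⊥)
    (hL : IsLarge Q) (hQL : Q ≤ L) (hY : pCoreOf p L ≠ ⊥) :
    IsPGroup p ↥(centralizer (pCoreOf p L : Set G)) ∧
      L ⊓ centralizer (pCoreOf p L : Set G) ≤ pCoreOf p L := by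
  obtain ⟨u, hu, hu1, huc⟩ := exists_fixed_of_isPGroup hQp (pCoreOf_isPGroup L) hY
    (hQL.trans (le_normalizer_pCoreOf L))
  exact (wc_centralizer_pCoreOf hQp (large_wc hQp hQ1 hL) hL.1 hQL
    (CfsgLib.CharPLocal.isCharP_centralizer_of_mem (isCharP_centralizer_singleton hQp hL huc hu1)
      _ _ le_rfl (pCoreOf_isPGroup L) hu)).2

/-- For a subgroup containing a Sylow subgroup, `C_G(O_p(R)) ≤ O_p(R)`. -/
theorem large_centralizer_parabolic {Q R : Subgroup G} (hQp : IsPGroup p Q) (hQ1 : Q ≠ ⊥)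
    (hL : IsLarge Q) (hR : IsParabolic p R) (hY : pCoreOf p R ≠ ⊥) :
    centralizer (pCoreOf p R : Set G) ≤ pCoreOf p R := by
  obtain ⟨T, hT⟩ := hR
  obtain ⟨S, hS⟩ := hQp.exists_le_sylow
  obtain ⟨g, hg⟩ := MulAction.exists_smul_eq G S T
  have hgQ : conjS g Q ≤ (T : Subgroup G) := by
    rw [← hg, Sylow.smul_def, Sylow.pointwise_smul_def]; exact map_mono hS
  obtain ⟨h1, h2⟩ := large_centralizer_pCoreOf (Q := conjS g Q) (hQp.map _) (conjS_ne_bot g hQ1)
    (isLarge_conjS g hL) (hgQ.trans hT) hY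
  have hTn : (T : Subgroup G) ≤ Subgroup.normalizer (centralizer (pCoreOf p R : Set G) : Set G) :=
    hT.trans ((le_normalizer_pCoreOf R).trans (normalizer_le_normalizer_centralizer _))
  have := T.3 (isPGroup_sup T.2 h1 hTn) le_sup_left
  exact fun x hx => h2 ⟨hT (this.le (mem_sup_right hx)), hx⟩

end CfsgLib.LocalStructure
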