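import Cfsg.Agent.LocalStructure.WeaklyClosed

/-!
# Y-minimal groups: structure of the unique maximal subgroup over Y
-/

namespace CfsgLib.LocalStructure

open Subgroup Cfsg
open scoped commutatorElement

variable {G : Type*} [Group G] [Finite G] {p : ℕ} [Fact p.Prime]

set_option linter.unusedSectionVars false

theorem minimalOver_le {Y L₀ : Subgroup G} (hL₀ : IsCoatom L₀) (hY : Y ≤ L₀)
    (hmin : IsMinimalOver Y) {K : Subgroup G} (hYK : Y ≤ K) (hK : K ≠ ⊤) : K ≤ L₀ := by
  obtain h | ⟨M, hM, hKM⟩ := eq_top_or_exists_le_coatom K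
  · exact absurd h hK
  · exact hmin.2.unique ⟨hM, hYK.trans hKM⟩ ⟨hL₀, hY⟩ ▸ hKM

theorem minimalOver_not_normal {Y L₀ : Subgroup G} (hL₀ : IsCoatom L₀) (hY : Y ≤ L₀)
    (hmin : IsMinimalOver Y) : ¬ L₀.Normal := fun h =>
  hL₀.1 (eq_top_iff.2 (hmin.1.ge.trans (normalClosure_le_normal hY)))

theorem minimalOver_normalizer {Y L₀ : Subgroup G} (hL₀ : IsCoatom L₀) (hY : Y ≤ L₀)
    (hmin : IsMinimalOver Y) : Subgroup.normalizer (L₀ : Set G) = L₀ := by
  refine le_antisymm ?_ Subgroup.le_normalizer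
  by_contra h
  exact minimalOver_not_normal hL₀ hY hmin
    (normalizer_eq_top_iff.1 (hL₀.2 _ (lt_of_le_not_ge Subgroup.le_normalizer h)))

theorem minimalOver_conj_mem {Y L₀ : Subgroup G} (hL₀ : IsCoatom L₀) (hY : Y ≤ L₀)
    (hmin : IsMinimalOver Y) {g : G} (h : conjS g Y ≤ L₀) : g ∈ L₀ := by
  have h1 : Y ≤ conjS g⁻¹ L₀ := by
    have := conjS_mono (g := g⁻¹) h
    rwa [conjS_conjS, inv_mul_cancel, conjS_one] at this
  have h2 : conjS g⁻¹ L₀ ≠ ⊤ := fun e => hL₀.1 (by
    have := congrArg (conjS g) e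
    rw [conjS_conjS, mul_inv_cancel, conjS_one] at this
    rw [this]
    exact map_top_of_surjective _ (MulAut.conj g).surjective)
  have h3 : conjS g⁻¹ L₀ = L₀ := Subgroup.eq_of_le_of_card_ge (minimalOver_le hL₀ hY hmin h1 h2)
    (card_map_of_injective (MulAut.conj g⁻¹).injective).ge
  have h4 := mem_normalizer_of_conjS_eq h3
  rw [minimalOver_normalizer hL₀ hY hmin] at h4
  simpa using inv_mem h4

theorem minimalOver_normalizer_le {Y L₀ P : Subgroup G} (hL₀ : IsCoatom L₀) (hP : P ≤ L₀)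
    (hmin : IsMinimalOver Y) (hYP : Y ≤ P) : Subgroup.normalizer (P : Set G) ≤ L₀ := by
  refine minimalOver_le hL₀ (hYP.trans hP) hmin (hYP.trans Subgroup.le_normalizer) fun h => ?_
  have := normalizer_eq_top_iff.1 h
  exact hL₀.1 (eq_top_iff.2 ((hmin.1.ge.trans (normalClosure_le_normal hYP)).trans hP))

theorem minimalOver_pCore_le {Y L₀ : Subgroup G} (hL₀ : IsCoatom L₀) (hY : Y ≤ L₀)
    (hmin : IsMinimalOver Y) (hYp : IsPGroup p Y) : pCore p G ≤ L₀ := by
  refine le_sup_right.trans (minimalOver_le hL₀ hY hmin (le_sup_left (b := pCore p G)) fun h => ?_)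
  have := pCore_normal (p := p) (G := G)
  have hG : IsPGroup p ↥(⊤ : Subgroup G) := h ▸ IsPGroup.to_sup_of_normal_right hYp pCore_isPGroup
  have hnil : Group.IsNilpotent ↥(⊤ : Subgroup G) := hG.isNilpotent
  have hnil' : Group.IsNilpotent G := Group.nilpotent_of_mulEquiv Subgroup.topEquiv
  exact minimalOver_not_normal hL₀ hY hmin
    ((Group.normalizerCondition_of_isNilpotent (G := G)).normal_of_coatom L₀ hL₀)

theorem minimalOver_sylow {Y L₀ : Subgroup G} (hL₀ : IsCoatom L₀) (T : Sylow p ↥L₀)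
    (hYT : Y ≤ (T : Subgroup ↥L₀).map L₀.subtype) (hmin : IsMinimalOver Y) :
    ∃ P : Sylow p G, (P : Subgroup G) = (T : Subgroup ↥L₀).map L₀.subtype := by
  set T' := (T : Subgroup ↥L₀).map L₀.subtype
  obtain ⟨P, hP⟩ := (T.2.map L₀.subtype).exists_le_sylow
  refine ⟨P, le_antisymm ?_ hP⟩
  by_contra hne
  have hlt : T'.subgroupOf (P : Subgroup G) < ⊤ :=
    lt_top_iff_ne_top.2 fun h => hne (subgroupOf_eq_top.1 h)
  have hnil : Group.IsNilpotent ↥(P : Subgroup G) := P.2.isNilpotent
  obtain ⟨x, hx, hxT⟩ := SetLike.exists_of_lt (Group.normalizerCondition_of_isNilpotent (G := ↥(P : Subgroup G)) _ hlt)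
  have hxn : (x : G) ∈ Subgroup.normalizer (T' : Set G) := mem_normalizer_of_forall fun y hy =>
    (mem_normalizer_iff.1 hx ⟨y, hP hy⟩).1 hy
  have hxL : (x : G) ∈ L₀ := minimalOver_normalizer_le hL₀ (map_subtype_le _) hmin hYT hxn
  have hR : IsPGroup p (((P : Subgroup G).subgroupOf L₀)) := P.2.comap_subtype
  have hTR : (T : Subgroup ↥L₀) ≤ (P : Subgroup G).subgroupOf L₀ := fun y hy => hP ⟨y, hy, rfl⟩
  have hxT' : (⟨x, hxL⟩ : ↥L₀) ∈ (P : Subgroup G).subgroupOf L₀ := x.2
  rw [T.3 hR hTR] at hxT'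
  exact hxT ⟨_, hxT', rfl⟩

/-- The core of `L₀` and normal subgroups inside `L₀`. -/
theorem minimalOver_normal_sylow {Y L₀ : Subgroup G} (hL₀ : IsCoatom L₀) (P : Sylow p G)
    (hYP : Y ≤ (P : Subgroup G)) (hPL : (P : Subgroup G) ≤ L₀) (hmin : IsMinimalOver Y)
    {N : Subgroup G} [N.Normal] (hN : N ≤ L₀) :
    (P : Subgroup G) ⊓ N ≤ pCore p G ∧ IsPClosed p ↥N ∧ ¬ p ∣ (pCoreOf p N).relIndex N := by
  have hPN : (P : Subgroup G) ≤ Subgroup.normalizer (N : Set G) :=
    (normalizer_eq_top (H := N)).ge.trans' le_top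
  obtain ⟨R, hR⟩ := sylow_inf P hPN
  have hn : ((P : Subgroup G) ⊓ N).Normal := by
    refine normalizer_eq_top_iff.1 (by_contra fun h => hL₀.1 (eq_top_iff.2 fun g _ => ?_))
    obtain ⟨a, ha, c, hc, rfl⟩ := frattini_argument (C := N) (L := ⊤) le_top
      (normalizer_eq_top (H := N)).ge R (mem_top g)
    rw [hR, map_subgroupOf_eq_of_le inf_le_right] at ha
    exact L₀.mul_mem (minimalOver_le hL₀ (hYP.trans hPL) hmin
      (hYP.trans (le_normalizer_inf' Subgroup.le_normalizer hPN)) h ha.2) (hN hc)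
  have hle : (P : Subgroup G) ⊓ N ≤ pCore p G := le_pCore P.2.to_inf_left
  refine ⟨hle, ?_, ?_⟩
  · rw [isPClosed_subgroup_iff]
    intro g hg hgp
    obtain ⟨Q, hQ⟩ := ((isPEl_zpowers hgp).comap_subtype (K := N)).exists_le_sylow
    obtain ⟨k, rfl⟩ := MulAction.exists_smul_eq ↥N R Q
    have hgQ := hQ (x := ⟨g, hg⟩) (mem_zpowers g)
    rw [Sylow.smul_def, Sylow.pointwise_smul_def] at hgQ
    obtain ⟨r, hr, hrg⟩ := hgQ
    rw [hR] at hr
    refine le_pCoreOf (inf_le_right : (P : Subgroup G) ⊓ N ≤ N)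
      ((normalizer_eq_top (H := (P : Subgroup G) ⊓ N)).ge.trans' le_top) P.2.to_inf_left ?_
    have e : (k : G) * (r : G) * (k : G)⁻¹ = g := congrArg Subtype.val hrg
    exact e ▸ hn.conj_mem _ hr k
  · intro h
    refine not_dvd_relIndex_sylow_inf P hPN (h.trans (relIndex_dvd_of_le_left N ?_))
    exact le_pCoreOf inf_le_right
      ((normalizer_eq_top (H := (P : Subgroup G) ⊓ N)).ge.trans' le_top) P.2.to_inf_left

theorem minimalOver_core_frattini {Y L₀ : Subgroup G} (hL₀ : IsCoatom L₀) (P : Sylow p G)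
    (hYP : Y ≤ (P : Subgroup G)) (hPL : (P : Subgroup G) ≤ L₀) (hmin : IsMinimalOver Y)
    [(pCore p G).Normal] :
    pCore p G ≤ L₀.normalCore ∧
      (L₀.normalCore).map (QuotientGroup.mk' (pCore p G)) = frattini (G ⧸ pCore p G) := by
  set Q := pCore p G
  set f := QuotientGroup.mk' Q
  have hf : Function.Surjective f := QuotientGroup.mk'_surjective Q
  have hQL : Q ≤ L₀ := (pCore_le_sylow P).trans hPL
  have hQD : Q ≤ L₀.normalCore := normal_le_normalCore.2 hQL
  set D := L₀.normalCore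
  have hDL : D ≤ L₀ := normalCore_le L₀
  obtain ⟨hPD, -, -⟩ := minimalOver_normal_sylow hL₀ P hYP hPL hmin (N := D) hDL
  refine ⟨hQD, le_antisymm ?_ ?_⟩
  · have key : ∀ M : Subgroup G, IsCoatom M → Q ≤ M → D ≤ M := by
      intro M hM hQM
      by_contra hDM
      have htop : D ⊔ M = ⊤ := hM.2 _ (lt_of_le_of_ne le_sup_right fun h => hDM (h.symm ▸ le_sup_left))
      have hidx : ¬ p ∣ M.index := by
        have h1 : M.index = (D ⊓ M).relIndex D := by
          have e2 : D.relIndex M = D.index := by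
            rw [← relIndex_top_right D, ← htop, relIndex_sup_left]
          have e3 := relIndex_mul_index (inf_le_left : D ⊓ M ≤ D)
          have e4 := relIndex_mul_index (inf_le_right : D ⊓ M ≤ M)
          rw [inf_relIndex_right, e2] at e4
          have h5 : D.index * M.index = D.index * (D ⊓ M).relIndex D := by
            rw [e4, ← e3, mul_comm]
          exact Nat.eq_of_mul_eq_mul_left (Nat.pos_of_ne_zero index_ne_zero_of_finite) h5
        rw [h1]
        intro h
        refine not_dvd_relIndex_sylow_inf P (X := D)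
          ((normalizer_eq_top (H := D)).ge.trans' le_top) (h.trans (relIndex_dvd_of_le_left D ?_))
        exact le_inf inf_le_right (hPD.trans hQM)
      obtain ⟨q, hq⟩ := P.2.nonempty_fixed_point_of_prime_not_dvd_card (G ⧸ M) hidx
      obtain ⟨g, rfl⟩ := QuotientGroup.mk_surjective q
      have hgP : conjS g⁻¹ (P : Subgroup G) ≤ M := by
        rintro _ ⟨x, hx, rfl⟩
        have := hq (⟨x, hx⟩ : ↥(P : Subgroup G))
        have e : ((x * g : G) : G ⧸ M) = (g : G ⧸ M) := this
        rw [eq_comm, QuotientGroup.eq] at e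
        simpa [mul_assoc] using e
      have hYM : Y ≤ conjS g M := by
        have := conjS_mono (g := g) ((conjS_mono hYP).trans hgP)
        rwa [conjS_conjS, mul_inv_cancel, conjS_one] at this
      have hne : conjS g M ≠ ⊤ := fun e => hM.1 (by
        have := congrArg (conjS g⁻¹) e
        rw [conjS_conjS, inv_mul_cancel, conjS_one] at this
        rw [this]
        exact map_top_of_surjective _ (MulAut.conj g⁻¹).surjective)
      have h1 : conjS g M ≤ L₀ := minimalOver_le hL₀ (hYP.trans hPL) hmin hYM hne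
      have h2 : conjS g M = L₀ := by
        refine h1.antisymm (le_of_eq ?_)
        by_contra h3
        have hM' : M ≤ conjS g⁻¹ L₀ := by
          have := conjS_mono (g := g⁻¹) h1
          rwa [conjS_conjS, inv_mul_cancel, conjS_one] at this
        have := hM.2 (conjS g⁻¹ L₀) (lt_of_le_of_ne hM' fun e => h3 (by
          rw [e, conjS_conjS, mul_inv_cancel, conjS_one]))
        refine hL₀.1 ?_
        have := congrArg (conjS g) this
        rw [conjS_conjS, mul_inv_cancel, conjS_one] at this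
        rw [this]
        exact map_top_of_surjective _ (MulAut.conj g).surjective
      refine hDM fun d' hd' => ?_
      have h4 : g * d' * g⁻¹ ∈ L₀ := hDL ((normalCore_normal L₀).conj_mem d' hd' g)
      rw [← h2, mem_conjS] at h4
      simpa [mul_assoc] using h4
    refine le_trans ?_ (le_of_eq rfl)
    rw [frattini, Order.radical, le_iInf₂_iff]
    intro M hM
    have hQ' : Q ≤ M.comap f := le_trans (QuotientGroup.ker_mk' Q).ge (ker_le_comap f M)
    refine map_le_iff_le_comap.2 (key _ ⟨fun h => hM.1 ?_, fun K hK => ?_⟩ hQ')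
    · rw [← map_comap_eq_self_of_surjective hf M, h, map_top_of_surjective f hf]
    · have hKeq : (K.map f).comap f = K := by
        rw [comap_map_eq, QuotientGroup.ker_mk']; exact sup_eq_left.2 (hQ'.trans hK.le)
      rw [← hKeq, hM.2 (K.map f) ?_, comap_top]
      rw [← comap_lt_comap_of_surjective hf, hKeq]
      exact hK
  · have hL₀' : IsCoatom (L₀.map f) := by
      have hc : (L₀.map f).comap f = L₀ := by
        rw [comap_map_eq, QuotientGroup.ker_mk']; exact sup_eq_left.2 hQL
      refine ⟨fun h => hL₀.1 (by rw [← hc, h, comap_top]), fun L hL => ?_⟩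
      have h1 : L₀ < L.comap f := hc ▸ (comap_lt_comap_of_surjective hf).2 hL
      rw [← map_comap_eq_self_of_surjective hf L, hL₀.2 _ h1, map_top_of_surjective f hf]
    have hΦ := frattini_le_coatom hL₀'
    have hn : ((frattini (G ⧸ Q)).comap f).Normal := (inferInstance : (frattini (G ⧸ Q)).Normal).comap f
    conv_lhs => rw [← map_comap_eq_self_of_surjective hf (frattini (G ⧸ Q))]
    refine map_mono (normal_le_normalCore.2 ?_)
    refine (comap_mono hΦ).trans (le_of_eq ?_)
    rw [comap_map_eq, QuotientGroup.ker_mk']; exact sup_eq_left.2 hQL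

end CfsgLib.LocalStructure
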