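import Cfsg.Agent.LocalStructure.CharP

/-!
# More on p-reduced subgroups: change of group, Z_L below Y_L
-/

namespace CfsgLib.LocalStructure

open Subgroup Cfsg
open scoped commutatorElement

variable {G : Type*} [Group G] {p : ℕ}

theorem exists_mul_of_mem_sup {H K : Subgroup G} (h : H ≤ Subgroup.normalizer (K : Set G)) {x : G}
    (hx : x ∈ H ⊔ K) : ∃ a ∈ H, ∃ b ∈ K, a * b = x := by
  rw [← SetLike.mem_coe, coe_mul_of_left_le_normalizer_right H K h] at hx
  exact Set.mem_mul.1 hx

theorem exists_mul_pow {C : Subgroup G} {a c : G} (ha : a ∈ Subgroup.normalizer (C : Set G))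
    (hc : c ∈ C) : ∀ n : ℕ, ∃ c' ∈ C, (a * c) ^ n = a ^ n * c' := by
  intro n
  induction n with
  | zero => exact ⟨1, C.one_mem, by simp⟩
  | succ n ih =>
    obtain ⟨c', hc', he⟩ := ih
    refine ⟨(a⁻¹ * c' * a) * c, C.mul_mem ?_ hc, by rw [pow_succ, he, pow_succ]; group⟩
    simpa using (mem_normalizer_iff.1 (inv_mem ha) c').1 hc'

/-- If `V` is reduced in `M` and `L ≤ M C(V)` then `V` is reduced in `L`. -/
theorem IsReducedIn.of_le_sup [Finite G] {V M L : Subgroup G} (h : IsReducedIn p V M) (hVL : V ≤ L)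
    (hL : L ≤ M ⊔ centralizer (V : Set G)) (hM : M ≤ L ⊔ centralizer (V : Set G)) :
    IsReducedIn p V L := by
  set C := centralizer (V : Set G)
  have hCV : C ≤ Subgroup.normalizer (V : Set G) := (centralizer_le_normalizer _)
  have hsup : L ≤ Subgroup.normalizer (V : Set G) := hL.trans (sup_le h.le_normalizer hCV)
  have hMC : M ≤ Subgroup.normalizer (C : Set G) :=
    h.le_normalizer.trans (normalizer_le_normalizer_centralizer V)
  have hLC : L ≤ Subgroup.normalizer (C : Set G) := hsup.trans (normalizer_le_normalizer_centralizer V)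
  refine ⟨hVL, hsup, h.elab', fun D hDL hLD hp d hd => ?_⟩
  have hD' : M ≤ Subgroup.normalizer ((D ⊔ C : Subgroup G) : Set G) := by
    refine hM.trans (sup_le (fun x hx => mem_normalizer_of_forall fun y hy => ?_)
      (le_sup_right.trans Subgroup.le_normalizer))
    have := mem_map_of_mem (MulAut.conj x).toMonoidHom hy
    rw [Subgroup.map_sup, conj_map_eq_of_mem_normalizer (hLD hx),
      conj_map_eq_of_mem_normalizer (hLC hx)] at this
    exact this
  have key := h.reduced ((D ⊔ C) ⊓ M) inf_le_right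
    ((le_inf hD' Subgroup.le_normalizer).trans (le_normalizer_inf _ _)) (fun e he => ?_)
  · obtain ⟨m, hm, c, hc, hmc⟩ := exists_mul_of_mem_sup hMC (hL (hDL hd))
    have : m ∈ D ⊔ C := by
      have e : m = d * c⁻¹ := by rw [← hmc]; group
      exact e ▸ mul_mem (mem_sup_left hd) (inv_mem (mem_sup_right hc))
    exact hmc ▸ mul_mem (key ⟨this, hm⟩) hc
  · obtain ⟨a, ha, b, hb, hab⟩ := exists_mul_of_mem_sup (hDL.trans hLC) he.1
    obtain ⟨k, hk⟩ := hp a ha
    obtain ⟨c', hc', hpow⟩ := exists_mul_pow (hLC (hDL ha)) hb (p ^ k)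
    exact ⟨k, by rw [← hab, hpow]; exact mul_mem hk hc'⟩

theorem map_omegaZ {H : Type*} [Group H] {f : H →* G} (hf : Function.Injective f) (T : Subgroup H) :
    (omegaZ p T).map f = omegaZ p (T.map f) := by
  ext x
  simp only [mem_omegaZ, mem_map, mem_centralizer_iff, coe_map, Set.forall_mem_image,
    SetLike.mem_coe]
  constructor
  · rintro ⟨y, ⟨h1, h2, h3⟩, rfl⟩
    exact ⟨⟨y, h1, rfl⟩, fun z hz => by rw [← map_mul, ← map_mul, h2 z hz], by
      rw [← map_pow, h3, map_one]⟩
  · rintro ⟨⟨y, h1, rfl⟩, h2, h3⟩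
    exact ⟨y, ⟨h1, fun z hz => hf (by simpa using h2 hz), hf (by simpa using h3)⟩, rfl⟩

theorem omegaZ_le_largestPReduced [Finite G] [Fact p.Prime]
    (hchar : centralizer (pCore p G : Set G) ≤ pCore p G) (T : Sylow p G) :
    omegaZ p (T : Subgroup G) ≤ largestPReduced p G := by
  refine le_trans ?_ (le_largestPReduced (isPReducedNormal_normalClosure hchar T le_rfl
    (X := omegaZ p (T : Subgroup G)) ⟨omegaZ_le _,
      (le_centralizer_omegaZ _).trans (centralizer_le_normalizer _), omegaZ_elab _,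
      fun D hD _ _ => hD.trans (le_centralizer_omegaZ _)⟩))
  exact fun x hx => subset_normalClosure hx

theorem sylowCenterClosure_le_largest [Finite G] [Fact p.Prime] {L : Subgroup G}
    (hL : centralizer (pCore p ↥L : Set ↥L) ≤ pCore p ↥L) :
    sylowCenterClosure p L ≤ largestPReducedOf p L :=
  iSup_le fun S => by
    exact (map_omegaZ L.subtype_injective _).ge.trans (map_mono (omegaZ_le_largestPReduced hL S))

end CfsgLib.LocalStructure
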