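import Cfsg.Agent.LocalStructure.CharP
import Cfsg.Agent.LocalStructure.ReducedTools

/-!
# The largest `p`-reduced normal subgroup and subnormal subgroups
-/

namespace CfsgLib.LocalStructure

open Subgroup Cfsg
open scoped commutatorElement

variable {G : Type*} [Group G] [Finite G] {p : ℕ} [Fact p.Prime]

set_option linter.unusedSectionVars false

/-- `A × B` lemma modulo the kernel: a `p'`-element commuting with the `p`-group `P` as far as the
action on the abelian `p`-group `V` goes and centralizing `C_V(P)` centralizes `V`. -/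
theorem mem_centralizer_of_commutes_mod {V P : Subgroup G} (hV : IsPGroup p V)
    (hVc : ∀ a ∈ V, ∀ b ∈ V, a * b = b * a) (hP : IsPGroup p P)
    (hPV : P ≤ Subgroup.normalizer (V : Set G)) {x : G} (hxV : x ∈ Subgroup.normalizer (V : Set G))
    (hx : (orderOf x).Coprime p) (hxP : ∀ a ∈ P, ⁅x, a⁆ ∈ centralizer (V : Set G))
    (hfix : ∀ v ∈ V, v ∈ centralizer (P : Set G) → Commute x v) : x ∈ centralizer (V : Set G) := by
  have hmem : ∀ v ∈ V, ⁅x, v⁆ ∈ V := fun v hv => by
    rw [commutatorElement_def]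
    exact mul_mem ((mem_normalizer_iff.1 hxV v).1 hv) (inv_mem hv)
  have hadd : ∀ v ∈ V, ∀ w ∈ V, ⁅x, v⁆ * ⁅x, w⁆ = ⁅x, v * w⁆ := fun v hv w hw => by
    rw [commutatorElement_mul_right_eq_mul_conj, mul_assoc ⁅x, v⁆ v, mul_assoc ⁅x, v⁆,
      hVc v hv _ (hmem w hw), mul_inv_cancel_right]
  let I : Subgroup G :=
    { carrier := {w | ∃ v ∈ V, ⁅x, v⁆ = w}
      one_mem' := ⟨1, one_mem _, commutatorElement_one_right x⟩
      mul_mem' := by
        rintro _ _ ⟨v, hv, rfl⟩ ⟨w, hw, rfl⟩
        exact ⟨v * w, mul_mem hv hw, (hadd v hv w hw).symm⟩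
      inv_mem' := by
        rintro _ ⟨v, hv, rfl⟩
        refine ⟨v⁻¹, inv_mem hv, eq_inv_of_mul_eq_one_left ?_⟩
        rw [hadd _ (inv_mem hv) _ hv, inv_mul_cancel, commutatorElement_one_right] }
  have hIV : I ≤ V := by rintro _ ⟨v, hv, rfl⟩; exact hmem v hv
  by_contra hne
  have hI : I ≠ ⊥ := fun h => hne (mem_centralizer_iff.2 fun v hv =>
    (commutatorElement_eq_one_iff_mul_comm.1 (mem_bot.1 (h ▸ (⟨v, hv, rfl⟩ : ⁅x, v⁆ ∈ I)))).symm)
  have hPI : P ≤ Subgroup.normalizer (I : Set G) := by
    intro a ha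
    refine mem_normalizer_of_forall ?_
    rintro _ ⟨v, hv, rfl⟩
    refine ⟨a * v * a⁻¹, (mem_normalizer_iff.1 (hPV ha) v).1 hv, ?_⟩
    have hv' := (mem_normalizer_iff.1 (hPV ha) v).1 hv
    have hc := hxP a ha
    have hw := (mem_normalizer_iff.1 (hPV ha) _).1 ((mem_normalizer_iff.1 hxV v).1 hv)
    have e : x * (a * v * a⁻¹) * x⁻¹ = ⁅x, a⁆ * (a * (x * v * x⁻¹) * a⁻¹) * ⁅x, a⁆⁻¹ := by
      rw [commutatorElement_def]; group
    have e2 : x * (a * v * a⁻¹) * x⁻¹ = a * (x * v * x⁻¹) * a⁻¹ := by
      rw [e, ← mem_centralizer_iff.1 hc _ hw, mul_inv_cancel_right]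
    rw [commutatorElement_def, e2, commutatorElement_def]
    group
  obtain ⟨w, ⟨v, hv, rfl⟩, hw1, hwc⟩ := exists_fixed_of_isPGroup hP (hV.to_le hIV) hI hPI
  have hcomm := hfix _ (hmem v hv) hwc
  obtain ⟨k, hk⟩ := hV ⟨_, hmem v hv⟩
  exact hw1 (commutatorElement_eq_one_iff_commute.2
    (commute_of_stab hx (by simpa using congrArg Subtype.val hk) hcomm))

theorem isReducedIn_top_largest : IsReducedIn p (largestPReduced p G) (⊤ : Subgroup G) :=
  (isPReducedNormal_iff_isReducedIn_top _).1 isPReducedNormal_largest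

/-- A subnormal subgroup acting as a `p`-group on a `p`-reduced normal subgroup centralizes it. -/
theorem le_centralizer_of_isSubnormal {Y D : Subgroup G} (hY : IsPReducedNormal p Y)
    (hD : D.IsSubnormal) (hp : ∀ d ∈ D, ∃ k : ℕ, d ^ p ^ k ∈ centralizer (Y : Set G)) :
    D ≤ centralizer (Y : Set G) := by
  obtain ⟨hn, -, hred⟩ := (isPReducedNormal_iff Y).1 hY
  set C := centralizer (Y : Set G)
  have hC : C.Normal := centralizer_normal_of_normal Y
  set f := QuotientGroup.mk' C
  have hsn : (D.map f).IsSubnormal := hD.map (QuotientGroup.mk'_surjective C)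
  have hDp : IsPGroup p (D.map f) := by
    rintro ⟨_, d, hd, rfl⟩
    obtain ⟨k, hk⟩ := hp d hd
    refine ⟨k, Subtype.ext ?_⟩
    show (f d) ^ p ^ k = 1
    rw [← map_pow]
    exact (QuotientGroup.eq_one_iff _).2 hk
  have hcn := pCore_normal (p := p) (G := G ⧸ C)
  intro d hd
  refine hred ((pCore p (G ⧸ C)).comap f) (hcn.comap f) (fun e he => ?_)
    (le_pCore_of_isSubnormal hsn hDp ⟨d, hd, rfl⟩ : f d ∈ pCore p (G ⧸ C))
  obtain ⟨k, hk⟩ := pCore_isPGroup ⟨_, he⟩
  exact ⟨k, (QuotientGroup.eq_one_iff _).1 (by simpa [f] using congrArg Subtype.val hk)⟩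

theorem coprime_mem_centralizer_of_inf {Y L : Subgroup G} [Y.Normal] (hY : IsPGroup p Y)
    (hL : L.IsSubnormal) :
    ∀ x ∈ L, (orderOf x).Coprime p → x ∈ centralizer ((Y ⊓ L : Subgroup G) : Set G) →
      x ∈ centralizer (Y : Set G) := by
  induction hL with
  | top => intro x _ _ h; rwa [inf_top_eq] at h
  | step H K hle _ hN ih =>
    intro x hx hc h
    refine ih x (hle hx) hc (mem_centralizer_of_stab hY.to_inf_left hc h fun b hb => ⟨?_, ?_⟩)
    · rw [commutatorElement_def]
      exact mul_mem ((inferInstance : Y.Normal).conj_mem b hb.1 x) (Y.inv_mem hb.1)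
    · rw [commutatorElement_def, mul_assoc x b, mul_assoc x]
      exact mul_mem hx ((mem_normalizer_iff.1 ((normal_subgroupOf_iff_le_normalizer hle).1 hN hb.2) _).1
        (H.inv_mem hx))

theorem centralizer_inf_largest {L : Subgroup G} (hL : L.IsSubnormal) :
    L ⊓ centralizer ((largestPReduced p G ⊓ L : Subgroup G) : Set G) ≤
      centralizer (largestPReduced p G : Set G) := by
  set Y := largestPReduced p G
  have hY : IsPReducedNormal p Y := isPReducedNormal_largest
  have := hY.1
  set D := L ⊓ centralizer ((Y ⊓ L : Subgroup G) : Set G)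
  have hLn : L ≤ Subgroup.normalizer ((Y ⊓ L : Subgroup G) : Set G) :=
    (le_inf ((normalizer_eq_top_iff.2 hY.1).ge.trans' le_top) Subgroup.le_normalizer).trans
      (le_normalizer_inf Y L)
  have hD : D.IsSubnormal := IsSubnormal.step D L inf_le_left hL
    ((normal_subgroupOf_iff_le_normalizer inf_le_left).2
      ((le_inf Subgroup.le_normalizer (hLn.trans (normalizer_le_normalizer_centralizer _))).trans
        (le_normalizer_inf L _)))
  refine le_centralizer_of_isSubnormal hY hD fun d hd => ?_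
  obtain ⟨k, hk⟩ := exists_pow_mem_pResOf (p := p) hd
  exact ⟨k, pResOf_le_of_forall (N := centralizer (Y : Set G)) (fun x (hx : x ∈ D) hc =>
    coprime_mem_centralizer_of_inf (isElementaryAbelian_isPGroup hY.2.1) hL x hx.1 hc hx.2) hk⟩

theorem isReducedIn_inf_of_isSubnormal {L : Subgroup G} (hL : L.IsSubnormal) :
    IsReducedIn p (largestPReduced p G ⊓ L) L := by
  set Y := largestPReduced p G
  have hY : IsPReducedNormal p Y := isPReducedNormal_largest
  refine ⟨inf_le_right, (le_inf ((normalizer_eq_top_iff.2 hY.1).ge.trans' le_top)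
    Subgroup.le_normalizer).trans (le_normalizer_inf Y L),
    isElementaryAbelian_of_le hY.2.1 inf_le_left, fun D hDL hLD hp => ?_⟩
  refine (le_centralizer_of_isSubnormal hY (IsSubnormal.step D L hDL hL
    ((normal_subgroupOf_iff_le_normalizer hDL).2 hLD)) fun d hd => (hp d hd).imp fun k hk =>
      centralizer_inf_largest hL ⟨pow_mem (hDL hd) _, hk⟩).trans
    (centralizer_le (show ((Y ⊓ L : Subgroup G) : Set G) ⊆ Y from inf_le_left))

/-- The step for the reverse inclusion: `L ⊴ K`, `W = Y_L`. -/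
theorem centralizer_largest_step {L K : Subgroup G} (hLK : L ≤ K)
    (hn : K ≤ Subgroup.normalizer (L : Set G)) :
    L ⊓ centralizer (largestPReducedOf p K : Set G) ≤ centralizer (largestPReducedOf p L : Set G) := by
  set W := largestPReducedOf p L
  have hW := isReducedIn_largest (p := p) L
  have hKW : K ≤ Subgroup.normalizer (W : Set G) := by
    intro k hk
    refine mem_normalizer_of_forall fun w hw => ?_
    have hmap : ∀ y ∈ L, k⁻¹ * y * k ∈ L := fun y hy => by
      simpa using (mem_normalizer_iff.1 (inv_mem (hn hk)) y).1 hy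
    have hred : IsReducedIn p (W.map (MulAut.conj k).toMonoidHom) L := by
      have hc : ∀ d : G, d ∈ centralizer ((W.map (MulAut.conj k).toMonoidHom : Subgroup G) : Set G) ↔
          k⁻¹ * d * k ∈ centralizer (W : Set G) := by
        intro d
        simp only [mem_centralizer_iff, coe_map, Set.forall_mem_image, SetLike.mem_coe,
          MulEquiv.toMonoidHom_eq_coe, MonoidHom.coe_coe, MulAut.conj_apply]
        refine forall₂_congr fun y _ => ⟨fun h => ?_, fun h => ?_⟩
        · calc y * (k⁻¹ * d * k) = k⁻¹ * ((k * y * k⁻¹) * d) * k := by group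
            _ = _ := by rw [h]; group
        · calc k * y * k⁻¹ * d = k * (y * (k⁻¹ * d * k)) * k⁻¹ := by group
            _ = _ := by rw [h]; group
      refine ⟨?_, fun l hl => mem_normalizer_of_forall ?_, ⟨?_, ?_⟩, fun D hDL hLD hp d hd => ?_⟩
      · rintro _ ⟨y, hy, rfl⟩
        exact (mem_normalizer_iff.1 (hn hk) y).1 (hW.le hy)
      · rintro _ ⟨y, hy, rfl⟩
        refine ⟨(k⁻¹ * l * k) * y * (k⁻¹ * l * k)⁻¹,
          (mem_normalizer_iff.1 (hW.le_normalizer (hmap l hl)) y).1 hy, ?_⟩
        simp [mul_assoc]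
      · exact ⟨⟨fun a b => by
          obtain ⟨_, y, hy, rfl⟩ := a
          obtain ⟨_, z, hz, rfl⟩ := b
          exact Subtype.ext (show (MulAut.conj k) y * (MulAut.conj k) z =
            (MulAut.conj k) z * (MulAut.conj k) y by
            rw [← map_mul, ← map_mul, elab_comm hW.elab' hy hz])⟩⟩
      · rintro _ ⟨y, hy, rfl⟩
        rw [← map_pow, hW.elab'.2 y hy, map_one]
      · have h1 := hW.reduced (D.map (MulAut.conj k⁻¹).toMonoidHom) ?_ ?_ ?_ ⟨d, hd, rfl⟩
        · exact (hc d).2 (by simpa using h1)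
        · rintro _ ⟨y, hy, rfl⟩
          simpa using hmap y (hDL hy)
        · intro l hl
          refine mem_normalizer_of_forall ?_
          rintro _ ⟨y, hy, rfl⟩
          refine ⟨(k * l * k⁻¹) * y * (k * l * k⁻¹)⁻¹,
            (mem_normalizer_iff.1 (hLD ((mem_normalizer_iff.1 (hn hk) l).1 hl)) y).1 hy, ?_⟩
          simp [mul_assoc]
        · rintro _ ⟨y, hy, rfl⟩
          obtain ⟨j, hj⟩ := hp y hy
          refine ⟨j, ?_⟩
          rw [← map_pow]
          simpa using (hc _).1 hj
    exact hred.le_largest ⟨w, hw, rfl⟩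
  obtain ⟨W', ⟨hW'W, hKW', hW'c⟩, hmin⟩ := Set.Finite.exists_minimal (Set.toFinite
    {W' : Subgroup G | W' ≤ W ∧ K ≤ Subgroup.normalizer (W' : Set G) ∧
      L ⊓ centralizer (W' : Set G) ≤ centralizer (W : Set G)}) ⟨W, le_rfl, hKW, inf_le_right⟩
  have hW'e := isElementaryAbelian_of_le hW.elab' hW'W
  have hW'r : IsReducedIn p W' K := by
    refine ⟨hW'W.trans (hW.le.trans hLK), hKW', hW'e, fun D hDK hKD hp => ?_⟩
    have hDL : L ⊓ D ≤ centralizer (W : Set G) :=
      hW.reduced (L ⊓ D) inf_le_left ((le_inf Subgroup.le_normalizer (hLK.trans hKD)).trans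
        (le_normalizer_inf L D)) fun d hd => (hp d hd.2).imp fun k hk =>
          hW'c ⟨pow_mem hd.1 _, hk⟩
    obtain ⟨P⟩ : Nonempty (Sylow p ↥D) := inferInstance
    set P' := (P : Subgroup ↥D).map D.subtype
    have hres : pResOf p D ≤ centralizer (W' : Set G) := le_centralizer_of_forall_pow_mem hp
    have hfix : ∀ v ∈ W', v ∈ centralizer (P' : Set G) → v ∈ centralizer (D : Set G) := by
      intro v hv hvP
      have hle : D ≤ centralizer ({v} : Set G) := by
        intro d hd
        have h1 := mem_map_of_mem D.subtype ((sylow_sup_pResidual P).ge (mem_top ⟨d, hd⟩))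
        rw [Subgroup.map_sup, map_pResidual] at h1
        refine sup_le (fun a ha => ?_) (hres.trans (centralizer_le (Set.singleton_subset_iff.2 hv))) h1
        exact mem_centralizer_singleton_iff.2 (mem_centralizer_iff.1 hvP a ha)
      exact mem_centralizer_iff.2 fun d hd => mem_centralizer_singleton_iff.1 (hle hd)
    have hW0 : W' ⊓ centralizer (D : Set G) ∈ {W' : Subgroup G | W' ≤ W ∧
        K ≤ Subgroup.normalizer (W' : Set G) ∧ L ⊓ centralizer (W' : Set G) ≤ centralizer (W : Set G)} := by
      refine ⟨inf_le_left.trans hW'W, (le_inf hKW' (hKD.trans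
        (normalizer_le_normalizer_centralizer D))).trans (le_normalizer_inf _ _), ?_⟩
      set E := L ⊓ centralizer ((W' ⊓ centralizer (D : Set G) : Subgroup G) : Set G)
      refine hW.reduced E inf_le_left ?_ fun d hd => ?_
      · refine (le_inf Subgroup.le_normalizer ?_).trans (le_normalizer_inf L _)
        exact hLK.trans (((le_inf hKW' (hKD.trans (normalizer_le_normalizer_centralizer D))).trans
          (le_normalizer_inf _ _)).trans (normalizer_le_normalizer_centralizer _))
      · obtain ⟨k, hk⟩ := exists_pow_mem_pResOf (p := p) hd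
        refine ⟨k, pResOf_le_of_forall (N := centralizer (W : Set G)) (fun x (hx : x ∈ E) hc => hW'c ⟨hx.1, ?_⟩) hk⟩
        refine mem_centralizer_of_commutes_mod (P := P') (isElementaryAbelian_isPGroup hW'e)
          (fun a ha b hb => elab_comm hW'e ha hb) (P.2.map _)
          ((map_subtype_le _).trans (hDK.trans hKW')) (hKW' (hLK hx.1)) hc (fun a ha => ?_)
          fun v hv hvP => ?_
        · have haD : a ∈ D := map_subtype_le (P : Subgroup ↥D) ha
          refine centralizer_le (show (W' : Set G) ⊆ W from hW'W) (hDL ⟨?_, ?_⟩)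
          · exact le_normalizer_iff_commutator_le_left.1 (hn) (commutator_mem_commutator hx.1 (hDK haD))
          · exact le_normalizer_iff_commutator_le_right.1 (hLK.trans hKD)
              (commutator_mem_commutator hx.1 haD)
        · exact (mem_centralizer_iff.1 hx.2 v ⟨hv, hfix v hv hvP⟩).symm
    intro d hd
    rw [mem_centralizer_iff]
    intro v hv
    exact (mem_centralizer_iff.1 (hmin hW0 inf_le_left hv).2 d hd).symm
  exact (inf_le_inf le_rfl (centralizer_le (show (W' : Set G) ⊆ largestPReducedOf p K from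
    hW'r.le_largest))).trans hW'c

theorem inf_centralizer_le_of_isSubnormal {L : Subgroup G} (hL : L.IsSubnormal) :
    L ⊓ centralizer (largestPReduced p G : Set G) ≤ centralizer (largestPReducedOf p L : Set G) := by
  induction hL with
  | top => rw [largestPReducedOf_top]; exact inf_le_right
  | step H K hle _ hN ih =>
    exact (le_inf inf_le_left ((inf_le_inf hle le_rfl).trans ih)).trans
      (centralizer_largest_step hle ((normal_subgroupOf_iff_le_normalizer hle).1 hN))

end CfsgLib.LocalStructure
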