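import Cfsg.Agent.LocalStructure.PClosed

/-!
# Weakly closed subgroups and weak closures
-/

namespace CfsgLib.LocalStructure

open Subgroup Cfsg
open scoped commutatorElement

variable {G : Type*} [Group G]

/-- `g Q g⁻¹`. -/
abbrev conjS (g : G) (Q : Subgroup G) : Subgroup G := Q.map (MulAut.conj g).toMonoidHom

theorem mem_conjS {g x : G} {Q : Subgroup G} : x ∈ conjS g Q ↔ g⁻¹ * x * g ∈ Q := by
  refine ⟨?_, fun h => ⟨_, h, by simp [mul_assoc]⟩⟩
  rintro ⟨y, hy, rfl⟩
  simpa [mul_assoc] using hy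

theorem conjS_conjS (a b : G) (Q : Subgroup G) : conjS a (conjS b Q) = conjS (a * b) Q := by
  ext x; simp [mem_conjS, mul_assoc]

theorem conjS_one (Q : Subgroup G) : conjS 1 Q = Q := by ext x; simp [mem_conjS]

theorem conjS_mono {g : G} {Q R : Subgroup G} (h : Q ≤ R) : conjS g Q ≤ conjS g R := map_mono h

theorem mem_normalizer_of_conjS_eq {g : G} {Q : Subgroup G} (h : conjS g Q = Q) :
    g ∈ Subgroup.normalizer (Q : Set G) := by
  rw [mem_normalizer_iff]
  intro x
  conv_rhs => rw [← h, mem_conjS]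
  simp [mul_assoc]

theorem conjS_eq_self_iff {g : G} {Q : Subgroup G} :
    conjS g Q = Q ↔ g ∈ Subgroup.normalizer (Q : Set G) :=
  ⟨mem_normalizer_of_conjS_eq, conj_map_eq_of_mem_normalizer⟩

theorem conjS_eq_conjS_iff {a b : G} {Q : Subgroup G} :
    conjS a Q = conjS b Q ↔ b⁻¹ * a ∈ Subgroup.normalizer (Q : Set G) := by
  rw [← conjS_eq_self_iff]
  constructor
  · intro h
    rw [← conjS_conjS, h, conjS_conjS, inv_mul_cancel, conjS_one]
  · intro h
    conv_rhs => rw [← h, conjS_conjS, mul_inv_cancel_left]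

theorem normalizer_conjS (g : G) (Q : Subgroup G) :
    Subgroup.normalizer (conjS g Q : Set G) = conjS g (Subgroup.normalizer (Q : Set G)) := by
  ext x
  rw [mem_conjS, ← conjS_eq_self_iff, ← conjS_eq_self_iff, conjS_conjS]
  conv_rhs => rw [mul_assoc, ← conjS_conjS, ← conjS_conjS]
  constructor
  · intro h
    rw [conjS_conjS x g, h, conjS_conjS, inv_mul_cancel, conjS_one]
  · intro h
    have := congrArg (conjS g) h
    simpa [conjS_conjS, ← mul_assoc] using this

theorem centralizer_conjS (g : G) (Q : Subgroup G) :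
    centralizer (conjS g Q : Set G) = conjS g (centralizer (Q : Set G)) := by
  ext x
  simp only [mem_conjS, mem_centralizer_iff, coe_map, Set.forall_mem_image, SetLike.mem_coe]
  refine forall₂_congr fun y hy => ?_
  simp only [MulEquiv.toMonoidHom_eq_coe, MonoidHom.coe_coe, MulAut.conj_apply]
  constructor
  · intro h
    calc y * (g⁻¹ * x * g) = g⁻¹ * ((g * y * g⁻¹) * x) * g := by group
      _ = g⁻¹ * (x * (g * y * g⁻¹)) * g := by rw [h]
      _ = _ := by group
  · intro h
    calc g * y * g⁻¹ * x = g * (y * (g⁻¹ * x * g)) * g⁻¹ := by group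
      _ = g * ((g⁻¹ * x * g) * y) * g⁻¹ := by rw [h]
      _ = _ := by group

theorem isPGroup_sup {p : ℕ} {P Q : Subgroup G} (hP : IsPGroup p P) (hQ : IsPGroup p Q)
    (h : P ≤ Subgroup.normalizer (Q : Set G)) : IsPGroup p ↥(P ⊔ Q) :=
  hP.to_sup_of_normal_right' hQ h

variable [Finite G] {p : ℕ} [Fact p.Prime]

set_option linter.unusedSectionVars false

theorem exists_sylow_conj {K : Subgroup G} {P S : Subgroup G} (hP : IsPGroup p P) (hPK : P ≤ K)
    (hS : IsPGroup p S) (hSK : S ≤ K) :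
    ∃ k ∈ K, ∃ R : Subgroup G, IsPGroup p R ∧ R ≤ K ∧ P ≤ R ∧ conjS k S ≤ R := by
  obtain ⟨A, hA⟩ := (hP.comap_subtype (K := K)).exists_le_sylow
  obtain ⟨B, hB⟩ := (hS.comap_subtype (K := K)).exists_le_sylow
  obtain ⟨k, hk⟩ := MulAction.exists_smul_eq ↥K B A
  refine ⟨k, k.2, (A : Subgroup ↥K).map K.subtype, A.2.map _, map_subtype_le _,
    fun x hx => ⟨⟨x, hPK hx⟩, hA hx, rfl⟩, ?_⟩
  rintro _ ⟨x, hx, rfl⟩
  refine ⟨k * ⟨x, hSK hx⟩ * k⁻¹, ?_, rfl⟩
  rw [← hk, Sylow.smul_def, Sylow.pointwise_smul_def]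
  exact ⟨⟨x, hSK hx⟩, hB hx, rfl⟩

/-- A weakly closed subgroup is its only conjugate in any `p`-subgroup containing it. -/
theorem wc_unique {Q : Subgroup G} (h : IsWeaklyClosedSubgroup p Q) {R : Subgroup G}
    (hR : IsPGroup p R) (hQR : Q ≤ R) {g : G} (hg : conjS g Q ≤ R) : conjS g Q = Q := by
  obtain ⟨T, hQT, hT⟩ := h
  obtain ⟨P, hP⟩ := hR.exists_le_sylow
  obtain ⟨x, hx⟩ := MulAction.exists_smul_eq G P T
  have hxT : conjS x R ≤ (T : Subgroup G) := by
    rw [← hx, Sylow.smul_def, Sylow.pointwise_smul_def]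
    exact map_mono hP
  have h1 : conjS x Q = Q := hT x ((conjS_mono hQR).trans hxT)
  have h2 : conjS (x * g) Q = Q := hT (x * g) ((conjS_conjS x g Q).ge.trans ((conjS_mono hg).trans hxT))
  calc conjS g Q = conjS x⁻¹ (conjS (x * g) Q) := by rw [conjS_conjS, inv_mul_cancel_left]
    _ = conjS x⁻¹ (conjS x Q) := by rw [h2, h1]
    _ = Q := by rw [conjS_conjS, inv_mul_cancel, conjS_one]

theorem wc_normalizer_le {Q : Subgroup G} (h : IsWeaklyClosedSubgroup p Q) {R : Subgroup G}
    (hR : IsPGroup p R) (hQR : Q ≤ R) :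
    Subgroup.normalizer (R : Set G) ≤ Subgroup.normalizer (Q : Set G) := fun g hg =>
  mem_normalizer_of_conjS_eq (wc_unique h hR hQR
    ((conjS_mono hQR).trans (conj_map_eq_of_mem_normalizer hg).le))

theorem wc_le_normalizer {Q : Subgroup G} (h : IsWeaklyClosedSubgroup p Q) {R : Subgroup G}
    (hR : IsPGroup p R) (hQR : Q ≤ R) : R ≤ Subgroup.normalizer (Q : Set G) :=
  Subgroup.le_normalizer.trans (wc_normalizer_le h hR hQR)

theorem wc_eq_of_normalizing {Q : Subgroup G} (hQ : IsPGroup p Q) (h : IsWeaklyClosedSubgroup p Q)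
    {g : G} (h1 : conjS g Q ≤ Subgroup.normalizer (Q : Set G)) : conjS g Q = Q :=
  wc_unique h (isPGroup_sup (hQ.map _) hQ h1) le_sup_right le_sup_left

/-- Conjugates of `Q` inside `K ≥ Q` are conjugate to `Q` in `K`. -/
theorem wc_conj_in {Q : Subgroup G} (hQ : IsPGroup p Q) (h : IsWeaklyClosedSubgroup p Q)
    {K : Subgroup G} (hQK : Q ≤ K) {g : G} (hg : conjS g Q ≤ K) :
    ∃ k ∈ K, conjS g Q = conjS k Q := by
  obtain ⟨k, hk, R, hR, _, hQR, hkR⟩ := exists_sylow_conj hQ hQK (hQ.map _) hg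
  rw [conjS_conjS] at hkR
  refine ⟨k⁻¹, inv_mem hk, ?_⟩
  calc conjS g Q = conjS k⁻¹ (conjS (k * g) Q) := by rw [conjS_conjS, inv_mul_cancel_left]
    _ = conjS k⁻¹ Q := by rw [wc_unique h hR hQR hkR]

/-- The commutator criterion. -/
theorem wc_of_commutator {Q : Subgroup G} (hQ : IsPGroup p Q)
    (hb : ∀ g : G, ⁅Q, conjS g Q⁆ ≤ Q ⊓ conjS g Q → conjS g Q = Q) :
    ∀ R : Subgroup G, IsPGroup p R → Q ≤ R →
      Subgroup.normalizer (R : Set G) ≤ Subgroup.normalizer (Q : Set G) := by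
  have key : ∀ g : G, conjS g Q ≤ Subgroup.normalizer (Q : Set G) →
      Q ≤ Subgroup.normalizer (conjS g Q : Set G) → conjS g Q = Q := fun g h1 h2 =>
    hb g (le_inf (le_normalizer_iff_commutator_le_left.1 h1)
      (le_normalizer_iff_commutator_le_right.1 h2))
  intro R hR hQR
  set N := R ⊓ Subgroup.normalizer (Q : Set G) with hN
  have hQN : Q ≤ N := le_inf hQR Subgroup.le_normalizer
  have hRN : R ≤ Subgroup.normalizer (Q : Set G) := by
    by_contra hne
    have hlt : N.subgroupOf R < ⊤ := lt_top_iff_ne_top.2 fun htop =>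
      hne fun r hr => ((subgroupOf_eq_top.1 htop) hr).2
    have hnil : Group.IsNilpotent ↥R := hR.isNilpotent
    have := Group.normalizerCondition_of_isNilpotent (G := ↥R) _ hlt
    obtain ⟨x, hx, hxN⟩ := SetLike.exists_of_lt this
    have hxn : ∀ y ∈ N, (x : G) * y * (x : G)⁻¹ ∈ N := fun y hy =>
      (mem_normalizer_iff.1 hx ⟨y, hy.1⟩).1 hy
    have hNN : conjS (x : G) N = N :=
      conjS_eq_self_iff.2 (mem_normalizer_of_forall hxn)
    refine hxN ⟨x.2, mem_normalizer_of_conjS_eq (key x ?_ ?_)⟩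
    · exact (conjS_mono hQN).trans (hNN.le.trans inf_le_right)
    · rw [normalizer_conjS]
      exact hQN.trans (hNN.ge.trans (conjS_mono inf_le_right))
  intro g hg
  refine mem_normalizer_of_conjS_eq (key g ?_ ?_)
  · exact (conjS_mono hQR).trans ((conj_map_eq_of_mem_normalizer hg).le.trans hRN)
  · rw [normalizer_conjS]
    exact hQR.trans ((conj_map_eq_of_mem_normalizer hg).ge.trans (conjS_mono hRN))

theorem wc_of_normalizer {Q : Subgroup G} (hQ : IsPGroup p Q)
    (hc : ∀ R : Subgroup G, IsPGroup p R → Q ≤ R →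
      Subgroup.normalizer (R : Set G) ≤ Subgroup.normalizer (Q : Set G)) :
    IsWeaklyClosedSubgroup p Q := by
  obtain ⟨T, hT⟩ := hQ.exists_le_sylow
  refine ⟨T, hT, fun g hg => ?_⟩
  change conjS g Q = Q
  change conjS g Q ≤ (T : Subgroup G) at hg
  have hgT : Q ≤ conjS g⁻¹ (T : Subgroup G) := by
    have := conjS_mono (g := g⁻¹) hg
    rwa [conjS_conjS, inv_mul_cancel, conjS_one] at this
  have hTP : (T : Subgroup G) ≤ Subgroup.normalizer (conjS g Q : Set G) := by
    rw [normalizer_conjS]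
    have := conjS_mono (g := g) (Subgroup.le_normalizer.trans (hc _ (T.2.map _) hgT))
    rwa [conjS_conjS, mul_inv_cancel, conjS_one] at this
  have hgTP : conjS g (T : Subgroup G) ≤ Subgroup.normalizer (conjS g Q : Set G) := by
    rw [normalizer_conjS]
    exact conjS_mono (Subgroup.le_normalizer.trans (hc _ T.2 hT))
  obtain ⟨k, hk, R, hR, -, hTR, hkR⟩ := exists_sylow_conj T.2 hTP (T.2.map _) hgTP
  have hRT : R = T := T.3 hR hTR
  rw [hRT, conjS_conjS] at hkR
  have hkg : conjS (k * g) (T : Subgroup G) = T :=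
    Subgroup.eq_of_le_of_card_ge hkR
      (card_map_of_injective (MulAut.conj (k * g)).injective).ge
  have h1 := conj_map_eq_of_mem_normalizer (hc _ T.2 hT (mem_normalizer_of_conjS_eq hkg))
  calc conjS g Q = conjS k (conjS g Q) := (conj_map_eq_of_mem_normalizer hk).symm
    _ = Q := by rw [conjS_conjS]; exact h1

theorem conjS_le_weakClosure {Q L : Subgroup G} {g : G} (h : conjS g Q ≤ L) :
    conjS g Q ≤ weakClosure Q L :=
  le_iSup (fun g : {g : G // Q.map (MulAut.conj g).toMonoidHom ≤ L} =>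
    Q.map (MulAut.conj (g : G)).toMonoidHom) ⟨g, h⟩

theorem weakClosure_le_iff {Q L X : Subgroup G} :
    weakClosure Q L ≤ X ↔ ∀ g : G, conjS g Q ≤ L → conjS g Q ≤ X :=
  iSup_le_iff.trans ⟨fun h g hg => h ⟨g, hg⟩, fun h g => h g g.2⟩

theorem weakClosure_le {Q L : Subgroup G} : weakClosure Q L ≤ L :=
  weakClosure_le_iff.2 fun _ hg => hg

theorem self_le_weakClosure {Q L : Subgroup G} (h : Q ≤ L) : Q ≤ weakClosure Q L :=
  (conjS_one Q).ge.trans (conjS_le_weakClosure ((conjS_one Q).le.trans h))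

theorem normalizer_le_normalizer_weakClosure (Q L : Subgroup G) :
    Subgroup.normalizer (L : Set G) ≤ Subgroup.normalizer (weakClosure Q L : Set G) := by
  intro x hx
  refine mem_normalizer_of_forall fun y hy => ?_
  have : conjS x (weakClosure Q L) ≤ weakClosure Q L := by
    rw [conjS, map_le_iff_le_comap, weakClosure_le_iff]
    intro g hg
    rw [← map_le_iff_le_comap]
    change conjS x (conjS g Q) ≤ _
    rw [conjS_conjS]
    refine conjS_le_weakClosure ((conjS_conjS x g Q).ge.trans ((conjS_mono hg).trans ?_))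
    exact (conj_map_eq_of_mem_normalizer hx).le
  exact this ⟨y, hy, rfl⟩

/-- Weakly closed subgroups pass to quotients. -/
theorem wc_map_quotient {Q : Subgroup G} (hQ : IsPGroup p Q) (h : IsWeaklyClosedSubgroup p Q)
    (N : Subgroup G) [N.Normal] : IsWeaklyClosedSubgroup p (Q.map (QuotientGroup.mk' N)) := by
  obtain ⟨T, hT⟩ := hQ.exists_le_sylow
  have hf := QuotientGroup.mk'_surjective N
  refine ⟨T.mapSurjective hf, ?_, fun g hg => ?_⟩
  · rw [Sylow.coe_mapSurjective]; exact map_mono hT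
  obtain ⟨x, rfl⟩ := hf g
  have e : (Q.map (QuotientGroup.mk' N)).map (MulAut.conj (QuotientGroup.mk' N x)).toMonoidHom =
      (conjS x Q).map (QuotientGroup.mk' N) := by
    rw [map_map, map_map]
    congr 1
  rw [Sylow.coe_mapSurjective, e, map_le_iff_le_comap, comap_map_eq, QuotientGroup.ker_mk'] at hg
  rw [e]
  obtain ⟨k, hk, hkQ⟩ := wc_conj_in hQ h (hT.trans le_sup_left) hg
  obtain ⟨t, ht, n, hn, rfl⟩ := mem_sup_of_normal_right.1 hk
  rw [hkQ]
  have hQt : conjS t Q = Q := conjS_eq_self_iff.2 (wc_le_normalizer h T.2 hT ht)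
  have hn' : QuotientGroup.mk' N (t * n) = QuotientGroup.mk' N t := by
    rw [map_mul, (QuotientGroup.eq_one_iff n).2 hn |> fun h => (show QuotientGroup.mk' N n = 1 from h),
      mul_one]
  have e2 : ∀ a : G, (conjS a Q).map (QuotientGroup.mk' N) =
      conjS (QuotientGroup.mk' N a) (Q.map (QuotientGroup.mk' N)) := by
    intro a
    rw [conjS, conjS, map_map, map_map]
    congr 1
  rw [e2, hn', ← e2, hQt]

end CfsgLib.LocalStructure
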